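import Groth.Agent.GeomComp.SectionOpen
import Groth.Agent.VarietyBC.Components
import Groth.Agent.GrpschAbsch.FibreFlat
import Mathlib

/-!
Components of fibres meeting the image of a universally open family.
-/

set_option autoImplicit false
universe u

open AlgebraicGeometry CategoryTheory Limits Topology TopologicalSpace

namespace Groth.GeomComp

/-- Components of the fibres of a base change surject onto components of the fibres. -/
theorem image_connectedComponentIn_of_isPullback {X Y X' Y' : Scheme.{u}} {a : X' ⟶ X} {f' : X' ⟶ Y'} {f : X ⟶ Y}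
    {g : Y' ⟶ Y} (hc : IsPullback a f' f g) (z : X') :
    a.base '' connectedComponentIn (f'.base ⁻¹' {f'.base z}) z =
      connectedComponentIn (f.base ⁻¹' {f.base (a.base z)}) (a.base z) := by
  obtain ⟨y', w, rfl⟩ : ∃ (y' : Y') (w : f'.fiber y'), f'.fiberι y' w = z := ⟨_, _, f'.fiberι_asFiber z⟩
  let τ := g.residueFieldMap y'
  let q : f'.fiber y' ⟶ f.fiber (g y') := pullback.lift (f'.fiberι y' ≫ a)
    (f'.fiberToSpecResidueField y' ≫ Spec.map τ) (by
      rw [Category.assoc, hc.w, reassoc_of% (f'.fiber_fac y'), Category.assoc,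
        Scheme.Hom.SpecMap_residueFieldMap_fromSpecResidueField])
  have hq1 : q ≫ f.fiberι (g y') = f'.fiberι y' ≫ a := pullback.lift_fst ..
  have hq2 : q ≫ f.fiberToSpecResidueField (g y') = f'.fiberToSpecResidueField y' ≫ Spec.map τ :=
    pullback.lift_snd ..
  have hbig : IsPullback (f'.fiberι y' ≫ a) (f'.fiberToSpecResidueField y') f
      (Y'.fromSpecResidueField y' ≫ g) :=
    IsPullback.paste_horiz (IsPullback.of_hasPullback f' (Y'.fromSpecResidueField y')) hc
  rw [← Scheme.Hom.SpecMap_residueFieldMap_fromSpecResidueField, ← hq1] at hbig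
  have hsq : IsPullback q (f'.fiberToSpecResidueField y') (f.fiberToSpecResidueField (g y'))
      (Spec.map τ) :=
    hbig.of_right hq2 (IsPullback.of_hasPullback f (Y.fromSpecResidueField (g y')))
  have hqw : a.base (f'.fiberι y' w) = f.fiberι (g y') (q w) := by
    rw [← Scheme.Hom.comp_apply, ← Scheme.Hom.comp_apply, hq1]
  have key : q.base '' connectedComponent w = connectedComponent (q w) := by
    letI : Algebra (IsLocalRing.ResidueField (Y.presheaf.stalk (g y'))) (IsLocalRing.ResidueField (Y'.presheaf.stalk y')) :=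
      τ.hom.toAlgebra
    letI : (f.fiber (g y')).Over (Spec (CommRingCat.of (IsLocalRing.ResidueField (Y.presheaf.stalk (g y'))))) :=
      ⟨f.fiberToSpecResidueField (g y')⟩
    let i : f'.fiber y' ≅ Curv2.bc (IsLocalRing.ResidueField (Y.presheaf.stalk (g y'))) (f.fiber (g y'))
        (IsLocalRing.ResidueField (Y'.presheaf.stalk y')) := hsq.isoPullback
    have hi : i.hom ≫ Curv2.bcFst _ _ _ = q := hsq.isoPullback_hom_fst
    have hh : i.hom.base '' connectedComponent w = connectedComponent (i.hom w) := by
      refine (i.hom.continuous.image_connectedComponent_subset w).antisymm fun v hv => ?_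
      obtain ⟨v', rfl⟩ := i.hom.surjective v
      refine ⟨v', ?_, rfl⟩
      have h2 := i.inv.continuous.image_connectedComponent_subset (i.hom w) ⟨_, hv, rfl⟩
      rwa [Scheme.hom_inv_apply, Scheme.hom_inv_apply] at h2
    have := Groth.VarietyBC.image_connectedComponent_bcFst _ (i.hom w)
    rw [← hh, Set.image_image] at this
    rw [← hi]
    exact this
  rw [show f'.base (f'.fiberι y' w) = y' from Groth.FibreDim.apply_fiberι _ _ _, hqw,
    show f.base (f.fiberι (g y') (q w)) = g y' from Groth.FibreDim.apply_fiberι _ _ _,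
    connectedComponentIn_eq_image_fiber, connectedComponentIn_eq_image_fiber, ← key, Set.image_image, Set.image_image]
  refine Set.image_congr fun v _ => ?_
  rw [← Scheme.Hom.comp_apply, ← Scheme.Hom.comp_apply, hq1]

/-- The union of the fibre components meeting the image of a universally open family is open. -/
theorem exists_open_components_meeting_image {S S' X : Scheme.{u}} (f : X ⟶ S) [Flat f]
    [LocallyOfFinitePresentation f] [QuasiCompact f] [QuasiSeparated f] [GeometricallyReduced f]
    (g : S' ⟶ S) [UniversallyOpen g] (e : S' ⟶ X) (he : e ≫ f = g) :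
    ∃ U : X.Opens, ∀ s : S, (U : Set X) ∩ f.base ⁻¹' {s} =
      ⋃ x ∈ Set.range e.base ∩ f.base ⁻¹' {s}, connectedComponentIn (f.base ⁻¹' {s}) x := by
  let a := pullback.fst f g
  let f' := pullback.snd f g
  let σ : S' ⟶ pullback f g := pullback.lift e (𝟙 _) (by rw [he, Category.id_comp])
  have hσ : σ ≫ f' = 𝟙 _ := pullback.lift_snd _ _ _
  haveI : LocallyOfFinitePresentation f' := MorphismProperty.pullback_snd _ _ inferInstance
  haveI : QuasiCompact f' := MorphismProperty.pullback_snd _ _ inferInstance
  haveI : QuasiSeparated f' := MorphismProperty.pullback_snd _ _ inferInstance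
  haveI : Flat f' := MorphismProperty.pullback_snd _ _ inferInstance
  haveI : GeometricallyReduced f' := MorphismProperty.pullback_snd _ _ inferInstance
  haveI : UniversallyOpen a := MorphismProperty.pullback_fst _ _ inferInstance
  have hopen : IsOpen (MoreMor.sectionComponents f' σ) := isOpen_iff_mem_nhds.mpr fun x hx =>
    mem_interior_iff_mem_nhds.mp (component_subset_interior f' σ hσ (f'.base x)
      (MorphismProperty.pullback_snd f' _ inferInstance) hx)
  refine ⟨⟨a.base '' MoreMor.sectionComponents f' σ, a.isOpenMap _ hopen⟩, fun s => ?_⟩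
  have hea : ∀ p, a.base (σ.base p) = e.base p := fun p => by
    rw [← Scheme.Hom.comp_apply, pullback.lift_fst]
  have hfe : ∀ p, f.base (e.base p) = g.base p := fun p => by
    rw [← Scheme.Hom.comp_apply, he]
  have hcomp : ∀ p, a.base '' connectedComponentIn (f'.base ⁻¹' {p}) (σ.base p) =
      connectedComponentIn (f.base ⁻¹' {g.base p}) (e.base p) := fun p => by
    have := image_connectedComponentIn_of_isPullback (IsPullback.of_hasPullback f g) (σ.base p)
    rwa [show f'.base (σ.base p) = p by rw [← Scheme.Hom.comp_apply, hσ]; rfl, hea, hfe] at this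
  ext x
  simp only [Set.mem_iUnion, exists_prop]
  constructor
  · rintro ⟨⟨z, hz, rfl⟩, hxs⟩
    have h1 : a.base z ∈ connectedComponentIn (f.base ⁻¹' {g.base (f'.base z)}) (e.base (f'.base z)) :=
      (hcomp _).le ⟨z, hz, rfl⟩
    have h2 : g.base (f'.base z) = s := by
      rw [← hxs, ← Scheme.Hom.comp_apply, ← Scheme.Hom.comp_apply, pullback.condition]
    rw [h2] at h1
    exact ⟨e.base (f'.base z), ⟨⟨_, rfl⟩, (hfe _).trans h2⟩, h1⟩
  · rintro ⟨_, ⟨⟨p, rfl⟩, hp⟩, hx⟩
    have hps : g.base p = s := (hfe p).symm.trans hp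
    refine ⟨?_, connectedComponentIn_subset (f.base ⁻¹' {s}) (e.base p) hx⟩
    rw [← hps, ← hcomp p] at hx
    obtain ⟨z, hz, rfl⟩ := hx
    refine ⟨z, ?_, rfl⟩
    show z ∈ connectedComponentIn (f'.base ⁻¹' {f'.base z}) (σ.base (f'.base z))
    rw [show f'.base z = p from connectedComponentIn_subset (f'.base ⁻¹' {p}) (σ.base p) hz]
    exact hz

end Groth.GeomComp
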