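import Groth.Agent.GeomComp.EtaleSpread
import Groth.Agent.GeomComp.MeetingOpen
import Groth.Agent.FBaseGeom.Geometric
import Mathlib

/-!
Étale covers by families with geometrically connected fibres.
-/

set_option autoImplicit false
universe u

open AlgebraicGeometry CategoryTheory Limits Topology TopologicalSpace

namespace Groth.GeomComp

/-- A nonempty open of a geometrically reduced fibre meets an étale multisection. -/
theorem exists_etale_multisection {Y S : Scheme.{u}} (h : Y ⟶ S) [Flat h] [LocallyOfFinitePresentation h]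
    [GeometricallyReduced h] (s : S) (T : (h.fiber s).Opens) (hT : (T : Set (h.fiber s)).Nonempty) :
    ∃ (Z : Scheme.{u}) (i : Z ⟶ Y) (z : Z) (c : h.fiber s), IsAffine Z ∧ Etale (i ≫ h) ∧ c ∈ T ∧
      i.base z = (h.fiberι s).base c ∧ (i ≫ h).base z = s := by
  let k := IsLocalRing.ResidueField (S.presheaf.stalk s)
  letI : (h.fiber s).Over (Spec (CommRingCat.of k)) := ⟨h.fiberToSpecResidueField s⟩
  haveI : LocallyOfFiniteType (h.fiber s ↘ Spec (CommRingCat.of k)) := MorphismProperty.pullback_snd _ _ inferInstance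
  haveI : LocallyOfFinitePresentation (h.fiber s ↘ Spec (CommRingCat.of k)) :=
    MorphismProperty.pullback_snd _ _ inferInstance
  haveI hgr : GeometricallyReduced (h.fiber s ↘ Spec (CommRingCat.of k)) := MorphismProperty.pullback_snd _ _ inferInstance
  haveI : IsReduced (h.fiber s) := by
    haveI : Subsingleton ↥(Spec (CommRingCat.of k)) := inferInstanceAs (Subsingleton (PrimeSpectrum k))
    exact self_of_isIntegral_of_geometrically hgr.geometrically_isReduced
  let str := h.fiber s ↘ Spec (CommRingCat.of k)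
  obtain ⟨c₀, hc₀T, hc₀sm⟩ := (Groth.VarietyBC.dense_smoothLocus (k := k) (X := h.fiber s)).inter_open_nonempty
    (T : Set (h.fiber s)) T.isOpen hT
  let O : (h.fiber s).Opens := T ⊓ str.smoothLocus
  letI : (O : Scheme.{u}).Over (Spec (CommRingCat.of k)) := ⟨O.ι ≫ str⟩
  haveI : Smooth ((O : Scheme.{u}) ↘ Spec (CommRingCat.of k)) :=
    Groth.Variety2.smooth_of_le_smoothLocus str O inf_le_right
  obtain ⟨c', -, -, -, hsep'⟩ := Groth.VarietyBC.exists_closed_separable (k := k) (X := (O : Scheme.{u})) (O := ⊤)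
    ⟨⟨c₀, hc₀T, hc₀sm⟩, trivial⟩
  let c : h.fiber s := O.ι.base c'
  have hsep : letI := Curv2.resAlgebra k (h.fiber s) c; Algebra.IsSeparable k ((h.fiber s).residueField c) := by
    letI := Curv2.resAlgebra k (h.fiber s) c
    letI := Curv2.resAlgebra k (O : Scheme.{u}) c'
    let e : (h.fiber s).residueField c ≃+* (O : Scheme.{u}).residueField c' :=
      RingEquiv.ofBijective (O.ι.residueFieldMap c').hom (Groth.SpectralTopology.bijective_residueFieldMap O.ι c')
    haveI := hsep'
    refine Algebra.IsSeparable.of_equiv_equiv (RingEquiv.refl k) e.symm (RingHom.ext fun r => ?_)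
    apply e.injective
    have hcomp : CommRingCat.ofHom (Curv2.resMap k (O : Scheme.{u}) c') =
        CommRingCat.ofHom (Curv2.resMap k (h.fiber s) c) ≫ O.ι.residueFieldMap c' := by
      apply Spec.map_injective
      rw [Spec.map_comp, ← Groth.VarietyBC.fromSpecResidueField_str (k := k) c',
        ← Groth.VarietyBC.fromSpecResidueField_str (k := k) c, ← Category.assoc,
        Scheme.Hom.SpecMap_residueFieldMap_fromSpecResidueField, Category.assoc]
      rfl
    simp only [RingHom.comp_apply, RingEquiv.coe_toRingHom, RingEquiv.apply_symm_apply]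
    exact (congrArg (fun m => m.hom r) hcomp).symm
  let yc := (h.fiberι s).base c
  have hycsm : yc ∈ h.smoothLocus := mem_smoothLocus_of_fiber h s c c'.2.2
  let Ys : Y.Opens := h.smoothLocus
  haveI : Smooth (Ys.ι ≫ h) := Groth.Variety2.smooth_of_le_smoothLocus h Ys le_rfl
  obtain ⟨Z, i, z, -, hZet, hiz, -⟩ := Groth.SmoothSlice.exists_etale_slice_through (Ys.ι ≫ h) ⟨yc, hycsm⟩ (by
    have h1 := isSeparable_residueFieldMap_of_fibre h s c hsep yc rfl
    letI := (h.residueFieldMap yc).hom.toAlgebra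
    letI := ((Ys.ι ≫ h).residueFieldMap ⟨yc, hycsm⟩).hom.toAlgebra
    haveI := h1
    refine Algebra.IsSeparable.of_equiv_equiv (A₁ := S.residueField (h.base yc)) (B₁ := Y.residueField yc)
      (RingEquiv.refl _) (RingEquiv.ofBijective (Ys.ι.residueFieldMap ⟨yc, hycsm⟩).hom
        (Groth.SpectralTopology.bijective_residueFieldMap Ys.ι _)) ?_
    exact Groth.SpectralTopology.hom_comp Ys.ι h ⟨yc, hycsm⟩)
  obtain ⟨Za, hZa, hzZa, -⟩ := exists_isAffineOpen_mem_and_subset (U := ⊤) (Set.mem_univ z)
  refine ⟨Za, Za.ι ≫ i ≫ Ys.ι, ⟨z, hzZa⟩, c, hZa, ?_, c'.2.1, ?_, ?_⟩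
  · haveI := hZet
    have : Etale (Za.ι ≫ (i ≫ Ys.ι ≫ h)) := inferInstance
    simpa only [Category.assoc] using this
  · show Ys.ι.base (i.base z) = _
    rw [hiz]; rfl
  · show h.base (Ys.ι.base (i.base z)) = s
    rw [hiz]; exact Groth.FibreDim.apply_fiberι h s c

/-- A rational point makes a connected scheme geometrically connected. -/
theorem geometricallyConnected_of_rationalPoint {k : Type u} [Field k] {X : Scheme.{u}} [ConnectedSpace X]
    (p : X ⟶ Spec (CommRingCat.of k)) (e : Spec (CommRingCat.of k) ⟶ X) (he : e ≫ p = 𝟙 _) :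
    GeometricallyConnected p := by
  letI : X.Over (Spec (CommRingCat.of k)) := ⟨p⟩
  let x := e.base (IsLocalRing.closedPoint k)
  show GeometricallyConnected (X ↘ Spec (CommRingCat.of k))
  refine Groth.FBaseGeom.geometricallyConnected_of_sepClosedAt (k := k) (X := X) (x0 := x) fun a _ => ?_
  let φ : X.residueField x ⟶ CommRingCat.of k := (Scheme.SpecToEquivOfField k X e).2
  have hφ : Spec.map φ ≫ X.fromSpecResidueField x = e := (Scheme.SpecToEquivOfField k X).left_inv e
  have h1 : CommRingCat.ofHom (Curv2.resMap k X x) ≫ φ = 𝟙 _ := by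
    apply Spec.map_injective
    rw [Spec.map_comp, ← Groth.VarietyBC.fromSpecResidueField_str (k := k) x, Spec.map_id]
    exact ((Category.assoc _ _ _).symm.trans (congrArg (· ≫ _) hφ)).trans he
  refine ⟨φ.hom a, φ.hom.injective ?_⟩
  exact congrArg (fun m => m.hom (φ.hom a)) h1

theorem exists_etale_cover_affine {X S : Scheme.{u}} [IsAffine X] [IsAffine S] (f : X ⟶ S) [Flat f]
    [LocallyOfFinitePresentation f] [GeometricallyReduced f] (x : X) :
    ∃ (X' S' : Scheme.{u}) (a : X' ⟶ X) (b : X' ⟶ S') (c : S' ⟶ S), Etale a ∧ x ∈ Set.range ⇑a ∧ Etale c ∧ a ≫ f = b ≫ c ∧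
      Flat b ∧ LocallyOfFinitePresentation b ∧ QuasiCompact b ∧ QuasiSeparated b ∧ GeometricallyConnected b ∧ GeometricallyReduced b := by
  obtain ⟨s, hs⟩ : ∃ s, f.base x = s := ⟨_, rfl⟩
  haveI : LocallyOfFiniteType (f.fiberToSpecResidueField s) := MorphismProperty.pullback_snd _ _ inferInstance
  haveI : IsLocallyNoetherian (f.fiber s) := LocallyOfFiniteType.isLocallyNoetherian (f.fiberToSpecResidueField s)
  haveI := Groth.SGA7.IdComponent.locallyConnectedSpace (X := f.fiber s)
  obtain ⟨x₀, hx₀⟩ : x ∈ Set.range (f.fiberι s).base := by rw [Scheme.Hom.range_fiberι]; exact hs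
  obtain ⟨Z, i, z, c, hZ, het, hc, hiz, hzs⟩ := exists_etale_multisection f s
    ⟨connectedComponent x₀, isOpen_connectedComponent⟩ ⟨x₀, mem_connectedComponent⟩
  let g := i ≫ f
  let f' := pullback.snd f g
  let σ : Z ⟶ pullback f g := pullback.lift i (𝟙 _) (by rw [Category.id_comp])
  have hσ : σ ≫ f' = 𝟙 _ := pullback.lift_snd _ _ _
  haveI : LocallyOfFiniteType (f'.fiberToSpecResidueField z) := MorphismProperty.pullback_snd _ _ inferInstance
  haveI : IsLocallyNoetherian (f'.fiber z) := LocallyOfFiniteType.isLocallyNoetherian (f'.fiberToSpecResidueField z)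
  haveI := Groth.SGA7.IdComponent.locallyConnectedSpace (X := f'.fiber z)
  let c' := Groth.GrpschAbsch.SectionComp.secFib hσ z (IsLocalRing.closedPoint _)
  let T : (f'.fiber z).Opens := ⟨connectedComponent c', isOpen_connectedComponent⟩
  haveI : ConnectedSpace ↥(T : Scheme.{u}) := isConnected_iff_connectedSpace.mp isConnected_connectedComponent
  let e : Spec (CommRingCat.of (Z.residueField z)) ⟶ (T : Scheme.{u}) :=
    IsOpenImmersion.lift T.ι (Groth.GrpschAbsch.SectionComp.secFib hσ z) (by
      rintro _ ⟨p, rfl⟩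
      rw [Scheme.Opens.range_ι, Subsingleton.elim (α := PrimeSpectrum (Z.residueField z)) p (IsLocalRing.closedPoint _)]
      exact mem_connectedComponent)
  haveI hconn : GeometricallyConnected (T.ι ≫ f'.fiberToSpecResidueField z) :=
    geometricallyConnected_of_rationalPoint (k := IsLocalRing.ResidueField (Z.presheaf.stalk z)) _ e (by
      exact (Category.assoc e T.ι _).symm.trans (by rw [IsOpenImmersion.lift_fac]; exact pullback.lift_snd _ _ _))
  haveI : Etale g := het
  haveI : QuasiCompact f' := MorphismProperty.pullback_snd _ _ inferInstance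
  haveI : QuasiSeparated f' := MorphismProperty.pullback_snd _ _ inferInstance
  obtain ⟨S', g', s', hS', hnb, V, hVc, hVconn, hVfib⟩ := exists_etale_spread f' z T hconn
  -- a point of the family over `x`
  have hx : x ∈ (pullback.fst f g).base '' connectedComponentIn (f'.base ⁻¹' {f'.base (σ.base z)}) (σ.base z) := by
    rw [image_connectedComponentIn_of_isPullback (IsPullback.of_hasPullback f g) (σ.base z),
      ← Scheme.Hom.comp_apply σ, pullback.lift_fst]
    show x ∈ connectedComponentIn (f.base ⁻¹' {f.base (i.base z)}) (i.base z)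
    rw [show f.base (i.base z) = s from hzs, hiz, connectedComponentIn_eq_image_fiber]
    exact ⟨x₀, connectedComponent_eq hc ▸ mem_connectedComponent, hx₀⟩
  obtain ⟨p, hp, hpx⟩ := hx
  rw [show f'.base (σ.base z) = z by rw [← Scheme.Hom.comp_apply, hσ]; rfl,
    ← Groth.GrpschAbsch.SectionComp.fiberι_secFib hσ z, connectedComponentIn_eq_image_fiber] at hp
  obtain ⟨w, hw, hwp⟩ := hp
  haveI : Etale g' := hnb.etale
  obtain ⟨y', hy1, hy2⟩ := Scheme.exists_preimage_of_isPullback (IsPullback.of_hasPullback f' g') p s' (by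
    rw [← hwp]
    exact (Groth.FibreDim.apply_fiberι f' z w).trans hnb.base_eq.symm)
  have hyV : y' ∈ V := (hVfib y' hy2).mpr ⟨w, hw, hwp.trans hy1.symm⟩
  haveI : IsAffine S' := hS'
  haveI : CompactSpace (V : Scheme.{u}) := isCompact_iff_compactSpace.mp hVc
  refine ⟨V, S', V.ι ≫ pullback.fst f' g' ≫ pullback.fst f g, V.ι ≫ pullback.snd f' g', g' ≫ g, inferInstance,
    ⟨⟨y', hyV⟩, ?_⟩, inferInstance, ?_, inferInstance, inferInstance, quasiCompact_of_compact_to_affine _, inferInstance,
    hVconn, geometricallyReduced_comp_openImmersion _ _⟩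
  · show (pullback.fst f g).base ((pullback.fst f' g').base y') = x
    rw [hy1]; exact hpx
  · rw [Category.assoc, Category.assoc, pullback.condition, pullback.condition_assoc, Category.assoc]

theorem exists_etale_cover {X S : Scheme.{u}} (f : X ⟶ S) [Flat f] [LocallyOfFinitePresentation f]
    [GeometricallyReduced f] (x : X) :
    ∃ (X' S' : Scheme.{u}) (a : X' ⟶ X) (b : X' ⟶ S') (c : S' ⟶ S), Etale a ∧ x ∈ Set.range ⇑a ∧ Etale c ∧ a ≫ f = b ≫ c ∧
      Flat b ∧ LocallyOfFinitePresentation b ∧ QuasiCompact b ∧ QuasiSeparated b ∧ GeometricallyConnected b ∧ GeometricallyReduced b := by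
  obtain ⟨V, hV, hxV, -⟩ := exists_isAffineOpen_mem_and_subset (U := ⊤) (Set.mem_univ (f.base x))
  obtain ⟨U, hU, hxU, hUV⟩ := exists_isAffineOpen_mem_and_subset (U := f ⁻¹ᵁ V) (x := x) hxV
  haveI : IsAffine (U : Scheme.{u}) := hU
  haveI : IsAffine (V : Scheme.{u}) := hV
  let f₁ := f.resLE V U hUV
  have hf₁ : f₁ ≫ V.ι = U.ι ≫ f := Scheme.Hom.resLE_comp_ι _ _
  haveI : GeometricallyReduced f₁ := by
    haveI := geometricallyReduced_comp_openImmersion U.ι f
    have sq : IsPullback (𝟙 _) f₁ (U.ι ≫ f) V.ι :=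
      IsPullback.of_isLimit' ⟨by rw [Category.id_comp, hf₁]⟩
        (PullbackCone.IsLimit.mk _ (fun t => t.fst) (fun t => Category.comp_id _)
          (fun t => by rw [← cancel_mono V.ι, Category.assoc, hf₁, t.condition])
          (fun t m h1 _ => by simpa using h1))
    exact MorphismProperty.of_isPullback sq inferInstance
  obtain ⟨X', S', a, b, c, ha, ⟨p, hp⟩, hc, hw, h1, h2, h3, h4, h5, h6⟩ := exists_etale_cover_affine f₁ ⟨x, hxU⟩
  refine ⟨X', S', a ≫ U.ι, b, c ≫ V.ι, inferInstance, ⟨p, ?_⟩, inferInstance, ?_, h1, h2, h3, h4, h5, h6⟩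
  · rw [Scheme.Hom.comp_apply, hp]; rfl
  · rw [Category.assoc, ← hf₁, reassoc_of% hw]

end Groth.GeomComp
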