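import Groth.Agent.GeomComp.SectionOpen
import Groth.Agent.EGA43Topo.FlatUnivOpen
import Groth.Prelude.Def_FDesc
import Mathlib

/-!
Localisation of the openness of section components: only the component through the section matters.
-/

set_option autoImplicit false
universe u

open AlgebraicGeometry CategoryTheory Limits Topology TopologicalSpace

namespace Groth.GeomComp

/-- Geometric reducedness at a point controls the local rings of all base changes to fields. -/
theorem isReduced_stalk_pullback_field {X Y : Scheme.{u}} (f : X ⟶ Y) (y : Y) (c : f.fiber y)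
    (hc : FBase.IsGeomReducedAt (f.fiberToSpecResidueField y) c) {K : Type u} [Field K]
    (a : Spec (CommRingCat.of K) ⟶ Y) (z : ↥(pullback f a))
    (hz : (pullback.fst f a).base z = (f.fiberι y).base c) :
    _root_.IsReduced ((pullback f a).presheaf.stalk z) := by
  obtain ⟨y', φ, rfl⟩ : ∃ (y' : Y) (φ : Y.residueField y' ⟶ CommRingCat.of K),
      Spec.map φ ≫ Y.fromSpecResidueField y' = a := by
    obtain ⟨⟨y', φ⟩, rfl⟩ := (Scheme.SpecToEquivOfField K Y).symm.surjective a
    exact ⟨y', φ, rfl⟩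
  obtain rfl : y = y' := by
    have h1 : f.base ((pullback.fst f (Spec.map φ ≫ Y.fromSpecResidueField y')).base z) =
        (Spec.map φ ≫ Y.fromSpecResidueField y').base
          ((pullback.snd f (Spec.map φ ≫ Y.fromSpecResidueField y')).base z) :=
      congrArg (fun m : pullback f (Spec.map φ ≫ Y.fromSpecResidueField y') ⟶ Y => m.base z) pullback.condition
    rw [hz, Groth.FibreDim.apply_fiberι, Scheme.Hom.comp_apply, Scheme.fromSpecResidueField_apply] at h1
    exact h1
  letI : Algebra (IsLocalRing.ResidueField (Y.presheaf.stalk y)) K := φ.hom.toAlgebra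
  let e : FBase.bc (f.fiberToSpecResidueField y) K ≅ pullback f (Spec.map φ ≫ Y.fromSpecResidueField y) :=
    pullbackLeftPullbackSndIso f (Y.fromSpecResidueField y) (Spec.map φ)
  have he : e.inv ≫ FBase.bcπ (f.fiberToSpecResidueField y) K ≫ f.fiberι y = pullback.fst f _ :=
    pullbackLeftPullbackSndIso_inv_fst f (Y.fromSpecResidueField y) (Spec.map φ)
  have h2 : (FBase.bcπ (f.fiberToSpecResidueField y) K).base (e.inv.base z) = c := (f.fiberι y).isEmbedding.injective
    ((congrArg (fun m : pullback f (Spec.map φ ≫ Y.fromSpecResidueField y) ⟶ X => m.base z) he).trans hz)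
  haveI := hc K (e.inv.base z) h2
  exact isReduced_of_injective (asIso (e.inv.stalkMap z)).symm.commRingCatIsoToRingEquiv
    (RingEquiv.injective _)

theorem exists_openImmersion_pullback {U V X Y Z T : Scheme.{u}} {fU : U ⟶ V} {i : U ⟶ X} {v : V ⟶ Y} {f : X ⟶ Y}
    [IsOpenImmersion i] [Mono v] (w : fU ≫ v = i ≫ f) {a : T ⟶ V} {p : Z ⟶ U} {q : Z ⟶ T}
    (H : IsPullback p q fU a) :
    ∃ j : Z ⟶ pullback f (a ≫ v), IsOpenImmersion j ∧ j ≫ pullback.fst f (a ≫ v) = p ≫ i ∧
      j ≫ pullback.snd f (a ≫ v) = q := by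
  have hw : p ≫ i ≫ f = q ≫ a ≫ v := by rw [← w, ← Category.assoc, H.w, Category.assoc]
  let j : Z ⟶ pullback f (a ≫ v) := pullback.lift (p ≫ i) q (by rw [Category.assoc]; exact hw)
  have H' : IsPullback p (j ≫ pullback.snd f (a ≫ v)) (i ≫ f) (a ≫ v) := by
    rw [pullback.lift_snd]
    have key : ∀ s : PullbackCone (i ≫ f) (a ≫ v), s.fst ≫ fU = s.snd ≫ a := fun s => by
      rw [← cancel_mono v, Category.assoc, w, Category.assoc]
      exact s.condition
    exact IsPullback.of_isLimit (c := PullbackCone.mk p q hw) (PullbackCone.IsLimit.mk hw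
      (fun s => H.lift s.fst s.snd (key s)) (fun s => H.lift_fst _ _ _) (fun s => H.lift_snd _ _ _)
      (fun s m h1 h2 => H.hom_ext (h1.trans (H.lift_fst _ _ _).symm) (h2.trans (H.lift_snd _ _ _).symm)))
  have sq : IsPullback p j i (pullback.fst f (a ≫ v)) :=
    IsPullback.of_bot H' (pullback.lift_fst _ _ _).symm (IsPullback.of_hasPullback f (a ≫ v))
  exact ⟨j, MorphismProperty.of_isPullback (P := @IsOpenImmersion) sq inferInstance, pullback.lift_fst _ _ _,
    pullback.lift_snd _ _ _⟩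

theorem geometricallyReduced_fiber_resLE {X Y : Scheme.{u}} (f : X ⟶ Y) {V : Y.Opens} {U : X.Opens}
    (e : U ≤ f ⁻¹ᵁ V) (y : V)
    (h : ∀ c : f.fiber (V.ι.base y), (f.fiberι _).base c ∈ U →
      FBase.IsGeomReducedAt (f.fiberToSpecResidueField (V.ι.base y)) c) :
    GeometricallyReduced ((f.resLE V U e).fiberToSpecResidueField y) := by
  rw [GeometricallyReduced.eq_geometrically]
  intro K _ a Z p q H
  obtain ⟨j, hj, hj1, -⟩ := exists_openImmersion_pullback (Scheme.Hom.resLE_comp_ι f e)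
    (H.paste_horiz (IsPullback.of_hasPullback (f.resLE V U e) ((V : Scheme.{u}).fromSpecResidueField y)))
  haveI : ∀ z : Z, _root_.IsReduced (Z.presheaf.stalk z) := fun z => by
    let w : U := ((f.resLE V U e).fiberι y).base (p.base z)
    have hw : f.base (U.ι.base w) = V.ι.base y := by
      rw [← Scheme.Hom.comp_apply, ← Scheme.Hom.resLE_comp_ι f e, Scheme.Hom.comp_apply]
      exact congrArg _ (Groth.FibreDim.apply_fiberι _ _ _)
    obtain ⟨c, hc⟩ : U.ι.base w ∈ Set.range (f.fiberι (V.ι.base y)).base :=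
      (f.range_fiberι _).ge hw
    haveI := isReduced_stalk_pullback_field f _ c (h c (hc ▸ w.2)) _ (j.base z)
      (by rw [hc, ← Scheme.Hom.comp_apply, hj1]; rfl)
    exact isReduced_of_injective (asIso (j.stalkMap z)).symm.commRingCatIsoToRingEquiv (RingEquiv.injective _)
  exact isReduced_of_isReduced_stalk Z

theorem flat_pullback_resLE_dvr {X Y : Scheme.{u}} [IsLocallyNoetherian Y] (f : X ⟶ Y) [LocallyOfFiniteType f]
    {V : Y.Opens} {U : X.Opens} (e : U ≤ f ⁻¹ᵁ V) (y : V)
    (hgood : ∀ x ∈ U, f.base x = V.ι.base y → Groth.EGA43Topo.FlatUnivOpen.GoodFibre f x) (R : Type u) [CommRing R]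
    [IsDomain R] [IsDiscreteValuationRing R] (h : Spec (CommRingCat.of R) ⟶ V)
    (hy : h.base (IsLocalRing.closedPoint R) = y) : Flat (pullback.snd (f.resLE V U e) h) := by
  refine Flat.of_stalkMap _ fun z => ?_
  obtain ⟨j, hj, hj1, hj2⟩ := exists_openImmersion_pullback (Scheme.Hom.resLE_comp_ι f e)
    (IsPullback.of_hasPullback (f.resLE V U e) h)
  by_cases hcl : (pullback.snd (f.resLE V U e) h).base z = IsLocalRing.closedPoint R
  · let x : X := U.ι.base ((pullback.fst (f.resLE V U e) h).base z)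
    have hx : f.base x = V.ι.base y := by
      rw [← Scheme.Hom.comp_apply, ← Scheme.Hom.resLE_comp_ι f e, Scheme.Hom.comp_apply,
        ← Scheme.Hom.comp_apply (pullback.fst _ _), pullback.condition, Scheme.Hom.comp_apply, hcl, hy]
    have hfst : (pullback.fst f (h ≫ V.ι)).base (j.base z) = x := by
      rw [← Scheme.Hom.comp_apply, hj1]; rfl
    have h1 := Groth.EGA43Topo.FlatUnivOpen.flat_stalkMap_baseChange_dvr f
      (hgood x ((pullback.fst (f.resLE V U e) h).base z).2 hx) (h ≫ V.ι)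
      (by rw [Scheme.Hom.comp_apply, hy, hx]) (j.base z) (specializes_of_eq hfst)
      (by rw [← Scheme.Hom.comp_apply, hj2]; exact hcl)
    have h2 : ((j ≫ pullback.snd f (h ≫ V.ι)).stalkMap z).hom.Flat := by
      rw [Scheme.Hom.stalkMap_comp]
      show ((j.stalkMap z).hom.comp ((pullback.snd f (h ≫ V.ι)).stalkMap (j.base z)).hom).Flat
      exact RingHom.Flat.comp h1 (Flat.stalkMap j z)
    rwa [hj2] at h2
  · generalize (pullback.snd (f.resLE V U e) h) = g at hcl ⊢
    have hbot : (g.base z).asIdeal = ⊥ := by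
      by_contra hne
      haveI := (g.base z).isPrime
      exact hcl (PrimeSpectrum.ext (IsLocalRing.eq_maximalIdeal
        (Ideal.IsPrime.isMaximal inferInstance hne)))
    haveI : IsIntegral (Spec (CommRingCat.of R)) := inferInstance
    have hgen : g.base z = genericPoint ↥(Spec (CommRingCat.of R)) := by
      rw [genericPoint_eq_bot_of_affine]
      exact PrimeSpectrum.ext hbot
    have hF : IsField ((Spec (CommRingCat.of R)).presheaf.stalk (g.base z)) := by
      rw [hgen]
      exact Field.toIsField (Spec (CommRingCat.of R)).functionField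
    letI := hF.toField
    letI := (g.stalkMap z).hom.toAlgebra
    exact RingHom.flat_algebraMap_iff.2 (inferInstance : Module.Flat _ _)

/-- A point of the component of a locally Noetherian fibre is joined to the base point inside a quasi-compact open. -/
theorem exists_compact_open_join {X Y : Scheme.{u}} (f : X ⟶ Y) [LocallyOfFiniteType f] (y : Y) {a : X}
    (ha : f.base a = y) (O : X.Opens) (hO : connectedComponentIn (f.base ⁻¹' {y}) a ⊆ O) {x : X}
    (hx : x ∈ connectedComponentIn (f.base ⁻¹' {y}) a) :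
    ∃ U : X.Opens, U ≤ O ∧ IsCompact (U : Set X) ∧ a ∈ U ∧
      x ∈ connectedComponentIn ((U : Set X) ∩ f.base ⁻¹' {y}) a := by
  obtain ⟨w₀, rfl⟩ : a ∈ Set.range (f.fiberι y).base := (f.range_fiberι y).ge ha
  rw [connectedComponentIn_eq_image_fiber] at hx hO
  obtain ⟨w, hw, rfl⟩ := hx
  haveI : LocallyOfFiniteType (f.fiberToSpecResidueField y) := MorphismProperty.pullback_snd _ _ inferInstance
  haveI : IsLocallyNoetherian (f.fiber y) := LocallyOfFiniteType.isLocallyNoetherian (f.fiberToSpecResidueField y)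
  haveI := Groth.SGA7.IdComponent.locallyConnectedSpace (X := f.fiber y)
  let a := (f.fiberι y).base w₀
  let T : Set (f.fiber y) := {v | ∃ U : X.Opens, U ≤ O ∧ IsCompact (U : Set X) ∧ a ∈ U ∧
      (f.fiberι y).base v ∈ connectedComponentIn ((U : Set X) ∩ f.base ⁻¹' {y}) a}
  have hfib : ∀ v, (f.fiberι y).base v ∈ f.base ⁻¹' {y} := fun v => Groth.FibreDim.apply_fiberι f y v
  have hwC : w₀ ∈ connectedComponent w₀ := mem_connectedComponent
  obtain ⟨W₀, hW₀, haW₀, hW₀O⟩ := exists_isAffineOpen_mem_and_subset (U := O) (hO ⟨w₀, hwC, rfl⟩)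
  have hT0 : w₀ ∈ T := ⟨W₀, hW₀O, hW₀.isCompact, haW₀, mem_connectedComponentIn ⟨haW₀, hfib w₀⟩⟩
  have key : ∀ v ∈ connectedComponent w₀, ∃ N : Set (f.fiber y), IsOpen N ∧ v ∈ N ∧
      ((∃ p ∈ N, p ∈ T) → N ⊆ T) := by
    intro v hv
    obtain ⟨W, hW, hvW, hWO⟩ := exists_isAffineOpen_mem_and_subset (U := O) (hO ⟨v, hv, rfl⟩)
    let N := connectedComponentIn ((f.fiberι y).base ⁻¹' (W : Set X)) v
    refine ⟨N, (W.isOpen.preimage (f.fiberι y).continuous).connectedComponentIn, mem_connectedComponentIn hvW,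
      fun ⟨p, hpN, U, hUO, hU, haU, hpU⟩ q hq => ?_⟩
    refine ⟨U ⊔ W, sup_le hUO hWO, hU.union hW.isCompact, Or.inl haU, ?_⟩
    have h1 := connectedComponentIn_mono a (Set.inter_subset_inter_left (f.base ⁻¹' {y})
      (show (U : Set X) ⊆ ((U ⊔ W : X.Opens) : Set X) from fun _ h => Or.inl h)) hpU
    rw [connectedComponentIn_eq h1]
    refine ((isPreconnected_connectedComponentIn.image _ (f.fiberι y).continuous.continuousOn).subset_connectedComponentIn
      ⟨p, hpN, rfl⟩ ?_) ⟨q, hq, rfl⟩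
    rintro _ ⟨r, hr, rfl⟩
    exact ⟨Or.inr (connectedComponentIn_subset ((f.fiberι y).base ⁻¹' (W : Set X)) v hr), hfib r⟩
  have hsub : connectedComponent w₀ ⊆ T := by
    have hC : IsOpen (connectedComponent w₀) := isOpen_connectedComponent
    have h1 : IsOpen (connectedComponent w₀ ∩ T) := isOpen_iff_forall_mem_open.mpr fun v hv => by
      obtain ⟨N, hN, hvN, hk⟩ := key v hv.1
      exact ⟨connectedComponent w₀ ∩ N, Set.inter_subset_inter_right _ (hk ⟨v, hvN, hv.2⟩), hC.inter hN, hv.1, hvN⟩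
    have h2 : IsOpen (connectedComponent w₀ \ T) := isOpen_iff_forall_mem_open.mpr fun v hv => by
      obtain ⟨N, hN, hvN, hk⟩ := key v hv.1
      exact ⟨connectedComponent w₀ ∩ N, fun r hr => ⟨hr.1, fun hrT => hv.2 (hk ⟨r, hr.2, hrT⟩ hvN)⟩,
        hC.inter hN, hv.1, hvN⟩
    intro v hv
    by_contra hvT
    obtain ⟨r, -, hr1, hr2⟩ := isPreconnected_connectedComponent _ _ h1 h2
      (fun r hr => (em (r ∈ T)).elim (fun h => Or.inl ⟨hr, h⟩) (fun h => Or.inr ⟨hr, h⟩))
      ⟨w₀, hwC, hwC, hT0⟩ ⟨v, hv, hv, hvT⟩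
    exact hr2.2 hr1.2
  exact hsub hw

/-- A quasi-compact open around the section and part of its component: transport of interior. -/
theorem interior_sectionComponents_resLE {X Y : Scheme.{u}} (f : X ⟶ Y) (s : Y ⟶ X) (hs : s ≫ f = 𝟙 Y)
    {V : Y.Opens} {U : X.Opens} (e : U ≤ f ⁻¹ᵁ V) (e' : V ≤ s ⁻¹ᵁ U) :
    U.ι.base '' interior (MoreMor.sectionComponents (f.resLE V U e) (s.resLE U V e')) ⊆
      interior (MoreMor.sectionComponents f s) := by
  refine (U.ι.isOpenEmbedding.isOpenMap.image_interior_subset _).trans (interior_mono ?_)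
  rintro _ ⟨w, hw, rfl⟩
  let fU := f.resLE V U e
  let sU := s.resLE U V e'
  have h1 : ∀ u, f.base (U.ι.base u) = V.ι.base (fU.base u) := fun u => by
    rw [← Scheme.Hom.comp_apply, ← Scheme.Hom.resLE_comp_ι f e, Scheme.Hom.comp_apply]
  have h2 : U.ι.base (sU.base (fU.base w)) = s.base (f.base (U.ι.base w)) := by
    rw [h1, ← Scheme.Hom.comp_apply, Scheme.Hom.resLE_comp_ι, Scheme.Hom.comp_apply]
  have hmem : sU.base (fU.base w) ∈ fU.base ⁻¹' {fU.base w} := connectedComponentIn_nonempty_iff.mp ⟨w, hw⟩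
  show U.ι.base w ∈ connectedComponentIn (f.base ⁻¹' {f.base (U.ι.base w)}) (s.base (f.base (U.ι.base w)))
  rw [← h2]
  refine ((isPreconnected_connectedComponentIn.image _ U.ι.continuous.continuousOn).subset_connectedComponentIn
    ⟨_, mem_connectedComponentIn hmem, rfl⟩ ?_) ⟨w, hw, rfl⟩
  rintro _ ⟨r, hr, rfl⟩
  show f.base (U.ι.base r) = f.base (U.ι.base w)
  rw [h1, h1, show fU.base r = fU.base w from connectedComponentIn_subset (fU.base ⁻¹' {fU.base w}) _ hr]

/-- An open set cutting out the component of a fibre. -/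
theorem exists_open_inter_fibre_eq_component {X Y : Scheme.{u}} (f : X ⟶ Y) [LocallyOfFiniteType f] (y : Y) (a : X) :
    ∃ O : X.Opens, connectedComponentIn (f.base ⁻¹' {y}) a ⊆ O ∧
      (O : Set X) ∩ f.base ⁻¹' {y} ⊆ connectedComponentIn (f.base ⁻¹' {y}) a := by
  by_cases ha : f.base a = y
  · obtain ⟨w₀, rfl⟩ : a ∈ Set.range (f.fiberι y).base := (f.range_fiberι y).ge ha
    haveI : LocallyOfFiniteType (f.fiberToSpecResidueField y) := MorphismProperty.pullback_snd _ _ inferInstance
    haveI : IsLocallyNoetherian (f.fiber y) :=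
      LocallyOfFiniteType.isLocallyNoetherian (f.fiberToSpecResidueField y)
    haveI := Groth.SGA7.IdComponent.locallyConnectedSpace (X := f.fiber y)
    obtain ⟨O, hO, hOeq⟩ := ((f.fiberι y).isEmbedding.isInducing.isOpen_iff).mp
      (isOpen_connectedComponent (x := w₀))
    rw [connectedComponentIn_eq_image_fiber]
    refine ⟨⟨O, hO⟩, ?_, ?_⟩
    · rintro _ ⟨v, hv, rfl⟩
      exact (Set.ext_iff.mp hOeq v).mpr hv
    · rintro c ⟨hc, hcy⟩
      obtain ⟨v, rfl⟩ : c ∈ Set.range (f.fiberι y).base := (f.range_fiberι y).ge hcy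
      exact ⟨v, (Set.ext_iff.mp hOeq v).mp hc, rfl⟩
  · refine ⟨⊥, ?_, ?_⟩
    · rw [connectedComponentIn_eq_empty (by exact ha)]; exact Set.empty_subset _
    · exact fun c hc => hc.1.elim

/-- The localisation step: every point of the component lies in a quasi-compact open over an affine open of the
base through which the section factors, joined to the section inside it. -/
theorem exists_local_model {X Y : Scheme.{u}} (f : X ⟶ Y) (s : Y ⟶ X) (hs : s ≫ f = 𝟙 Y) [LocallyOfFiniteType f]
    (y : Y) (V₀ : Y.Opens) (hy₀ : y ∈ V₀) (hV₀ : IsAffineOpen V₀) (O : X.Opens)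
    (hO : connectedComponentIn (f.base ⁻¹' {y}) (s.base y) ⊆ O) {x : X}
    (hx : x ∈ connectedComponentIn (f.base ⁻¹' {y}) (s.base y)) :
    ∃ (V : Y.Opens) (U : X.Opens) (e : U ≤ f ⁻¹ᵁ V) (e' : V ≤ s ⁻¹ᵁ U) (v : V),
      IsAffineOpen V ∧ V ≤ V₀ ∧ U ≤ O ∧ IsCompact (U : Set X) ∧ V.ι.base v = y ∧
        ∃ w : U, U.ι.base w = x ∧
          w ∈ connectedComponentIn ((f.resLE V U e).base ⁻¹' {v}) ((s.resLE U V e').base v) := by
  have hfs : ∀ p, f.base (s.base p) = p := fun p => by rw [← Scheme.Hom.comp_apply, hs]; rfl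
  have hC : connectedComponentIn (f.base ⁻¹' {y}) (s.base y) ⊆ ((O ⊓ f ⁻¹ᵁ V₀ : X.Opens) : Set X) := fun c hc =>
    ⟨hO hc, by
      show f.base c ∈ V₀
      rw [show f.base c = y from connectedComponentIn_subset (f.base ⁻¹' {y}) (s.base y) hc]; exact hy₀⟩
  obtain ⟨U₁, hU₁, hU₁c, hsU₁, hxU₁⟩ := exists_compact_open_join f y (hfs y) _ hC hx
  obtain ⟨V, hV, hyV, hVsub⟩ := exists_isAffineOpen_mem_and_subset (U := V₀ ⊓ s ⁻¹ᵁ U₁) (x := y) ⟨hy₀, hsU₁⟩
  let U : X.Opens := U₁ ⊓ f ⁻¹ᵁ V
  have e : U ≤ f ⁻¹ᵁ V := inf_le_right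
  have e' : V ≤ s ⁻¹ᵁ U := fun p hp => ⟨(hVsub hp).2, show f.base (s.base p) ∈ V by rw [hfs]; exact hp⟩
  have hUc : IsCompact (U : Set X) := by
    let V₀' : Y.Opens := V₀
    have h0 : U₁ ≤ f ⁻¹ᵁ V₀ := fun c hc => (hU₁ hc).2
    haveI : CompactSpace (U₁ : Scheme.{u}) := isCompact_iff_compactSpace.mp hU₁c
    haveI : IsAffine (V₀ : Scheme.{u}) := hV₀
    haveI : QuasiCompact (f.resLE V₀ U₁ h0) :=
      (HasAffineProperty.iff_of_isAffine (P := @QuasiCompact)).mpr inferInstance
    have h1 : IsCompact ((f.resLE V₀ U₁ h0).base ⁻¹' (V₀.ι.base ⁻¹' (V : Set Y))) := by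
      refine QuasiCompact.isCompact_preimage _ (V.isOpen.preimage V₀.ι.continuous) ?_
      exact V₀.ι.isOpenEmbedding.isInducing.isCompact_preimage' hV.isCompact
        (fun p hp => by rw [Scheme.Opens.range_ι]; exact (hVsub hp).1)
    have h2 : (U : Set X) = U₁.ι.base '' ((f.resLE V₀ U₁ h0).base ⁻¹' (V₀.ι.base ⁻¹' (V : Set Y))) := by
      ext c
      constructor
      · rintro ⟨hc1, hc2⟩
        refine ⟨⟨c, hc1⟩, ?_, rfl⟩
        show V₀.ι.base ((f.resLE V₀ U₁ h0).base ⟨c, hc1⟩) ∈ V
        rw [← Scheme.Hom.comp_apply, Scheme.Hom.resLE_comp_ι]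
        exact hc2
      · rintro ⟨d, hd, rfl⟩
        refine ⟨d.2, ?_⟩
        show f.base (U₁.ι.base d) ∈ V
        rw [← Scheme.Hom.comp_apply, ← Scheme.Hom.resLE_comp_ι f h0]
        exact hd
    rw [h2]
    exact h1.image U₁.ι.continuous
  refine ⟨V, U, e, e', ⟨y, hyV⟩, hV, fun p hp => (hVsub hp).1, fun c hc => (hU₁ hc.1).1, hUc, rfl, ?_⟩
  have hxy : f.base x = y := connectedComponentIn_subset (f.base ⁻¹' {y}) (s.base y) hx
  have hxU : x ∈ U := ⟨(connectedComponentIn_subset _ _ hxU₁).1, show f.base x ∈ V by rw [hxy]; exact hyV⟩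
  refine ⟨⟨x, hxU⟩, rfl, ?_⟩
  have hS : (U : Set X) ∩ f.base ⁻¹' {y} = (U₁ : Set X) ∩ f.base ⁻¹' {y} := by
    ext c
    exact ⟨fun h => ⟨h.1.1, h.2⟩, fun h => ⟨⟨h.1, show f.base c ∈ V from (show f.base c = y from h.2) ▸ hyV⟩, h.2⟩⟩
  rw [← hS] at hxU₁
  let fU := f.resLE V U e
  have hfU : ∀ c, fU.base c = ⟨y, hyV⟩ ↔ f.base (U.ι.base c) = y := fun c => by
    rw [← Scheme.Hom.comp_apply, ← Scheme.Hom.resLE_comp_ι f e, Scheme.Hom.comp_apply]
    exact ⟨fun h => congrArg V.ι.base h, fun h => Subtype.ext h⟩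
  let t : Set U := U.ι.base ⁻¹' connectedComponentIn ((U : Set X) ∩ f.base ⁻¹' {y}) (s.base y)
  have ht : _root_.IsPreconnected t := by
    refine U.ι.isOpenEmbedding.isInducing.isPreconnected_image.mp ?_
    rw [Set.image_preimage_eq_of_subset]
    · exact isPreconnected_connectedComponentIn
    · rw [Scheme.Opens.range_ι]
      exact fun c hc => (connectedComponentIn_subset _ _ hc).1
  have hsv : U.ι.base ((s.resLE U V e').base ⟨y, hyV⟩) = s.base y := by
    rw [← Scheme.Hom.comp_apply, Scheme.Hom.resLE_comp_ι]; rfl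
  refine ht.subset_connectedComponentIn (x := (s.resLE U V e').base ⟨y, hyV⟩) ?_ (fun c hc => (hfU c).mpr ?_) ?_
  · show U.ι.base ((s.resLE U V e').base ⟨y, hyV⟩) ∈ connectedComponentIn ((U : Set X) ∩ f.base ⁻¹' {y}) (s.base y)
    rw [hsv]
    exact mem_connectedComponentIn ⟨e' hyV, hfs y⟩
  · exact (connectedComponentIn_subset ((U : Set X) ∩ f.base ⁻¹' {y}) (s.base y) hc).2
  · exact hxU₁

/-- Openness of section components, local form for flat morphisms. -/
theorem component_subset_interior_local {X Y : Scheme.{u}} (f : X ⟶ Y) (s : Y ⟶ X) (hs : s ≫ f = 𝟙 Y)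
    [LocallyOfFinitePresentation f] [Flat f] (y : Y) (V₀ : Y.Opens) (hy₀ : y ∈ V₀) (hV₀ : IsAffineOpen V₀)
    (hqs : IsQuasiSeparated ((f ⁻¹ᵁ V₀ : X.Opens) : Set X))
    (hred : ∀ c : f.fiber y, (f.fiberι y).base c ∈ connectedComponentIn (f.base ⁻¹' {y}) (s.base y) →
      FBase.IsGeomReducedAt (f.fiberToSpecResidueField y) c) :
    connectedComponentIn (f.base ⁻¹' {y}) (s.base y) ⊆ interior (MoreMor.sectionComponents f s) := by
  intro x hx
  obtain ⟨O, hO, hO'⟩ := exists_open_inter_fibre_eq_component f y (s.base y)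
  obtain ⟨V, U, e, e', v, hV, hVV₀, hUO, hUc, rfl, w, rfl, hw⟩ := exists_local_model f s hs y V₀ hy₀ hV₀ O hO hx
  have hsU : s.resLE U V e' ≫ f.resLE V U e = 𝟙 (V : Scheme.{u}) := by
    rw [← cancel_mono V.ι, Category.assoc, Scheme.Hom.resLE_comp_ι, ← Category.assoc, Scheme.Hom.resLE_comp_ι,
      Category.assoc, hs, Category.comp_id, Category.id_comp]
  haveI : IsAffine (V : Scheme.{u}) := hV
  haveI : CompactSpace (U : Scheme.{u}) := isCompact_iff_compactSpace.mp hUc
  haveI : QuasiSeparatedSpace (U : Scheme.{u}) := (isQuasiSeparated_iff_quasiSeparatedSpace _ U.isOpen).mp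
    (hqs.of_subset fun c hc => show f.base c ∈ V₀ from hVV₀ (e hc))
  haveI : QuasiCompact (f.resLE V U e) := (HasAffineProperty.iff_of_isAffine (P := @QuasiCompact)).mpr inferInstance
  haveI : QuasiSeparated (f.resLE V U e) := (HasAffineProperty.iff_of_isAffine (P := @QuasiSeparated)).mpr inferInstance
  haveI : LocallyOfFinitePresentation (f.resLE V U e) := by dsimp [Scheme.Hom.resLE]; infer_instance
  haveI : Flat (f.resLE V U e) := by dsimp [Scheme.Hom.resLE]; infer_instance
  exact interior_sectionComponents_resLE f s hs e e' ⟨w, component_subset_interior (f.resLE V U e) _ hsU v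
    (geometricallyReduced_fiber_resLE f e v fun c hc => hred c (hO' ⟨hUO hc, Groth.FibreDim.apply_fiberι f _ c⟩)) hw, rfl⟩

end Groth.GeomComp

namespace Groth.GeomComp

/-- Openness of section components from universal openness and geometric reducedness on the component. -/
theorem component_subset_interior_univOpen {X Y : Scheme.{u}} [IsLocallyNoetherian Y] (f : X ⟶ Y)
    [LocallyOfFiniteType f] (s : Y ⟶ X) (hs : s ≫ f = 𝟙 Y) (y : Y)
    (h : ∀ x ∈ connectedComponentIn (f.base ⁻¹' {y}) (s.base y), EGA43.IsUnivOpenAt f x ∧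
      FBase.IsGeomReducedAt (f.fiberToSpecResidueField (f.base x)) (f.asFiber x)) :
    connectedComponentIn (f.base ⁻¹' {y}) (s.base y) ⊆ interior (MoreMor.sectionComponents f s) := by
  intro x hx
  obtain ⟨V₀, hV₀, hy₀, -⟩ := exists_isAffineOpen_mem_and_subset (U := ⊤) (Set.mem_univ y)
  obtain ⟨O, hO, hO'⟩ := exists_open_inter_fibre_eq_component f y (s.base y)
  obtain ⟨V, U, e, e', v, hV, hVV₀, hUO, hUc, rfl, w, rfl, hw⟩ := exists_local_model f s hs y V₀ hy₀ hV₀ O hO hx
  have hsU : s.resLE U V e' ≫ f.resLE V U e = 𝟙 (V : Scheme.{u}) := by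
    rw [← cancel_mono V.ι, Category.assoc, Scheme.Hom.resLE_comp_ι, ← Category.assoc, Scheme.Hom.resLE_comp_ι,
      Category.assoc, hs, Category.comp_id, Category.id_comp]
  haveI : IsAffine (V : Scheme.{u}) := hV
  haveI : CompactSpace (V : Scheme.{u}) := isCompact_iff_compactSpace.mp hV.isCompact
  haveI : IsLocallyNoetherian (V : Scheme.{u}) := isLocallyNoetherian_of_isOpenImmersion V.ι
  haveI : AlgebraicGeometry.IsNoetherian (V : Scheme.{u}) := { }
  haveI : CompactSpace (U : Scheme.{u}) := isCompact_iff_compactSpace.mp hUc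
  haveI : QuasiCompact (f.resLE V U e) := (HasAffineProperty.iff_of_isAffine (P := @QuasiCompact)).mpr inferInstance
  haveI : LocallyOfFiniteType (f.resLE V U e) := by dsimp [Scheme.Hom.resLE]; infer_instance
  have hgood : ∀ c : X, c ∈ connectedComponentIn (f.base ⁻¹' {V.ι.base v}) (s.base (V.ι.base v)) →
      Groth.EGA43Topo.FlatUnivOpen.GoodFibre f c := by
    intro c hc
    refine ⟨fun z hz _ => (h _ ?_).1, (h c hc).2⟩
    have hcy : f.base c = V.ι.base v :=
      connectedComponentIn_subset (f.base ⁻¹' {V.ι.base v}) (s.base (V.ι.base v)) hc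
    have hsp : (f.fiberι (f.base c)).base z ⤳ c := by
      have := (specializes_iff_mem_closure.mpr hz).map (f.fiberι (f.base c)).continuous
      rwa [f.fiberι_asFiber] at this
    rw [connectedComponentIn_eq hc]
    have hsub : ({(f.fiberι (f.base c)).base z, c} : Set X) ⊆ f.base ⁻¹' {V.ι.base v} := by
      rintro a (rfl | rfl)
      · exact (Groth.FibreDim.apply_fiberι f _ z).trans hcy
      · exact hcy
    refine (_root_.IsPreconnected.subset_connectedComponentIn (s := ({(f.fiberι (f.base c)).base z, c} : Set X)) (x := c) ?_ (Or.inr rfl) hsub) (Or.inl rfl)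
    exact (isPreconnected_singleton (x := (f.fiberι (f.base c)).base z)).subset_closure
      (Set.singleton_subset_iff.mpr (Or.inl rfl)) (by
        rintro a (rfl | rfl)
        · exact subset_closure rfl
        · exact specializes_iff_mem_closure.mp hsp)
  have hred : ∀ c : f.fiber (V.ι.base v), (f.fiberι _).base c ∈
      connectedComponentIn (f.base ⁻¹' {V.ι.base v}) (s.base (V.ι.base v)) →
      FBase.IsGeomReducedAt (f.fiberToSpecResidueField (V.ι.base v)) c := by
    intro c hc
    obtain ⟨x', hx'⟩ : ∃ x', x' = (f.fiberι _).base c := ⟨_, rfl⟩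
    have h1 := (h x' (hx' ▸ hc)).2
    have h2 : f.base x' = V.ι.base v := hx' ▸ Groth.FibreDim.apply_fiberι f _ c
    suffices ∀ (y : Y) (hy : f.base x' = y) (c : f.fiber y), (f.fiberι y).base c = x' →
        FBase.IsGeomReducedAt (f.fiberToSpecResidueField y) c from this _ h2 c hx'.symm
    rintro _ rfl c hc'
    obtain rfl : c = f.asFiber x' := (f.fiberι _).isEmbedding.injective (hc'.trans (f.fiberι_asFiber x').symm)
    exact h1
  exact interior_sectionComponents_resLE f s hs e e' ⟨w, component_subset_interior_noetherian (f.resLE V U e) _ hsU v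
    (fun R _ _ _ g hg => flat_pullback_resLE_dvr f e v (fun c hc hcy => hgood c (hO' ⟨hUO hc, hcy⟩)) R g hg)
    (geometricallyReduced_fiber_resLE f e v fun c hc => hred c (hO' ⟨hUO hc, Groth.FibreDim.apply_fiberι f _ c⟩)) hw, rfl⟩

theorem isGeomReducedAt_of_geometricallyReduced {k : Type u} [Field k] {Z : Scheme.{u}}
    (g : Z ⟶ Spec (CommRingCat.of k)) [GeometricallyReduced g] (x : Z) : FBase.IsGeomReducedAt g x := by
  intro K _ _ x' _
  haveI : IsReduced (FBase.bc g K) :=
    GeometricallyReduced.geometrically_isReduced (Spec.map (CommRingCat.ofHom (algebraMap k K))) _ _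
      (IsPullback.of_hasPullback g _)
  infer_instance

end Groth.GeomComp
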