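import Groth.Agent.GeomComp.SectionGeneric
import Groth.Agent.SpectralTopology.DescendHom
import Mathlib

/-!
Noetherian models of morphisms with a section; section components are locally constructible.
-/

set_option autoImplicit false
universe u

open AlgebraicGeometry CategoryTheory Limits Topology TopologicalSpace Groth.SpectralTopology

namespace Groth.GeomComp

theorem exists_section_model {A : CommRingCat.{u}} {X : Scheme.{u}} (f : X ⟶ (fgCone A).pt) (s : (fgCone A).pt ⟶ X)
    (hs : s ≫ f = 𝟙 _) [LocallyOfFinitePresentation f] [QuasiCompact f] [QuasiSeparated f] :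
    ∃ (k : (FGSub A)ᵒᵖ) (M : StageModel f k) (s₀ : (fgSchemes A).obj k ⟶ M.obj),
      s₀ ≫ M.hom = 𝟙 _ ∧ s ≫ M.map = (fgCone A).π.app k ≫ s₀ := by
  obtain ⟨i, ⟨M⟩⟩ := exists_stageModel (isLimitFgCone A) f
  have hX : IsPullback ((fgCone A).π.app i) (s ≫ f) (𝟙 ((fgSchemes A).obj i)) ((fgCone A).π.app i) := by
    rw [hs]
    exact IsPullback.id_vert _
  obtain ⟨j, φ, Xj, Yj, fj, gj, pX, pY, rX, rY, h1, h2, h3, h4⟩ :=
    exists_descend_hom (fgSchemes A) (fgCone A) (isLimitFgCone A) (𝟙 _) M.hom s f _ M.map hX M.sq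
  haveI : IsIso (fj ≫ gj) := h2.isIso_snd_of_isIso
  haveI : LocallyOfFinitePresentation gj := MorphismProperty.of_isPullback h1 M.lfp
  haveI : QuasiCompact gj := MorphismProperty.of_isPullback h1 M.qc
  haveI : QuasiSeparated gj := MorphismProperty.of_isPullback h1 M.qs
  refine ⟨j, { obj := Yj, hom := gj, map := rY, sq := h4 }, inv (fj ≫ gj) ≫ fj, ?_, ?_⟩
  · rw [Category.assoc, IsIso.inv_hom_id]
  · have h5 : rX ≫ fj ≫ gj = (fgCone A).π.app j := by
      rw [← Category.assoc, h3.w, Category.assoc, h4.w, ← Category.assoc, hs, Category.id_comp]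
    rw [← h5, Category.assoc, IsIso.hom_inv_id_assoc]
    exact h3.w.symm

theorem isConstructible_sectionComponents {X S : Scheme.{u}} [AlgebraicGeometry.IsNoetherian S] (f : X ⟶ S)
    (s : S ⟶ X) (hs : s ≫ f = 𝟙 S) [LocallyOfFiniteType f] [QuasiCompact f] :
    IsConstructible (MoreMor.sectionComponents f s) := by
  haveI : IsLocallyNoetherian X := LocallyOfFiniteType.isLocallyNoetherian f
  haveI : CompactSpace X := QuasiCompact.compactSpace_of_compactSpace f
  haveI : AlgebraicGeometry.IsNoetherian X := { }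
  refine isConstructible_of_forall_integral fun Z i _ _ _ => ?_
  obtain ⟨V, -, hyV, hVo, hclopen⟩ := exists_clopen_in_closure f s hs (f.base (i.base (genericPoint ↥Z)))
  have hcl : ∀ z : Z, f.base (i.base z) ∈ closure {f.base (i.base (genericPoint ↥Z))} := fun z =>
    specializes_iff_mem_closure.mp ((((genericPoint_spec ↥Z).specializes trivial).map i.continuous).map f.continuous)
  let W : Set Z := (fun z => f.base (i.base z)) ⁻¹' V
  have hW : IsOpen W := hVo.preimage
    ((f.continuous.comp i.continuous).subtype_mk hcl : Continuous fun z => (⟨_, hcl z⟩ : ↑(closure _)))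
  let e : W → ↑(f.base ⁻¹' V) := fun z => ⟨i.base z.1, z.2⟩
  have he : Continuous e := (i.continuous.comp continuous_subtype_val).subtype_mk _
  by_cases hg : i.base (genericPoint ↥Z) ∈ MoreMor.sectionComponents f s
  · refine Or.inl ⟨genericPoint ↥Z, ?_⟩
    refine mem_interior.mpr ⟨Subtype.val '' (e ⁻¹' (Subtype.val ⁻¹' MoreMor.sectionComponents f s)), ?_,
      hW.isOpenMap_subtype_val _ (hclopen.isOpen.preimage he), ⟨⟨genericPoint ↥Z, hyV⟩, hg, rfl⟩⟩
    rintro _ ⟨w, hw, rfl⟩
    exact hw
  · refine Or.inr ⟨genericPoint ↥Z, ?_⟩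
    refine mem_interior.mpr ⟨Subtype.val '' (e ⁻¹' (Subtype.val ⁻¹' MoreMor.sectionComponents f s)ᶜ), ?_,
      hW.isOpenMap_subtype_val _ (hclopen.compl.isOpen.preimage he), ⟨⟨genericPoint ↥Z, hyV⟩, hg, rfl⟩⟩
    rintro _ ⟨w, hw, rfl⟩
    exact hw

theorem isLocallyConstructible_sectionComponents {X Y : Scheme.{u}} (f : X ⟶ Y) (s : Y ⟶ X) (hs : s ≫ f = 𝟙 Y)
    [LocallyOfFinitePresentation f] [QuasiCompact f] [QuasiSeparated f] :
    IsLocallyConstructible (MoreMor.sectionComponents f s) := by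
  intro x
  obtain ⟨V, hV, hxV⟩ : ∃ V : Y.Opens, IsAffineOpen V ∧ f.base x ∈ V := by
    obtain ⟨V, hV', h1, -⟩ := TopologicalSpace.Opens.isBasis_iff_nbhd.1 Y.isBasis_affineOpens
      (TopologicalSpace.Opens.mem_top (f.base x))
    exact ⟨V, hV', h1⟩
  let A : CommRingCat.{u} := Γ(Y, V)
  let f' : pullback f hV.fromSpec ⟶ (fgCone A).pt := pullback.snd f hV.fromSpec
  let s' : (fgCone A).pt ⟶ pullback f hV.fromSpec :=
    pullback.lift (hV.fromSpec ≫ s) (𝟙 _) (by rw [Category.assoc, hs, Category.comp_id]; exact (Category.id_comp _).symm)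
  have hs' : s' ≫ f' = 𝟙 _ := pullback.lift_snd _ _ _
  haveI : LocallyOfFinitePresentation f' := MorphismProperty.pullback_snd _ _ inferInstance
  haveI : QuasiCompact f' := MorphismProperty.pullback_snd _ _ inferInstance
  haveI : QuasiSeparated f' := MorphismProperty.pullback_snd _ _ inferInstance
  obtain ⟨k, M, s₀, hs₀, hcomp⟩ := exists_section_model f' s' hs'
  have e1 := Groth.GrpschAbsch.SectionComp.preimage_sectionComponents hs (IsPullback.of_hasPullback f hV.fromSpec)
    hs' (pullback.lift_fst _ _ _)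
  have e2 := Groth.GrpschAbsch.SectionComp.preimage_sectionComponents hs₀ M.sq hs' hcomp
  haveI : LocallyOfFiniteType M.hom := inferInstance
  have hc : IsConstructible (MoreMor.sectionComponents f' s') := by
    rw [e2]
    exact M.map.isConstructible_preimage (isConstructible_sectionComponents M.hom s₀ hs₀)
  let q := pullback.fst f hV.fromSpec
  have hr : Set.range q.base = f.base ⁻¹' (V : Set Y) := by
    rw [Scheme.Pullback.range_fst, hV.range_fromSpec]
  refine ⟨f.base ⁻¹' (V : Set Y), (V.isOpen.preimage f.continuous).mem_nhds hxV, V.isOpen.preimage f.continuous, ?_⟩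
  let e : ↥(pullback f hV.fromSpec) ≃ₜ ↑(f.base ⁻¹' (V : Set Y)) :=
    q.isOpenEmbedding.isEmbedding.toHomeomorph.trans (Homeomorph.setCongr hr)
  have hpre : (Subtype.val ⁻¹' MoreMor.sectionComponents f s : Set ↑(f.base ⁻¹' (V : Set Y))) =
      e.symm ⁻¹' MoreMor.sectionComponents f' s' := by
    ext w
    obtain ⟨v, rfl⟩ := e.surjective w
    rw [Set.mem_preimage, Set.mem_preimage, e.symm_apply_apply]
    exact (Set.ext_iff.mp e1 v).symm
  rw [hpre]
  exact hc.preimage_of_isOpenEmbedding e.symm.isOpenEmbedding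

end Groth.GeomComp
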