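import Groth.Agent.GeomComp.ConnectedModel
import Groth.Agent.SmoothSlice.Sections
import Groth.Agent.VarietyBC.SepPoints
import Groth.Agent.VarietyBC.GeomReducedGeneric
import Groth.Agent.S2156
import Groth.Agent.S0408
import Groth.Agent.Variety2.GenSmooth
import Groth.Agent.SpectralTopology.Radicial
import Groth.Prelude.Def_Hens2
import Groth.Agent.DescentBase.DimEtale
import Mathlib

/-!
A geometrically connected open of a fibre spreads out over an elementary étale neighbourhood.
-/

set_option autoImplicit false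
universe u

open AlgebraicGeometry CategoryTheory Limits Topology TopologicalSpace

namespace Groth.GeomComp

theorem exists_compact_open_inter_fibre {Y S : Scheme.{u}} (h : Y ⟶ S) [LocallyOfFiniteType h] [QuasiCompact h]
    (s : S) (T : (h.fiber s).Opens) (V₀ : S.Opens) (hs : s ∈ V₀) :
    ∃ Y₀ : Y.Opens, IsCompact (Y₀ : Set Y) ∧ Y₀ ≤ h ⁻¹ᵁ V₀ ∧ h.fiberι s ⁻¹ᵁ Y₀ = T := by
  haveI : LocallyOfFiniteType (h.fiberToSpecResidueField s) := MorphismProperty.pullback_snd _ _ inferInstance
  haveI : IsLocallyNoetherian (h.fiber s) := LocallyOfFiniteType.isLocallyNoetherian (h.fiberToSpecResidueField s)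
  haveI : QuasiCompact (h.fiberToSpecResidueField s) := MorphismProperty.pullback_snd _ _ inferInstance
  haveI : CompactSpace (h.fiber s) := QuasiCompact.compactSpace_of_compactSpace (h.fiberToSpecResidueField s)
  haveI : AlgebraicGeometry.IsNoetherian (h.fiber s) := { }
  obtain ⟨O, hO, hOT⟩ := (h.fiberι s).isEmbedding.isInducing.isOpen_iff.mp T.isOpen
  have hTc : IsCompact ((h.fiberι s).base '' (T : Set (h.fiber s))) :=
    (NoetherianSpace.isCompact (T : Set (h.fiber s))).image (h.fiberι s).continuous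
  choose W hW hxW hWO using fun x : (h.fiberι s).base '' (T : Set (h.fiber s)) =>
    exists_isAffineOpen_mem_and_subset (U := (⟨O, hO⟩ : Y.Opens) ⊓ h ⁻¹ᵁ V₀) (x := x.1) (by
      obtain ⟨t, ht, e⟩ := x.2
      rw [← e]
      refine ⟨(Set.ext_iff.mp hOT t).mpr ht, ?_⟩
      show h.base ((h.fiberι s).base t) ∈ V₀
      rw [Groth.FibreDim.apply_fiberι]; exact hs)
  obtain ⟨F, hF⟩ := hTc.elim_finite_subcover (fun x => (W x : Set Y)) (fun x => (W x).isOpen)
    (fun x hx => Set.mem_iUnion.mpr ⟨⟨x, hx⟩, hxW _⟩)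
  refine ⟨⨆ x ∈ F, W x, ?_, iSup₂_le fun x _ => fun y hy => (hWO x hy).2, ?_⟩
  · rw [show ((⨆ x ∈ F, W x : Y.Opens) : Set Y) = ⋃ x ∈ F, (W x : Set Y) by simp]
    exact F.isCompact_biUnion fun x _ => (hW x).isCompact
  · refine TopologicalSpace.Opens.ext (Set.ext fun t => ⟨fun ht => ?_, fun ht => ?_⟩)
    · obtain ⟨x, hx⟩ := TopologicalSpace.Opens.mem_iSup.mp ht
      obtain ⟨-, hx⟩ := TopologicalSpace.Opens.mem_iSup.mp hx
      exact (Set.ext_iff.mp hOT t).mp (hWO x hx).1
    · obtain ⟨x, hxF, hx⟩ := Set.mem_iUnion₂.mp (hF ⟨t, ht, rfl⟩)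
      exact TopologicalSpace.Opens.mem_iSup.mpr ⟨x, TopologicalSpace.Opens.mem_iSup.mpr ⟨hxF, hx⟩⟩

theorem mem_smoothLocus_of_fiber {Y S : Scheme.{u}} (h : Y ⟶ S) [Flat h] [LocallyOfFinitePresentation h] (s : S)
    (c : h.fiber s) (hc : c ∈ (h.fiberToSpecResidueField s).smoothLocus) : (h.fiberι s).base c ∈ h.smoothLocus := by
  suffices ∀ (y : Y) (_ : h.base y = s) (c : h.fiber s), (h.fiberι s).base c = y →
      c ∈ (h.fiberToSpecResidueField s).smoothLocus → y ∈ h.smoothLocus from
    this _ (Groth.FibreDim.apply_fiberι h s c) c rfl hc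
  rintro y rfl c hcy hc
  haveI : LocallyOfFinitePresentation (h.fiberToSpecResidueField (h.base y)) :=
    MorphismProperty.pullback_snd _ _ inferInstance
  obtain rfl : c = h.asFiber y := (h.fiberι _).isEmbedding.injective (hcy.trans (h.fiberι_asFiber y).symm)
  exact (Groth.Agent.S2156.result h y).mpr ⟨Flat.stalkMap h y, hc⟩

theorem residueFieldMap_fibre_eq {Y S : Scheme.{u}} (h : Y ⟶ S) (s : S) (c : h.fiber s) :
    letI : (h.fiber s).Over (Spec (CommRingCat.of (IsLocalRing.ResidueField (S.presheaf.stalk s)))) :=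
      ⟨h.fiberToSpecResidueField s⟩
    h.residueFieldMap ((h.fiberι s).base c) ≫ (h.fiberι s).residueFieldMap c =
      (S.residueFieldCongr (Groth.FibreDim.apply_fiberι h s c)).hom ≫
        CommRingCat.ofHom (Curv2.resMap (IsLocalRing.ResidueField (S.presheaf.stalk s)) (h.fiber s) c) := by
  letI : (h.fiber s).Over (Spec (CommRingCat.of (IsLocalRing.ResidueField (S.presheaf.stalk s)))) :=
      ⟨h.fiberToSpecResidueField s⟩
  apply Spec.map_injective
  rw [← cancel_mono (S.fromSpecResidueField _), Spec.map_comp, Category.assoc,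
    Scheme.Hom.SpecMap_residueFieldMap_fromSpecResidueField, ← Category.assoc,
    Scheme.Hom.SpecMap_residueFieldMap_fromSpecResidueField, Category.assoc, h.fiber_fac, Spec.map_comp,
    Category.assoc, Scheme.residueFieldCongr_fromSpecResidueField]
  exact (reassoc_of% (Groth.VarietyBC.fromSpecResidueField_str (k := IsLocalRing.ResidueField (S.presheaf.stalk s)) c)) _

theorem isSeparable_residueFieldMap_of_fibre {Y S : Scheme.{u}} (h : Y ⟶ S) (s : S) (c : h.fiber s)
    (hsep : letI : (h.fiber s).Over (Spec (CommRingCat.of (IsLocalRing.ResidueField (S.presheaf.stalk s)))) :=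
        ⟨h.fiberToSpecResidueField s⟩
      letI := Curv2.resAlgebra (IsLocalRing.ResidueField (S.presheaf.stalk s)) (h.fiber s) c
      Algebra.IsSeparable (IsLocalRing.ResidueField (S.presheaf.stalk s)) ((h.fiber s).residueField c))
    (y : Y) (hy : (h.fiberι s).base c = y) :
    @Algebra.IsSeparable (S.residueField (h.base y)) (Y.residueField y) _ _ (h.residueFieldMap y).hom.toAlgebra := by
  subst hy
  letI : (h.fiber s).Over (Spec (CommRingCat.of (IsLocalRing.ResidueField (S.presheaf.stalk s)))) :=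
      ⟨h.fiberToSpecResidueField s⟩
  letI := Curv2.resAlgebra (IsLocalRing.ResidueField (S.presheaf.stalk s)) (h.fiber s) c
  letI := (h.residueFieldMap ((h.fiberι s).base c)).hom.toAlgebra
  let e₁ : S.residueField (h.base ((h.fiberι s).base c)) ≃+* IsLocalRing.ResidueField (S.presheaf.stalk s) :=
    (S.residueFieldCongr (Groth.FibreDim.apply_fiberι h s c)).commRingCatIsoToRingEquiv
  let e₂ : Y.residueField ((h.fiberι s).base c) ≃+* (h.fiber s).residueField c :=
    RingEquiv.ofBijective ((h.fiberι s).residueFieldMap c).hom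
      (Groth.SpectralTopology.bijective_residueFieldMap (h.fiberι s) c)
  haveI := hsep
  refine Algebra.IsSeparable.of_equiv_equiv e₁.symm e₂.symm (RingHom.ext fun r => ?_)
  obtain ⟨r, rfl⟩ := e₁.surjective r
  apply e₂.injective
  have e := congrArg (fun m => m.hom r) (residueFieldMap_fibre_eq h s c)
  simp only [CommRingCat.hom_comp, RingHom.comp_apply] at e
  simp only [RingHom.comp_apply, RingEquiv.coe_toRingHom, RingEquiv.symm_apply_apply, RingEquiv.apply_symm_apply]
  exact e

theorem geometricallyReduced_comp_openImmersion {U Y S : Scheme.{u}} (j : U ⟶ Y) [IsOpenImmersion j] (h : Y ⟶ S)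
    [GeometricallyReduced h] : GeometricallyReduced (j ≫ h) := by
  rw [GeometricallyReduced.eq_geometrically, geometrically_iff_of_isClosedUnderIsomorphisms]
  intro K _ a
  haveI : IsReduced (pullback h a) :=
    GeometricallyReduced.geometrically_isReduced _ _ _ (IsPullback.of_hasPullback h a)
  exact isReduced_of_isOpenImmersion ((pullbackRightPullbackFstIso h a j).inv ≫ pullback.snd j (pullback.fst h a))

theorem quasiCompact_of_compact_to_affine {X A : Scheme.{u}} [CompactSpace X] [IsAffine A] (f : X ⟶ A) : QuasiCompact f :=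
  (HasAffineProperty.iff_of_isAffine (P := @QuasiCompact)).mpr inferInstance

theorem isCompact_preimage_of_le_affine {X S : Scheme.{u}} [CompactSpace X] (f : X ⟶ S) {W₁ W₂ : S.Opens}
    (hW₁ : IsAffineOpen W₁) (hW₂ : IsAffineOpen W₂) (hle : W₂ ≤ W₁) (hf : ∀ x, f.base x ∈ W₁) :
    IsCompact (f.base ⁻¹' (W₂ : Set S)) := by
  haveI : IsAffine (W₁ : Scheme.{u}) := hW₁
  let f₁ : X ⟶ (W₁ : Scheme.{u}) := IsOpenImmersion.lift W₁.ι f (by
    rintro _ ⟨t, rfl⟩
    rw [Scheme.Opens.range_ι]
    exact hf t)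
  haveI := quasiCompact_of_compact_to_affine f₁
  have hc : IsCompact ((W₁.ι ⁻¹ᵁ W₂ : (W₁ : Scheme.{u}).Opens) : Set (W₁ : Scheme.{u})) :=
    (hW₂.preimage_of_isOpenImmersion _ (by rw [Scheme.Opens.opensRange_ι]; exact hle)).isCompact
  have := f₁.isCompact_preimage hc
  convert this using 1
  ext x
  show f.base x ∈ W₂ ↔ W₁.ι.base (f₁.base x) ∈ W₂
  rw [← Scheme.Hom.comp_apply, IsOpenImmersion.lift_fac]

theorem geometricallyConnected_iff_of_range_eq {M Q S : Scheme.{u}} (j : M ⟶ Q) [IsOpenImmersion j] (V : Q.Opens)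
    (hV : j.opensRange = V) (p : Q ⟶ S) :
    GeometricallyConnected (V.ι ≫ p) ↔ GeometricallyConnected (j ≫ p) := by
  subst hV
  constructor
  · intro h
    rw [← j.isoOpensRange_hom_ι, Category.assoc]
    exact (MorphismProperty.cancel_left_of_respectsIso (P := @GeometricallyConnected) _ _).mpr h
  · intro h
    rw [← j.isoOpensRange_inv_comp, Category.assoc]
    exact (MorphismProperty.cancel_left_of_respectsIso (P := @GeometricallyConnected) _ _).mpr h

theorem geometricallyConnected_fiber_opens {Y S : Scheme.{u}} (h : Y ⟶ S) (s : S) (Y₀ : Y.Opens)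
    (T : (h.fiber s).Opens) (hT : h.fiberι s ⁻¹ᵁ Y₀ = T)
    (hconn : GeometricallyConnected (T.ι ≫ h.fiberToSpecResidueField s)) :
    GeometricallyConnected ((Y₀.ι ≫ h).fiberToSpecResidueField s) := by
  subst hT
  have sq : IsPullback (h.fiberι s ∣_ Y₀) ((h.fiberι s ⁻¹ᵁ Y₀).ι ≫ h.fiberToSpecResidueField s) (Y₀.ι ≫ h)
      (S.fromSpecResidueField s) :=
    (isPullback_morphismRestrict (h.fiberι s) Y₀).flip.flip.paste_vert (IsPullback.of_hasPullback h (S.fromSpecResidueField s))
  have e : sq.isoPullback.hom ≫ (Y₀.ι ≫ h).fiberToSpecResidueField s =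
      (h.fiberι s ⁻¹ᵁ Y₀).ι ≫ h.fiberToSpecResidueField s := sq.isoPullback_hom_snd
  rw [← e] at hconn
  exact (MorphismProperty.cancel_left_of_respectsIso (P := @GeometricallyConnected) _ _).mp hconn

/-- **Spreading out a geometrically connected open of a fibre** over an elementary étale neighbourhood. -/
theorem exists_etale_spread {Y S : Scheme.{u}} (h : Y ⟶ S) [Flat h] [LocallyOfFinitePresentation h] [QuasiCompact h]
    [QuasiSeparated h] [GeometricallyReduced h] (s : S) (T : (h.fiber s).Opens)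
    (hT : GeometricallyConnected (T.ι ≫ h.fiberToSpecResidueField s)) :
    ∃ (S' : Scheme.{u}) (g : S' ⟶ S) (s' : S'), IsAffine S' ∧ Hens2.IsEtaleNbhd g s' s ∧
      ∃ V : (pullback h g).Opens, IsCompact (V : Set ↑(pullback h g)) ∧
        GeometricallyConnected (V.ι ≫ pullback.snd h g) ∧
        ∀ y' : ↑(pullback h g), (pullback.snd h g).base y' = s' →
          (y' ∈ V ↔ (pullback.fst h g).base y' ∈ (h.fiberι s).base '' (T : Set ↑(h.fiber s))) := by
  -- shrink `Y`
  obtain ⟨V₀, hV₀, hsV₀, -⟩ := exists_isAffineOpen_mem_and_subset (U := ⊤) (Set.mem_univ s)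
  obtain ⟨Y₀, hY₀c, hY₀V, hY₀T⟩ := exists_compact_open_inter_fibre h s T V₀ hsV₀
  -- a separable point of `T`
  let k := IsLocalRing.ResidueField (S.presheaf.stalk s)
  letI : (h.fiber s).Over (Spec (CommRingCat.of k)) := ⟨h.fiberToSpecResidueField s⟩
  haveI : LocallyOfFiniteType (h.fiber s ↘ Spec (CommRingCat.of k)) := MorphismProperty.pullback_snd _ _ inferInstance
  haveI : LocallyOfFinitePresentation (h.fiber s ↘ Spec (CommRingCat.of k)) :=
    MorphismProperty.pullback_snd _ _ inferInstance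
  haveI hgr : GeometricallyReduced (h.fiber s ↘ Spec (CommRingCat.of k)) := MorphismProperty.pullback_snd _ _ inferInstance
  haveI : IsReduced (h.fiber s) := by
    haveI : Subsingleton ↥(Spec (CommRingCat.of k)) := inferInstanceAs (Subsingleton (PrimeSpectrum k))
    exact self_of_isIntegral_of_geometrically hgr.geometrically_isReduced
  haveI : ConnectedSpace ↥(T : Scheme.{u}) :=
    hT.geometrically_connectedSpace (K := k) (𝟙 _) (𝟙 _) (T.ι ≫ h.fiberToSpecResidueField s) IsPullback.of_id_fst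
  let str := h.fiber s ↘ Spec (CommRingCat.of k)
  obtain ⟨c₀, hc₀T, hc₀sm⟩ := (Groth.VarietyBC.dense_smoothLocus (k := k) (X := h.fiber s)).inter_open_nonempty
    (T : Set (h.fiber s)) T.isOpen ⟨_, (Classical.arbitrary (T : Scheme.{u})).2⟩
  let O : (h.fiber s).Opens := T ⊓ str.smoothLocus
  letI : (O : Scheme.{u}).Over (Spec (CommRingCat.of k)) := ⟨O.ι ≫ str⟩
  haveI : Smooth ((O : Scheme.{u}) ↘ Spec (CommRingCat.of k)) :=
    Groth.Variety2.smooth_of_le_smoothLocus str O inf_le_right
  obtain ⟨c', -, -, -, hsep'⟩ := Groth.VarietyBC.exists_closed_separable (k := k) (X := (O : Scheme.{u})) (O := ⊤)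
    ⟨⟨c₀, hc₀T, hc₀sm⟩, trivial⟩
  let c : h.fiber s := O.ι.base c'
  have hsep : letI := Curv2.resAlgebra k (h.fiber s) c; Algebra.IsSeparable k ((h.fiber s).residueField c) := by
    letI := Curv2.resAlgebra k (h.fiber s) c
    letI := Curv2.resAlgebra k (O : Scheme.{u}) c'
    let e : (h.fiber s).residueField c ≃+* (O : Scheme.{u}).residueField c' :=
      RingEquiv.ofBijective (O.ι.residueFieldMap c').hom (Groth.SpectralTopology.bijective_residueFieldMap O.ι c')
    haveI := hsep'
    refine Algebra.IsSeparable.of_equiv_equiv (RingEquiv.refl k) e.symm (RingHom.ext fun r => ?_)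
    apply e.injective
    have hcomp : CommRingCat.ofHom (Curv2.resMap k (O : Scheme.{u}) c') =
        CommRingCat.ofHom (Curv2.resMap k (h.fiber s) c) ≫ O.ι.residueFieldMap c' := by
      apply Spec.map_injective
      rw [Spec.map_comp, ← Groth.VarietyBC.fromSpecResidueField_str (k := k) c',
        ← Groth.VarietyBC.fromSpecResidueField_str (k := k) c, ← Category.assoc,
        Scheme.Hom.SpecMap_residueFieldMap_fromSpecResidueField, Category.assoc]
      rfl
    simp only [RingHom.comp_apply, RingEquiv.coe_toRingHom, RingEquiv.apply_symm_apply]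
    exact (congrArg (fun m => m.hom r) hcomp).symm
  let yc := (h.fiberι s).base c
  have hycY₀ : yc ∈ Y₀ := by
    show c ∈ h.fiberι s ⁻¹ᵁ Y₀
    rw [hY₀T]; exact c'.2.1
  have hycsm : yc ∈ h.smoothLocus := mem_smoothLocus_of_fiber h s c c'.2.2
  -- an étale slice through it
  let Ys : Y.Opens := Y₀ ⊓ h.smoothLocus
  haveI : Smooth (Ys.ι ≫ h) := Groth.Variety2.smooth_of_le_smoothLocus h Ys inf_le_right
  have hys : h.base yc = s := Groth.FibreDim.apply_fiberι h s c
  obtain ⟨Z, i, z, -, hZet, hiz, -⟩ := Groth.SmoothSlice.exists_etale_slice_through (Ys.ι ≫ h) ⟨yc, hycY₀, hycsm⟩ (by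
    have h1 := isSeparable_residueFieldMap_of_fibre h s c hsep yc rfl
    letI := (h.residueFieldMap yc).hom.toAlgebra
    letI := ((Ys.ι ≫ h).residueFieldMap ⟨yc, hycY₀, hycsm⟩).hom.toAlgebra
    haveI := h1
    refine Algebra.IsSeparable.of_equiv_equiv (A₁ := S.residueField (h.base yc)) (B₁ := Y.residueField yc)
      (RingEquiv.refl _) (RingEquiv.ofBijective (Ys.ι.residueFieldMap ⟨yc, hycY₀, hycsm⟩).hom
        (Groth.SpectralTopology.bijective_residueFieldMap Ys.ι _)) ?_
    exact Groth.SpectralTopology.hom_comp Ys.ι h ⟨yc, hycY₀, hycsm⟩)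
  obtain ⟨Za, hZa, hzZa, -⟩ := exists_isAffineOpen_mem_and_subset (U := ⊤) (Set.mem_univ z)
  let q := Za.ι ≫ i ≫ Ys.ι ≫ h
  haveI : Etale q := by
    haveI := hZet
    exact inferInstanceAs (Etale (Za.ι ≫ (i ≫ Ys.ι ≫ h)))
  haveI : IsAffine (Za : Scheme.{u}) := hZa
  haveI : IsSeparated q := IsSeparated.of_comp q (terminal.from S)
  have hqz : q.base ⟨z, hzZa⟩ = s := by
    show h.base (Ys.ι.base (i.base z)) = s
    rw [hiz]; exact hys
  -- make it finite over an elementary neighbourhood
  haveI : IsAffine (V₀ : Scheme.{u}) := hV₀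
  let q' : (Za : Scheme.{u}) ⟶ (V₀ : Scheme.{u}) := IsOpenImmersion.lift V₀.ι q (by
    rintro _ ⟨t, rfl⟩
    rw [Scheme.Opens.range_ι]
    exact hY₀V ((i.base (Za.ι.base t))).2.1)
  have hq' : q' ≫ V₀.ι = q := IsOpenImmersion.lift_fac _ _ _
  haveI : Etale q' := by
    haveI : Etale (q' ≫ V₀.ι) := by rw [hq']; infer_instance
    exact Etale.of_comp q' V₀.ι
  haveI := Groth.DescentBase.locallyQuasiFinite_of_etale q'
  obtain ⟨U, g', u, hget, hgu, hres, V, v, -, hVfin, hvV, -, hvu, -, -⟩ :=
    Groth.Agent.S0408.result q' ⟨z, hzZa⟩ (Scheme.Hom.quasiFiniteAt q' _)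
  haveI := hget
  let g : U ⟶ S := g' ≫ V₀.ι
  haveI : Etale g := inferInstanceAs (Etale (g' ≫ V₀.ι))
  let W := V.ι ≫ pullback.snd q' g'
  haveI : IsFinite W := hVfin
  haveI : Etale W := inferInstance
  let Yo : Scheme.{u} := Y₀
  let h₀ := Y₀.ι ≫ h
  let f := pullback.snd h₀ g
  let m : (Za : Scheme.{u}) ⟶ Yo := IsOpenImmersion.lift Y₀.ι (Za.ι ≫ i ≫ Ys.ι) (by
    rintro _ ⟨t, rfl⟩
    rw [Scheme.Opens.range_ι]
    exact ((i.base (Za.ι.base t))).2.1)
  have hm : m ≫ h₀ = q := by
    show m ≫ Y₀.ι ≫ h = _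
    rw [← Category.assoc, IsOpenImmersion.lift_fac, Category.assoc, Category.assoc]
  let σ : (V : Scheme.{u}) ⟶ pullback h₀ g := pullback.lift (V.ι ≫ pullback.fst q' g' ≫ m) W
    (by rw [Category.assoc, Category.assoc, hm, ← hq', pullback.condition_assoc]; simp only [W, g, Category.assoc])
  let h₁ : Yo ⟶ (V₀ : Scheme.{u}) := IsOpenImmersion.lift V₀.ι h₀ (by
    rintro _ ⟨t, rfl⟩
    rw [Scheme.Opens.range_ι]
    exact hY₀V t.2)
  have hh₁ : h₁ ≫ V₀.ι = h₀ := IsOpenImmersion.lift_fac _ _ _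
  haveI : CompactSpace Yo := isCompact_iff_compactSpace.mp hY₀c
  haveI : QuasiCompact h₁ := quasiCompact_of_compact_to_affine h₁
  haveI : QuasiSeparated h₀ := inferInstance
  have hf₁ : IsPullback (pullback.fst h₀ g) f h₁ g' :=
    IsPullback.of_right (h₁₂ := 𝟙 _) (h₂₂ := V₀.ι) (v₁₃ := h₀)
      (by rw [Category.comp_id]; exact IsPullback.of_hasPullback h₀ g)
      (by rw [← cancel_mono V₀.ι, Category.assoc, hh₁, pullback.condition, Category.assoc])
      (IsPullback.of_isLimit' ⟨by rw [Category.id_comp, hh₁]⟩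
        (PullbackCone.IsLimit.mk _ (fun t => t.fst) (fun t => Category.comp_id _)
          (fun t => by rw [← cancel_mono V₀.ι, Category.assoc, hh₁, t.condition])
          (fun t m h1 _ => by simpa using h1)))
  haveI : QuasiCompact f := MorphismProperty.of_isPullback hf₁ inferInstance
  have hus : g.base u = s := by
    rw [Scheme.Hom.comp_apply, hgu, ← Scheme.Hom.comp_apply, hq']; exact hqz
  have hgc : GeometricallyConnected (f.fiberToSpecResidueField u) := by
    obtain ⟨qq, -, hq⟩ := Groth.EGA43Topo.FlatUnivOpen.exists_fibre_isPullback h₀ g u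
    have hgs : GeometricallyConnected (h₀.fiberToSpecResidueField (g.base u)) := by
      rw [hus]; exact geometricallyConnected_fiber_opens h s Y₀ T hY₀T hT
    exact MorphismProperty.of_isPullback hq hgs
  haveI : GeometricallyReduced h₀ := geometricallyReduced_comp_openImmersion _ h
  obtain ⟨U₁, W₁, huW₁, hW₁, hU₁W, hU₁c, hU₁fib, hconn⟩ :=
    exists_open_geometricallyConnected_of_multisection f W σ (pullback.lift_snd _ _ _) u ⟨⟨v, hvV⟩, hvu⟩ hgc
  -- shrink to the image
  haveI : UniversallyOpen (U₁.ι ≫ f) := inferInstance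
  obtain ⟨W₂, hW₂, huW₂, hW₂sub⟩ := exists_isAffineOpen_mem_and_subset (x := u)
    (U := W₁ ⊓ ⟨Set.range (U₁.ι ≫ f).base, (U₁.ι ≫ f).isOpenMap.isOpen_range⟩) ⟨huW₁, by
      obtain ⟨t, ht⟩ : u ∈ f.base '' (U₁ : Set ↥(pullback h₀ g)) := by
        refine ⟨σ.base ⟨v, hvV⟩, hU₁fib ?_, ?_⟩ <;>
        · show f.base (σ.base ⟨v, hvV⟩) = u
          rw [← Scheme.Hom.comp_apply, pullback.lift_snd]
          exact hvu
      exact ⟨⟨t, ht.1⟩, ht.2⟩⟩
  have hgnbhd : Hens2.IsEtaleNbhd (W₂.ι ≫ g) ⟨u, huW₂⟩ s := by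
    refine ⟨inferInstance, by rw [Scheme.Hom.comp_apply]; exact hus, ?_⟩
    show Function.Bijective ((W₂.ι ≫ g).residueFieldMap _).hom
    rw [Groth.SpectralTopology.hom_comp]
    exact (Groth.SpectralTopology.bijective_residueFieldMap W₂.ι _).comp (by
      show Function.Bijective ((g' ≫ V₀.ι).residueFieldMap _).hom
      rw [Groth.SpectralTopology.hom_comp]
      exact Function.Bijective.comp (f := (V₀.ι.residueFieldMap _).hom) (g := (g'.residueFieldMap u).hom) ⟨RingHom.injective _, hres⟩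
        (Groth.SpectralTopology.bijective_residueFieldMap V₀.ι _))
  refine ⟨W₂, W₂.ι ≫ g, ⟨u, huW₂⟩, hW₂, hgnbhd, ?_⟩
  let k₁ : pullback h₀ g ⟶ pullback h g := pullback.map h₀ g h g Y₀.ι (𝟙 _) (𝟙 _)
    (by rw [Category.comp_id]) (by rw [Category.comp_id, Category.id_comp])
  have hk₁ : IsPullback (pullback.fst h₀ g) k₁ Y₀.ι (pullback.fst h g) := by
    refine IsPullback.of_bot ?_ (pullback.lift_fst _ _ _).symm (IsPullback.of_hasPullback h g)
    rw [show k₁ ≫ pullback.snd h g = pullback.snd h₀ g from (pullback.lift_snd _ _ _).trans (Category.comp_id _)]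
    exact IsPullback.of_hasPullback h₀ g
  haveI : IsOpenImmersion k₁ := MorphismProperty.of_isPullback (P := @IsOpenImmersion) hk₁ inferInstance
  let M := pullback (U₁.ι ≫ f) W₂.ι
  let j : M ⟶ pullback h (W₂.ι ≫ g) :=
    pullback.lift (pullback.fst _ _ ≫ U₁.ι ≫ k₁ ≫ pullback.fst h g) (pullback.snd _ _) (by
      simp only [Category.assoc]
      rw [pullback.condition, ← Category.assoc k₁, show k₁ ≫ pullback.snd h g = f from
        (pullback.lift_snd _ _ _).trans (Category.comp_id _), ← Category.assoc U₁.ι, ← Category.assoc,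
        pullback.condition, Category.assoc])
  let k₂ : pullback h (W₂.ι ≫ g) ⟶ pullback h g := pullback.map h (W₂.ι ≫ g) h g (𝟙 _) W₂.ι (𝟙 _)
    (by rw [Category.comp_id, Category.id_comp]) (by rw [Category.comp_id])
  have hk₂ : IsPullback k₂ (pullback.snd h (W₂.ι ≫ g)) (pullback.snd h g) W₂.ι :=
    IsPullback.of_right (by
      rw [show k₂ ≫ pullback.fst h g = pullback.fst h (W₂.ι ≫ g) from (pullback.lift_fst _ _ _).trans (Category.comp_id _)]
      exact IsPullback.of_hasPullback h (W₂.ι ≫ g)) (pullback.lift_snd _ _ _) (IsPullback.of_hasPullback h g)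
  have hj : IsPullback (pullback.fst (U₁.ι ≫ f) W₂.ι) j (U₁.ι ≫ k₁) k₂ := by
    refine IsPullback.of_bot ?_ ?_ hk₂
    · rw [pullback.lift_snd, Category.assoc, show k₁ ≫ pullback.snd h g = f from
        (pullback.lift_snd _ _ _).trans (Category.comp_id _)]
      exact IsPullback.of_hasPullback (U₁.ι ≫ f) W₂.ι
    · apply pullback.hom_ext
      · simp only [Category.assoc, k₂, j, pullback.lift_fst, pullback.map, Category.comp_id]
      · simp only [Category.assoc, k₂, j, pullback.lift_snd, pullback.map, pullback.lift_snd_assoc]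
        rw [show k₁ ≫ pullback.snd h g = f from (pullback.lift_snd _ _ _).trans (Category.comp_id _)]
        exact pullback.condition
  haveI : IsOpenImmersion j := MorphismProperty.of_isPullback (P := @IsOpenImmersion) hj inferInstance
  refine ⟨j.opensRange, ?_, ?_, fun y' hy' => ?_⟩
  · haveI : IsAffine (W₂ : Scheme.{u}) := hW₂
    haveI : CompactSpace (U₁ : Scheme.{u}) := isCompact_iff_compactSpace.mp hU₁c
    haveI : CompactSpace M := by
      haveI : IsAffine (W₁ : Scheme.{u}) := hW₁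
      have hU' : IsCompact ((U₁.ι ≫ f).base ⁻¹' (W₂ : Set U)) :=
        isCompact_preimage_of_le_affine (U₁.ι ≫ f) hW₁ hW₂ (fun _ hp => (hW₂sub hp).1) (fun t => hU₁W t.2)
      haveI : CompactSpace (((U₁.ι ≫ f) ⁻¹ᵁ W₂ : (U₁ : Scheme.{u}).Opens) : Scheme.{u}) := isCompact_iff_compactSpace.mp hU'
      exact (IsPullback.of_hasPullback (U₁.ι ≫ f) W₂.ι |>.isoIsPullback _ _
        (isPullback_morphismRestrict (U₁.ι ≫ f) W₂).flip).inv.homeomorph.compactSpace
    exact isCompact_range j.continuous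
  · rw [geometricallyConnected_iff_of_range_eq j _ rfl, pullback.lift_snd,
      GeometricallyConnected.eq_geometrically, geometrically_iff_of_isClosedUnderIsomorphisms]
    intro K _ a
    let e := pullbackLeftPullbackSndIso (U₁.ι ≫ f) W₂.ι a
    haveI := hconn K (a ≫ W₂.ι) (by
      obtain ⟨t, ht⟩ := (hW₂sub (a.base (IsLocalRing.closedPoint K)).2).2
      exact ⟨U₁.ι.base t, t.2, by rw [← Scheme.Hom.comp_apply, ht]; rfl⟩)
    exact e.inv.surjective.connectedSpace e.inv.continuous
  · constructor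
    · rintro ⟨t, rfl⟩
      have hft : (pullback.fst h (W₂.ι ≫ g)).base (j.base t) = Y₀.ι.base ((pullback.fst h₀ g).base (U₁.ι.base
          ((pullback.fst (U₁.ι ≫ f) W₂.ι).base t))) := by
        rw [← Scheme.Hom.comp_apply, pullback.lift_fst, hk₁.w.symm]
        rfl
      have hfs : h.base ((pullback.fst h (W₂.ι ≫ g)).base (j.base t)) = s := by
        rw [← Scheme.Hom.comp_apply, pullback.condition, Scheme.Hom.comp_apply, hy']
        exact hus
      obtain ⟨w, hw⟩ : (pullback.fst h (W₂.ι ≫ g)).base (j.base t) ∈ Set.range (h.fiberι s).base :=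
        (h.range_fiberι s).ge hfs
      refine ⟨w, ?_, hw⟩
      rw [← hY₀T]
      show (h.fiberι s).base w ∈ Y₀
      rw [hw, hft]
      exact ((pullback.fst h₀ g).base _).2
    · rintro ⟨w, hw, hwy⟩
      have hwY₀ : (pullback.fst h (W₂.ι ≫ g)).base y' ∈ Y₀ := by
        rw [← hwy]
        rw [← hY₀T] at hw
        exact hw
      have hk2f : (pullback.fst h g).base (k₂.base y') = (pullback.fst h (W₂.ι ≫ g)).base y' := by
        rw [← Scheme.Hom.comp_apply, pullback.lift_fst, Category.comp_id]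
      obtain ⟨p, -, hp⟩ := Scheme.exists_preimage_of_isPullback hk₁ ⟨_, hwY₀⟩ (k₂.base y') hk2f.symm
      have hpU : p ∈ U₁ := hU₁fib (by
        show f.base p = u
        have : f.base p = (pullback.snd h g).base (k₂.base y') := by
          rw [← hp, ← Scheme.Hom.comp_apply k₁, show k₁ ≫ pullback.snd h g = f from
            (pullback.lift_snd _ _ _).trans (Category.comp_id _)]
        rw [this, ← Scheme.Hom.comp_apply, hk₂.w, Scheme.Hom.comp_apply, hy']
        rfl)
      obtain ⟨t, -, ht⟩ := Scheme.exists_preimage_of_isPullback hj ⟨p, hpU⟩ y' (by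
        rw [Scheme.Hom.comp_apply]; exact hp)
      exact ⟨t, ht⟩

end Groth.GeomComp
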