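import Groth.Agent.GeomComp.MeetingOpen
import Groth.Agent.EGA43Topo.FlatUnivOpen
import Groth.Agent.GeomComp.SectionModel
import Groth.Prelude.Def_Mor2
import Mathlib

/-!
Geometrically connected open models from finite locally free multisections.
-/

set_option autoImplicit false
universe u

open AlgebraicGeometry CategoryTheory Limits Topology TopologicalSpace

namespace Groth.GeomComp

theorem _root_.AlgebraicGeometry.Scheme.Hom.isClosed_singleton_of_subsingleton {X T : Scheme.{u}} [Subsingleton T]
    (h : X ⟶ T) [IsFinite h] (x : X) : IsClosed ({x} : Set X) := by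
  have hd : _root_.IsDiscrete (h.base ⁻¹' {h.base x}) := h.isDiscrete_preimage_singleton _
  have hu : h.base ⁻¹' {h.base x} = Set.univ := Set.eq_univ_of_forall fun v => Subsingleton.elim _ _
  rw [hu] at hd
  haveI : DiscreteTopology X := isDiscrete_univ_iff.mp hd
  exact isClosed_discrete _

theorem image_connectedComponent_of_isPullback_field {X Y P : Scheme.{u}} {a : P ⟶ X} {T : Scheme.{u}}
    [Subsingleton T] {q : P ⟶ T} {f : X ⟶ Y} {t : T ⟶ Y} (hc : IsPullback a q f t) (w : P) :
    a.base '' connectedComponent w = connectedComponentIn (f.base ⁻¹' {f.base (a.base w)}) (a.base w) := by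
  rw [← image_connectedComponentIn_of_isPullback hc w]
  have : q.base ⁻¹' {q.base w} = Set.univ := Set.eq_univ_of_forall fun v => Subsingleton.elim _ _
  rw [this, connectedComponentIn_univ]

/-- **Geometrically connected models from finite locally free multisections.** -/
theorem exists_open_geometricallyConnected_of_multisection {X Y Z : Scheme.{u}} (f : X ⟶ Y) [Flat f]
    [LocallyOfFinitePresentation f] [QuasiCompact f] [QuasiSeparated f] [GeometricallyReduced f] (g : Z ⟶ Y)
    [IsFinite g] [Flat g] [LocallyOfFinitePresentation g] (σ : Z ⟶ X) (hσ : σ ≫ f = g) (y : Y)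
    (hZy : y ∈ Set.range g) (hXy : GeometricallyConnected (f.fiberToSpecResidueField y)) :
    ∃ (U : X.Opens) (W : Y.Opens), y ∈ W ∧ IsAffineOpen W ∧ U ≤ f ⁻¹ᵁ W ∧ IsCompact (U : Set X) ∧
      f.base ⁻¹' {y} ⊆ (U : Set X) ∧
      ∀ (K : Type u) [Field K] (t : Spec (CommRingCat.of K) ⟶ Y),
        (∃ x ∈ U, f.base x = t.base (IsLocalRing.closedPoint K)) → ConnectedSpace ↥(pullback (U.ι ≫ f) t) := by
  -- the family of section components over `Z`
  let a := pullback.fst f g
  let f' := pullback.snd f g
  let τ : Z ⟶ pullback f g := pullback.lift σ (𝟙 _) (by rw [hσ, Category.id_comp])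
  have hτ : τ ≫ f' = 𝟙 _ := pullback.lift_snd _ _ _
  have haτ : ∀ p, a.base (τ.base p) = σ.base p := fun p => by rw [← Scheme.Hom.comp_apply, pullback.lift_fst]
  have hfσ : ∀ p, f.base (σ.base p) = g.base p := fun p => by rw [← Scheme.Hom.comp_apply, hσ]
  haveI : LocallyOfFinitePresentation f' := MorphismProperty.pullback_snd _ _ inferInstance
  haveI : QuasiCompact f' := MorphismProperty.pullback_snd _ _ inferInstance
  haveI : QuasiSeparated f' := MorphismProperty.pullback_snd _ _ inferInstance
  haveI : Flat f' := MorphismProperty.pullback_snd _ _ inferInstance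
  haveI : GeometricallyReduced f' := MorphismProperty.pullback_snd _ _ inferInstance
  haveI : UniversallyOpen g := inferInstance
  haveI : UniversallyOpen a := MorphismProperty.pullback_fst _ _ inferInstance
  have hopen : IsOpen (MoreMor.sectionComponents f' τ) := isOpen_iff_mem_nhds.mpr fun x hx =>
    mem_interior_iff_mem_nhds.mp (component_subset_interior f' τ hτ (f'.base x)
      (MorphismProperty.pullback_snd f' _ inferInstance) hx)
  have hcons := isLocallyConstructible_sectionComponents f' τ hτ
  -- the locus where two conjugate sections share their component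
  let p₁ := pullback.fst g g
  let p₂ := pullback.snd g g
  let pr := p₁ ≫ g
  let f₂ := pullback.snd f pr
  let τ₁ : pullback g g ⟶ pullback f pr := pullback.lift (p₁ ≫ σ) (𝟙 _) (by rw [Category.assoc, hσ, Category.id_comp])
  let τ₂ : pullback g g ⟶ pullback f pr := pullback.lift (p₂ ≫ σ) (𝟙 _)
    (by rw [Category.assoc, hσ, Category.id_comp]; exact pullback.condition.symm)
  have hτ₁ : τ₁ ≫ f₂ = 𝟙 _ := pullback.lift_snd _ _ _
  have hτ₂ : τ₂ ≫ f₂ = 𝟙 _ := pullback.lift_snd _ _ _
  haveI : LocallyOfFinitePresentation f₂ := MorphismProperty.pullback_snd _ _ inferInstance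
  haveI : QuasiCompact f₂ := MorphismProperty.pullback_snd _ _ inferInstance
  haveI : QuasiSeparated f₂ := MorphismProperty.pullback_snd _ _ inferInstance
  haveI : Flat f₂ := MorphismProperty.pullback_snd _ _ inferInstance
  haveI : GeometricallyReduced f₂ := MorphismProperty.pullback_snd _ _ inferInstance
  have hopen₂ : IsOpen (MoreMor.sectionComponents f₂ τ₁) := isOpen_iff_mem_nhds.mpr fun x hx =>
    mem_interior_iff_mem_nhds.mp (component_subset_interior f₂ τ₁ hτ₁ (f₂.base x)
      (MorphismProperty.pullback_snd f₂ _ inferInstance) hx)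
  let E : Set ↥(pullback g g) := τ₂.base ⁻¹' MoreMor.sectionComponents f₂ τ₁
  have hEy : ∀ w, pr.base w = y → w ∈ E := by
    intro w hw
    have hfib : GeometricallyConnected (f₂.fiberToSpecResidueField w) := by
      have h0 : GeometricallyConnected (f.fiberToSpecResidueField (pr.base w)) := hw ▸ hXy
      obtain ⟨q, -, hq⟩ := Groth.EGA43Topo.FlatUnivOpen.exists_fibre_isPullback f pr w
      exact MorphismProperty.of_isPullback hq h0
    haveI : ConnectedSpace ↥(f₂.fiber w) := by
      haveI : IsIso (𝟙 (Spec ((pullback g g).residueField w))) := inferInstance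
      exact hfib.geometrically_connectedSpace (K := (pullback g g).residueField w) (𝟙 _)
        (𝟙 (f₂.fiber w)) (f₂.fiberToSpecResidueField w) (IsPullback.of_id_fst)
    show τ₂.base w ∈ connectedComponentIn (f₂.base ⁻¹' {f₂.base (τ₂.base w)}) (τ₁.base (f₂.base (τ₂.base w)))
    have e2 : f₂.base (τ₂.base w) = w := by rw [← Scheme.Hom.comp_apply, hτ₂]; rfl
    have e1 : f₂.base (τ₁.base w) = w := by rw [← Scheme.Hom.comp_apply, hτ₁]; rfl
    rw [e2]
    have hc : _root_.IsPreconnected (f₂.base ⁻¹' {w}) := by
      rw [← f₂.range_fiberι w]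
      exact isPreconnected_range (f₂.fiberι w).continuous
    exact hc.subset_connectedComponentIn (show τ₁.base w ∈ f₂.base ⁻¹' {w} from e1) subset_rfl e2
  obtain ⟨W, hW, hyW, hWsub⟩ := exists_isAffineOpen_mem_and_subset (x := y)
    (U := (⟨(pr.base '' Eᶜ)ᶜ, by
      haveI : IsFinite p₁ := MorphismProperty.pullback_fst _ _ inferInstance
      exact (pr.isClosedMap _ (hopen₂.preimage τ₂.continuous).isClosed_compl).isOpen_compl⟩ : Y.Opens))
    (fun ⟨w, hw, hwy⟩ => hw (hEy w hwy))
  let V' : Set ↥(pullback f g) := MoreMor.sectionComponents f' τ ∩ f'.base ⁻¹' (g.base ⁻¹' (W : Set Y))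
  have hV'open : IsOpen V' := hopen.inter ((W.isOpen.preimage g.continuous).preimage f'.continuous)
  have hV'c : IsCompact V' := by
    have hgW : IsCompact (g.base ⁻¹' (W : Set Y)) := g.isCompact_preimage hW.isCompact
    let G : (pullback f g).Opens := f' ⁻¹ᵁ (g ⁻¹ᵁ W)
    have hG : IsCompact (G : Set ↥(pullback f g)) := f'.isCompact_preimage (U := g ⁻¹ᵁ W) hgW
    haveI : IsAffine (W : Scheme.{u}) := hW
    haveI : IsSeparated g := inferInstance
    haveI : QuasiSeparated g := inferInstance
    haveI hqs : QuasiSeparated (f' ≫ g) := inferInstance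
    have hres : QuasiSeparated ((f' ≫ g) ∣_ W) := IsZariskiLocalAtTarget.restrict hqs W
    haveI : CompactSpace (G : Scheme.{u}) := isCompact_iff_compactSpace.mp hG
    haveI : QuasiSeparatedSpace (G : Scheme.{u}) :=
      (HasAffineProperty.iff_of_isAffine (P := @QuasiSeparated)).mp hres
    have h1 := (hcons.preimage_of_isOpenEmbedding G.ι.isOpenEmbedding).isConstructible
    have h2 : IsCompact (G.ι.base ⁻¹' MoreMor.sectionComponents f' τ) :=
      (Groth.Limits.pc_of_isConstructible h1).qcImage.isCompact
    have h3 := h2.image G.ι.continuous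
    rw [Set.image_preimage_eq_inter_range, Scheme.Opens.range_ι] at h3
    exact h3
  let U : X.Opens := ⟨a.base '' V', a.isOpenMap _ hV'open⟩
  have hfa : ∀ v, f.base (a.base v) = g.base (f'.base v) := fun v => by
    rw [← Scheme.Hom.comp_apply, ← Scheme.Hom.comp_apply, pullback.condition]
  have hUW : U ≤ f ⁻¹ᵁ W := by
    rintro _ ⟨v, hv, rfl⟩
    show f.base (a.base v) ∈ W
    rw [hfa]
    exact hv.2
  have hcomp : ∀ p, a.base '' connectedComponentIn (f'.base ⁻¹' {p}) (τ.base p) =
      connectedComponentIn (f.base ⁻¹' {g.base p}) (σ.base p) := fun p => by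
    have := image_connectedComponentIn_of_isPullback (IsPullback.of_hasPullback f g) (τ.base p)
    rwa [show f'.base (τ.base p) = p by rw [← Scheme.Hom.comp_apply, hτ]; rfl, haτ, hfσ] at this
  have hUmem : ∀ p, g.base p ∈ W → ∀ x ∈ connectedComponentIn (f.base ⁻¹' {g.base p}) (σ.base p), x ∈ U := by
    intro p hp x hx
    rw [← hcomp] at hx
    obtain ⟨v, hv, rfl⟩ := hx
    have hvp : f'.base v = p := connectedComponentIn_subset (f'.base ⁻¹' {p}) (τ.base p) hv
    refine ⟨v, ⟨?_, ?_⟩, rfl⟩
    · show v ∈ connectedComponentIn (f'.base ⁻¹' {f'.base v}) (τ.base (f'.base v))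
      rw [hvp]; exact hv
    · show g.base (f'.base v) ∈ W
      rw [hvp]; exact hp
  refine ⟨U, W, hyW, hW, hUW, hV'c.image a.continuous, ?_, ?_⟩
  · intro x hx
    obtain ⟨p, hp⟩ := hZy
    haveI : ConnectedSpace ↥(f.fiber y) :=
      hXy.geometrically_connectedSpace (K := Y.residueField y) (𝟙 _) (𝟙 (f.fiber y)) (f.fiberToSpecResidueField y)
        (IsPullback.of_id_fst)
    have hc : _root_.IsPreconnected (f.base ⁻¹' {y}) := by
      rw [← f.range_fiberι y]
      exact isPreconnected_range (f.fiberι y).continuous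
    refine hUmem p (by rw [hp]; exact hyW) x ?_
    rw [show g.base p = y from hp]
    exact hc.subset_connectedComponentIn (show σ.base p ∈ f.base ⁻¹' {y} from (hfσ p).trans hp) subset_rfl hx
  intro K _ t ⟨x₀, hx₀, hx₀t⟩
  let L := AlgebraicClosure K
  let z : Spec (CommRingCat.of L) ⟶ Y := Spec.map (CommRingCat.ofHom (algebraMap K L)) ≫ t
  have hzpt : z.base (IsLocalRing.closedPoint L) = t.base (IsLocalRing.closedPoint K) := by
    rw [Scheme.Hom.comp_apply]; congr 1
    exact Subsingleton.elim (α := PrimeSpectrum K) _ _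
  haveI : Subsingleton ↥(Spec (CommRingCat.of L)) := inferInstanceAs (Subsingleton (PrimeSpectrum L))
  haveI : Subsingleton ↥(Spec (CommRingCat.of K)) := inferInstanceAs (Subsingleton (PrimeSpectrum K))
  suffices hL : ConnectedSpace ↥(pullback (U.ι ≫ f) z) by
    haveI := hL
    haveI : Surjective (Spec.map (CommRingCat.ofHom (algebraMap K L))) := ⟨fun q => ⟨IsLocalRing.closedPoint L, Subsingleton.elim _ _⟩⟩
    let m := pullback.map (U.ι ≫ f) z (U.ι ≫ f) t (𝟙 _) (Spec.map (CommRingCat.ofHom (algebraMap K L))) (𝟙 _)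
      (by rw [Category.id_comp, Category.comp_id]) (by rw [Category.comp_id])
    haveI : Surjective m := ⟨fun v => by
      have : v ∈ Set.range m := by
        rw [Scheme.Pullback.range_map]
        exact ⟨⟨(pullback.fst (U.ι ≫ f) t).base v, rfl⟩, ⟨IsLocalRing.closedPoint L, Subsingleton.elim _ _⟩⟩
      exact this⟩
    exact m.surjective.connectedSpace m.continuous
  let P := pullback f z
  let b := pullback.fst f z
  let q := pullback.snd f z
  let S : Set P := b.base ⁻¹' (U : Set X)
  have hfb : ∀ v, f.base (b.base v) = z.base (IsLocalRing.closedPoint L) := fun v => by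
    rw [← Scheme.Hom.comp_apply, pullback.condition, Scheme.Hom.comp_apply, Subsingleton.elim (q.base v) _]
  have hne : ∃ v, v ∈ S := by
    obtain ⟨v, hv, -⟩ := Scheme.exists_preimage_of_isPullback (IsPullback.of_hasPullback f z) x₀
      (IsLocalRing.closedPoint L) (hx₀t.trans hzpt.symm)
    exact ⟨v, show b.base v ∈ U from hv ▸ hx₀⟩
  -- every point of `S` is in the component of a rational point of `Z`
  let Q := pullback g z
  let cQ : Q ⟶ P := pullback.lift (pullback.fst g z ≫ σ) (pullback.snd g z)
    (by rw [Category.assoc, hσ]; exact pullback.condition)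
  have hcQ : IsPullback (pullback.fst g z) cQ σ b := by
    refine IsPullback.of_bot ?_ (pullback.lift_fst _ _ _).symm (IsPullback.of_hasPullback f z)
    rw [pullback.lift_snd, hσ]
    exact IsPullback.of_hasPullback g z
  have hjoin : ∀ v ∈ S, ∃ w : Q, cQ.base w ∈ connectedComponent v := by
    intro v hv
    obtain ⟨v', ⟨hv', -⟩, hv'v⟩ := hv
    have h1 : b.base v ∈ connectedComponentIn (f.base ⁻¹' {g.base (f'.base v')}) (σ.base (f'.base v')) := by
      rw [← hcomp, ← hv'v]
      exact ⟨v', hv', rfl⟩
    have h2 : f.base (b.base v) = g.base (f'.base v') :=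
      connectedComponentIn_subset (f.base ⁻¹' {g.base (f'.base v')}) (σ.base (f'.base v')) h1
    have h3 : σ.base (f'.base v') ∈ b.base '' connectedComponent v := by
      rw [image_connectedComponent_of_isPullback_field (IsPullback.of_hasPullback f z) v, h2,
        ← connectedComponentIn_eq h1]
      exact mem_connectedComponentIn (hfσ (f'.base v'))
    obtain ⟨d, hd, hdσ⟩ := h3
    obtain ⟨w, -, hw⟩ := Scheme.exists_preimage_of_isPullback hcQ (f'.base v') d hdσ.symm
    exact ⟨w, hw ▸ hd⟩
  haveI : IsFinite (pullback.snd g z) := MorphismProperty.pullback_snd _ _ inferInstance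
  have hcl : ∀ w : Q, IsClosed ({w} : Set Q) := fun w => by
    exact (pullback.snd g z).isClosed_singleton_of_subsingleton w
  have hpair : ∀ w₁ w₂ : Q, g.base ((pullback.fst g z).base w₁) ∈ W →
      cQ.base w₂ ∈ connectedComponent (cQ.base w₁) := by
    intro w₁ w₂ hw₁
    let e₁ := pointOfClosedPoint (pullback.snd g z) w₁ (hcl w₁)
    let e₂ := pointOfClosedPoint (pullback.snd g z) w₂ (hcl w₂)
    let z₁ := e₁ ≫ pullback.fst g z
    let z₂ := e₂ ≫ pullback.fst g z
    have hz₁ : z₁ ≫ g = z := by
      rw [Category.assoc, pullback.condition, ← Category.assoc, pointOfClosedPoint_comp, Category.id_comp]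
    have hz₂ : z₂ ≫ g = z := by
      rw [Category.assoc, pullback.condition, ← Category.assoc, pointOfClosedPoint_comp, Category.id_comp]
    let ω : Spec (CommRingCat.of L) ⟶ pullback g g := pullback.lift z₁ z₂ (hz₁.trans hz₂.symm)
    let B : P ⟶ pullback f pr := pullback.lift b (q ≫ ω) (by
      rw [Category.assoc, ← Category.assoc ω, pullback.lift_fst, hz₁]; exact pullback.condition)
    have hBsq : IsPullback B q f₂ ω := by
      refine IsPullback.of_right ?_ (pullback.lift_snd _ _ _) (IsPullback.of_hasPullback f pr)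
      rw [pullback.lift_fst, ← Category.assoc, pullback.lift_fst, hz₁]
      exact IsPullback.of_hasPullback f z
    let s₁ : Spec (CommRingCat.of L) ⟶ P := pullback.lift (z₁ ≫ σ) (𝟙 _) (by rw [Category.assoc, hσ, hz₁, Category.id_comp])
    have hs₁ : s₁ ≫ B = ω ≫ τ₁ := by
      apply pullback.hom_ext
      · simp only [s₁, B, τ₁, ω, z₁, b, p₁, Category.assoc, pullback.lift_fst, pullback.lift_fst_assoc]
      · rw [Category.assoc, pullback.lift_snd, ← Category.assoc, pullback.lift_snd, Category.id_comp, Category.assoc,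
          pullback.lift_snd, Category.comp_id]
    have hSC := Groth.GrpschAbsch.SectionComp.preimage_sectionComponents hτ₁ hBsq
      (pullback.lift_snd _ _ _) hs₁
    have hωE : ω.base (IsLocalRing.closedPoint L) ∈ E := by
      by_contra hnE
      refine hWsub ?_ ⟨_, hnE, rfl⟩
      rw [← Scheme.Hom.comp_apply]
      show (ω ≫ p₁ ≫ g).base _ ∈ W
      rw [← Category.assoc, pullback.lift_fst, hz₁]
      have : (z₁ ≫ g).base (IsLocalRing.closedPoint L) = g.base ((pullback.fst g z).base w₁) := by
        simp only [Scheme.Hom.comp_apply, z₁, e₁, pointOfClosedPoint_apply]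
      rw [← hz₁, this]; exact hw₁
    have h2 : cQ.base w₂ ∈ MoreMor.sectionComponents q s₁ := by
      rw [hSC, Set.mem_preimage]
      have hB2 : e₂ ≫ cQ ≫ B = ω ≫ τ₂ := by
        apply pullback.hom_ext
        · rw [Category.assoc, Category.assoc, pullback.lift_fst, pullback.lift_fst, Category.assoc, pullback.lift_fst,
            ← Category.assoc ω, pullback.lift_snd, Category.assoc]
        · rw [Category.assoc, Category.assoc, pullback.lift_snd, ← Category.assoc cQ, pullback.lift_snd,
            ← Category.assoc e₂, pointOfClosedPoint_comp, Category.id_comp, Category.assoc, pullback.lift_snd,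
            Category.comp_id]
      have e := congrArg (fun m : Spec (CommRingCat.of L) ⟶ pullback f pr => m.base (IsLocalRing.closedPoint L)) hB2
      simp only [Scheme.Hom.comp_apply, e₂, pointOfClosedPoint_apply] at e
      rw [e]
      exact hωE
    have h3 : s₁.base (q.base (cQ.base w₂)) = cQ.base w₁ := by
      rw [Subsingleton.elim (q.base (cQ.base w₂)) (IsLocalRing.closedPoint L)]
      have : e₁ ≫ cQ = s₁ := by
        apply pullback.hom_ext
        · rw [Category.assoc, pullback.lift_fst, pullback.lift_fst, Category.assoc]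
        · rw [Category.assoc, pullback.lift_snd, pointOfClosedPoint_comp, pullback.lift_snd]
      rw [← this, Scheme.Hom.comp_apply, pointOfClosedPoint_apply]
    have h4 : cQ.base w₂ ∈ connectedComponentIn (q.base ⁻¹' {q.base (cQ.base w₂)}) (s₁.base (q.base (cQ.base w₂))) := h2
    rw [h3] at h4
    exact isPreconnected_connectedComponentIn.subset_connectedComponent
      (mem_connectedComponentIn (show cQ.base w₁ ∈ q.base ⁻¹' {q.base (cQ.base w₂)} from Subsingleton.elim _ _)) h4
  have hzW : z.base (IsLocalRing.closedPoint L) ∈ W := by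
    rw [hzpt, ← hx₀t]; exact hUW hx₀
  have hgw : ∀ w : Q, g.base ((pullback.fst g z).base w) = z.base (IsLocalRing.closedPoint L) := fun w => by
    rw [← Scheme.Hom.comp_apply, pullback.condition, Scheme.Hom.comp_apply, Subsingleton.elim ((pullback.snd g z).base w) _]
  obtain ⟨v₀, hv₀⟩ := hne
  have hSeq : S = connectedComponent v₀ := by
    obtain ⟨w₀, hw₀⟩ := hjoin v₀ hv₀
    refine Set.Subset.antisymm (fun v hv => ?_) (fun v hv => ?_)
    · obtain ⟨w, hw⟩ := hjoin v hv
      have := hpair w₀ w (by rw [hgw]; exact hzW)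
      rw [connectedComponent_eq hw₀, connectedComponent_eq this, ← connectedComponent_eq hw]
      exact mem_connectedComponent
    · have hbv : b.base v ∈ b.base '' connectedComponent (cQ.base w₀) := by
        rw [← connectedComponent_eq hw₀]; exact ⟨v, hv, rfl⟩
      rw [image_connectedComponent_of_isPullback_field (IsPullback.of_hasPullback f z)] at hbv
      have e : b.base (cQ.base w₀) = σ.base ((pullback.fst g z).base w₀) := by
        rw [← Scheme.Hom.comp_apply, pullback.lift_fst]; rfl
      rw [e, hfσ] at hbv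
      exact hUmem _ (by rw [hgw]; exact hzW) _ hbv
  have hS : _root_.IsConnected S := hSeq ▸ isConnected_connectedComponent
  have hiso : IsPullback (pullback.lift (pullback.fst (U.ι ≫ f) z ≫ U.ι) (pullback.snd (U.ι ≫ f) z)
      (by rw [Category.assoc]; exact pullback.condition)) (pullback.fst (U.ι ≫ f) z) b U.ι :=
    (IsPullback.of_bot (by rw [pullback.lift_snd]; exact IsPullback.of_hasPullback (U.ι ≫ f) z)
      (pullback.lift_fst _ _ _).symm (IsPullback.of_hasPullback f z)).flip
  haveI : IsOpenImmersion (pullback.lift (pullback.fst (U.ι ≫ f) z ≫ U.ι) (pullback.snd (U.ι ≫ f) z)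
      (by rw [Category.assoc]; exact pullback.condition) : pullback (U.ι ≫ f) z ⟶ P) :=
    MorphismProperty.of_isPullback (P := @IsOpenImmersion) hiso.flip inferInstance
  have himg : (pullback.lift (pullback.fst (U.ι ≫ f) z ≫ U.ι) (pullback.snd (U.ι ≫ f) z)
      (by rw [Category.assoc]; exact pullback.condition) : pullback (U.ι ≫ f) z ⟶ P).base '' Set.univ = S := by
    rw [Set.image_univ]
    ext v
    constructor
    · rintro ⟨v', rfl⟩
      show b.base _ ∈ U
      rw [← Scheme.Hom.comp_apply, pullback.lift_fst, Scheme.Hom.comp_apply]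
      exact ((pullback.fst (U.ι ≫ f) z).base v').2
    · intro hv
      obtain ⟨v', hv', -⟩ := Scheme.exists_preimage_of_isPullback hiso v ⟨b.base v, hv⟩ rfl
      exact ⟨v', hv'⟩
  refine connectedSpace_iff_univ.mpr ⟨?_, ?_⟩
  · obtain ⟨v, hv, -⟩ := himg.ge hS.nonempty.some_mem
    exact ⟨v, hv⟩
  · refine (Scheme.Hom.isOpenEmbedding _).isInducing.isPreconnected_image.mp (himg.symm ▸ hS.isPreconnected)

end Groth.GeomComp
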