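import Groth.Agent.GeomComp.GenericConstancy
import Groth.Agent.SpectralTopology.ConsGlobal
import Groth.Agent.SpectralTopology.DescendFP
import Groth.Agent.SpectralTopology.NoethSystem
import Mathlib

/-!
Constancy along closures and constructibility of the level sets of the component counts.
-/

set_option autoImplicit false
universe u

open AlgebraicGeometry CategoryTheory Limits Topology TopologicalSpace Groth.SpectralTopology

namespace Groth.GeomComp

theorem exists_const_in_closure {X Y : Scheme.{u}} (f : X ⟶ Y) [LocallyOfFiniteType f] [QuasiCompact f] (y : Y) :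
    ∃ V : Set ↑Y, V ⊆ closure {y} ∧ y ∈ V ∧ IsOpen (Subtype.val ⁻¹' V : Set ↑(closure ({y} : Set ↑Y))) ∧
      ∀ y' ∈ V, MoreMor.nGeomIrredComp f y' = MoreMor.nGeomIrredComp f y ∧
        MoreMor.nGeomConnComp f y' = MoreMor.nGeomConnComp f y := by
  let I := Scheme.IdealSheafData.vanishingIdeal (X := Y) ⟨closure {y}, isClosed_closure⟩
  let ι := I.subschemeι
  have hr : Set.range ι.base = closure {y} := by
    rw [Scheme.IdealSheafData.range_subschemeι, Scheme.IdealSheafData.coe_support_vanishingIdeal]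
    rfl
  obtain ⟨η, hη⟩ : y ∈ Set.range ι.base := hr.symm ▸ subset_closure rfl
  have hgen : IsGenericPoint η (Set.univ : Set ↥I.subscheme) := by
    refine Set.eq_univ_of_forall fun w => specializes_iff_mem_closure.mp ?_
    refine ι.isEmbedding.isInducing.specializes_iff.mp ?_
    rw [hη]
    exact specializes_iff_mem_closure.mpr (hr ▸ ⟨w, rfl⟩)
  haveI : IrreducibleSpace ↥I.subscheme := by
    rw [irreducibleSpace_def, Set.top_eq_univ]
    exact hgen.isIrreducible
  have heq : genericPoint ↥I.subscheme = η := (genericPoint_spec ↥I.subscheme).eq hgen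
  obtain ⟨V, ⟨v, hv⟩, hV⟩ := exists_open_nGeomComp_eq (pullback.snd f ι)
  have hbc := nGeomComp_baseChange f (pullback.snd f ι) (pullback.fst f ι) ι (IsPullback.of_hasPullback f ι)
  have hηV : η ∈ V := (hgen.specializes trivial).mem_open V.isOpen hv
  refine ⟨ι.base '' V, (Set.image_subset_range _ _).trans hr.le, ⟨η, hηV, hη⟩, ?_, ?_⟩
  · obtain ⟨O, hO, hOV⟩ := ι.isEmbedding.isInducing.isOpen_iff.mp V.isOpen
    have : (Subtype.val ⁻¹' (ι.base '' V) : Set ↑(closure ({y} : Set ↑Y))) = Subtype.val ⁻¹' O := by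
      ext ⟨x, hx⟩
      constructor
      · rintro ⟨w, hw, rfl : ι.base w = x⟩
        rw [← hOV] at hw; exact hw
      · intro hxO
        obtain ⟨w, rfl⟩ : x ∈ Set.range ι.base := hr.symm ▸ hx
        exact ⟨w, hOV ▸ hxO, rfl⟩
    rw [this]
    exact hO.preimage continuous_subtype_val
  · rintro _ ⟨w, hw, rfl⟩
    obtain ⟨h1, h2⟩ := hV w hw
    obtain ⟨a1, a2⟩ := hbc w
    obtain ⟨b1, b2⟩ := hbc η
    rw [heq] at h1 h2
    rw [hη] at b1 b2
    exact ⟨a1.symm.trans (h1.trans b1), a2.symm.trans (h2.trans b2)⟩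

theorem isConstructible_of_isNoetherian {X S : Scheme.{u}} [AlgebraicGeometry.IsNoetherian S] (f : X ⟶ S)
    [LocallyOfFiniteType f] [QuasiCompact f] (n : ℕ∞) :
    IsConstructible {y : S | MoreMor.nGeomIrredComp f y = n} ∧ IsConstructible {y : S | MoreMor.nGeomConnComp f y = n} := by
  have key : ∀ (Z : Scheme.{u}) (i : Z ⟶ S) [IrreducibleSpace ↥Z],
      ∃ V : Z.Opens, (V : Set Z).Nonempty ∧ ∀ z ∈ V,
        MoreMor.nGeomIrredComp f (i z) = MoreMor.nGeomIrredComp f (i (genericPoint ↥Z)) ∧
        MoreMor.nGeomConnComp f (i z) = MoreMor.nGeomConnComp f (i (genericPoint ↥Z)) := fun Z i _ => by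
    obtain ⟨V, hne, hV⟩ := exists_open_nGeomComp_eq (pullback.snd f i)
    have hbc := nGeomComp_baseChange f (pullback.snd f i) (pullback.fst f i) i (IsPullback.of_hasPullback f i)
    refine ⟨V, hne, fun z hz => ?_⟩
    obtain ⟨h1, h2⟩ := hV z hz
    obtain ⟨a1, a2⟩ := hbc z
    obtain ⟨b1, b2⟩ := hbc (genericPoint ↥Z)
    exact ⟨a1.symm.trans (h1.trans b1), a2.symm.trans (h2.trans b2)⟩
  constructor <;> refine isConstructible_of_forall_integral fun Z i _ _ _ => ?_
  · obtain ⟨V, hne, hV⟩ := key Z i
    by_cases h : MoreMor.nGeomIrredComp f (i (genericPoint ↥Z)) = n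
    · exact Or.inl (hne.mono (interior_maximal (fun z hz => (hV z hz).1.trans h) V.isOpen))
    · exact Or.inr (hne.mono (interior_maximal (fun z hz hzn => h ((hV z hz).1.symm.trans hzn)) V.isOpen))
  · obtain ⟨V, hne, hV⟩ := key Z i
    by_cases h : MoreMor.nGeomConnComp f (i (genericPoint ↥Z)) = n
    · exact Or.inl (hne.mono (interior_maximal (fun z hz => (hV z hz).2.trans h) V.isOpen))
    · exact Or.inr (hne.mono (interior_maximal (fun z hz hzn => h ((hV z hz).2.symm.trans hzn)) V.isOpen))

theorem isLocallyConstructible_level {X Y : Scheme.{u}} (f : X ⟶ Y) [LocallyOfFinitePresentation f]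
    [QuasiCompact f] [QuasiSeparated f] (n : ℕ∞) :
    IsLocallyConstructible {y : ↑Y | MoreMor.nGeomIrredComp f y = n} ∧
      IsLocallyConstructible {y : ↑Y | MoreMor.nGeomConnComp f y = n} := by
  have key : ∀ V : Y.Opens, IsAffineOpen V →
      IsConstructible (V.ι ⁻¹' {y : ↑Y | MoreMor.nGeomIrredComp f y = n}) ∧
      IsConstructible (V.ι ⁻¹' {y : ↑Y | MoreMor.nGeomConnComp f y = n}) := fun V hV => by
    let A : CommRingCat.{u} := Γ(Y, V)
    let f' : pullback f hV.fromSpec ⟶ (fgCone A).pt := pullback.snd f hV.fromSpec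
    haveI : LocallyOfFinitePresentation f' := MorphismProperty.pullback_snd _ _ inferInstance
    haveI : QuasiCompact f' := MorphismProperty.pullback_snd _ _ inferInstance
    haveI : QuasiSeparated f' := MorphismProperty.pullback_snd _ _ inferInstance
    obtain ⟨k, ⟨M⟩⟩ := exists_stageModel (isLimitFgCone A) f'
    haveI : LocallyOfFiniteType M.hom := inferInstance
    let q : (V : Scheme.{u}) ⟶ _ := hV.isoSpec.hom ≫ (fgCone A).π.app k
    have hbc : ∀ v : (V : Scheme.{u}),
        MoreMor.nGeomIrredComp f (V.ι v) = MoreMor.nGeomIrredComp M.hom (q v) ∧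
        MoreMor.nGeomConnComp f (V.ι v) = MoreMor.nGeomConnComp M.hom (q v) := fun v => by
      obtain ⟨a1, a2⟩ := nGeomComp_baseChange f f' (pullback.fst f hV.fromSpec) hV.fromSpec
        (IsPullback.of_hasPullback f hV.fromSpec) (hV.isoSpec.hom v)
      obtain ⟨b1, b2⟩ := nGeomComp_baseChange M.hom f' M.map _ M.sq (hV.isoSpec.hom v)
      have hv : hV.fromSpec (hV.isoSpec.hom v) = V.ι v := by
        rw [← Scheme.Hom.comp_apply, hV.isoSpec_hom_fromSpec]
      exact ⟨((congrArg (MoreMor.nGeomIrredComp f) hv).symm.trans a1.symm).trans b1,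
        ((congrArg (MoreMor.nGeomConnComp f) hv).symm.trans a2.symm).trans b2⟩
    obtain ⟨c1, c2⟩ := isConstructible_of_isNoetherian M.hom n
    refine ⟨?_, ?_⟩
    · convert q.isConstructible_preimage c1 using 1
      ext v
      show MoreMor.nGeomIrredComp f (V.ι v) = n ↔ MoreMor.nGeomIrredComp M.hom (q v) = n
      rw [(hbc v).1]
    · convert q.isConstructible_preimage c2 using 1
      ext v
      show MoreMor.nGeomConnComp f (V.ι v) = n ↔ MoreMor.nGeomConnComp M.hom (q v) = n
      rw [(hbc v).2]
  exact ⟨isLocallyConstructible_of_affines fun V hV => (key V hV).1,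
    isLocallyConstructible_of_affines fun V hV => (key V hV).2⟩

/-- Generic geometric connectedness. -/
theorem exists_open_geometricallyConnected {X Y : Scheme.{u}} (f : X ⟶ Y) [IrreducibleSpace ↑Y]
    [LocallyOfFiniteType f] [QuasiCompact f]
    (h : GeometricallyConnected (f.fiberToSpecResidueField (genericPoint ↑Y))) :
    ∃ V : Y.Opens, (V : Set ↑Y).Nonempty ∧ GeometricallyConnected (f ∣_ V) := by
  let η := genericPoint ↑Y
  obtain ⟨V, hne, hV⟩ := exists_open_nGeomComp_eq f
  refine ⟨V, hne, ⟨geometrically_iff_of_isClosedUnderIsomorphisms.mpr fun K _ x => ?_⟩⟩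
  have h1 : MoreMor.nGeomConnComp f η = 1 := by
    let L := AlgebraicClosure (Y.residueField η)
    let zL := Spec.map (CommRingCat.ofHom (algebraMap (Y.residueField η) L)) ≫ Y.fromSpecResidueField η
    refine (nGeomComp_eq f η zL ((Scheme.Hom.comp_apply _ _ _).trans (Y.fromSpecResidueField_apply η _))).2.trans ?_
    refine (connectedComponents_card_of_homeomorph (pullbackLeftPullbackSndIso f (Y.fromSpecResidueField η)
        (Spec.map (CommRingCat.ofHom (algebraMap (Y.residueField η) L)))).hom.homeomorph).symm.trans ?_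
    haveI : ConnectedSpace ↥(pullback (pullback.snd f (Y.fromSpecResidueField η))
        (Spec.map (CommRingCat.ofHom (algebraMap (Y.residueField η) L)))) :=
      pullback_of_geometrically h.geometrically_connectedSpace L
      (Spec.map (CommRingCat.ofHom (algebraMap (Y.residueField η) L)))
    exact ENat.card_eq_one_iff_unique.mpr ((unique_iff_subsingleton_and_nonempty _).mpr ⟨inferInstance, inferInstance⟩)
  let y := (x ≫ V.ι).base (IsLocalRing.closedPoint K)
  have hy : y ∈ V := by
    have : y ∈ Set.range V.ι.base := ⟨x.base _, (Scheme.Hom.comp_apply x V.ι _).symm⟩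
    rwa [Scheme.Opens.range_ι] at this
  let M := AlgebraicClosure K
  let zM : Spec (.of M) ⟶ Y := Spec.map (CommRingCat.ofHom (algebraMap K M)) ≫ (x ≫ V.ι)
  have hzM : zM.base (IsLocalRing.closedPoint M) = y := by
    rw [Scheme.Hom.comp_apply]
    exact congrArg (x ≫ V.ι).base (Subsingleton.elim _ _)
  have h2 := ((nGeomComp_eq f y zM hzM).2.symm.trans (hV y hy).2).trans h1
  have huniq := (unique_iff_subsingleton_and_nonempty _).mp (ENat.card_eq_one_iff_unique.mp h2)
  haveI hsub : Subsingleton (_root_.ConnectedComponents ↥(pullback f zM)) := huniq.1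
  have hne' : Nonempty (_root_.ConnectedComponents ↥(pullback f zM)) := huniq.2
  haveI : ConnectedSpace ↥(pullback f zM) := by
    rw [connectedSpace_iff_connectedComponent]
    obtain ⟨c⟩ := hne'
    obtain ⟨w, -⟩ := ConnectedComponents.surjective_coe c
    exact ⟨w, Set.eq_univ_of_forall fun v =>
      ConnectedComponents.coe_eq_coe'.mp (@Subsingleton.elim _ hsub (ConnectedComponents.mk v) (ConnectedComponents.mk w))⟩
  let e : pullback f zM ≅ pullback (pullback.snd f (x ≫ V.ι)) (Spec.map (CommRingCat.ofHom (algebraMap K M))) :=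
    (pullbackLeftPullbackSndIso f _ _).symm
  haveI : Surjective (Spec.map (CommRingCat.ofHom (algebraMap K M))) :=
    ⟨fun p => ⟨IsLocalRing.closedPoint _, Subsingleton.elim _ _⟩⟩
  let p := e.hom ≫ pullback.fst (pullback.snd f (x ≫ V.ι)) (Spec.map (CommRingCat.ofHom (algebraMap K M)))
  haveI : Surjective p := inferInstance
  haveI : ConnectedSpace ↥(pullback f (x ≫ V.ι)) := p.surjective.connectedSpace p.continuous
  let e2 : pullback (f ∣_ V) x ≅ pullback f (x ≫ V.ι) :=
    ((IsPullback.of_hasPullback (f ∣_ V) x).paste_horiz (isPullback_morphismRestrict f V).flip).isoPullback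
  exact e2.inv.homeomorph.surjective.connectedSpace e2.inv.homeomorph.continuous

end Groth.GeomComp
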