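import Groth.Agent.GeomComp.GenericCount
import Mathlib

/-!
The numbers of components of the geometric fibres are constant over a nonempty open of an irreducible base.
-/

set_option autoImplicit false
universe u

open AlgebraicGeometry CategoryTheory Limits Topology TopologicalSpace TensorProduct

namespace Groth.GeomComp

section chart

variable {A B R : Type u} [CommRing A] [CommRing B] [CommRing R] [Algebra A B] [Algebra A R]
  {X Y : Scheme.{u}} (f : X ⟶ Y) (i : Spec (.of A) ⟶ Y) (j : Spec (.of B) ⟶ X)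
  (hij : j ≫ f = Spec.map (CommRingCat.ofHom (algebraMap A B)) ≫ i)

/-- The chart of a base change given by a chart of the source. -/
noncomputable def chart (R : Type u) [CommRing R] [Algebra A R] :
    Spec (.of (B ⊗[A] R)) ⟶ pullback f (Spec.map (CommRingCat.ofHom (algebraMap A R)) ≫ i) :=
  pullback.lift (Spec.map (CommRingCat.ofHom (Algebra.TensorProduct.includeLeftRingHom)) ≫ j)
    (Spec.map (CommRingCat.ofHom (Algebra.TensorProduct.includeRight (R := A) (A := B) (B := R)).toRingHom))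
    (by
      rw [Category.assoc, hij, ← Category.assoc, ← Category.assoc, ← Spec.map_comp, ← Spec.map_comp,
        ← CommRingCat.ofHom_comp, ← CommRingCat.ofHom_comp]
      congr 3
      exact RingHom.ext fun a => (Algebra.TensorProduct.algebraMap_apply a).symm.trans
        ((Algebra.TensorProduct.includeRight (R := A) (A := B) (B := R)).commutes a).symm)

theorem chart_fst : chart f i j hij R ≫ pullback.fst _ _ =
    Spec.map (CommRingCat.ofHom (Algebra.TensorProduct.includeLeftRingHom)) ≫ j :=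
  pullback.lift_fst _ _ _

theorem chart_snd : chart f i j hij R ≫ pullback.snd _ _ =
    Spec.map (CommRingCat.ofHom (Algebra.TensorProduct.includeRight (R := A) (A := B) (B := R)).toRingHom) :=
  pullback.lift_snd _ _ _

theorem chart_eq [Mono i] : chart f i j hij R = (pullbackSpecIso A B R).inv ≫
    pullback.map (Spec.map (CommRingCat.ofHom (algebraMap A B))) (Spec.map (CommRingCat.ofHom (algebraMap A R)))
      f (Spec.map (CommRingCat.ofHom (algebraMap A R)) ≫ i) j (𝟙 _) i hij.symm (by simp) := by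
  apply pullback.hom_ext
  · rw [chart_fst, Category.assoc, pullback.lift_fst, ← Category.assoc, pullbackSpecIso_inv_fst]
  · rw [chart_snd, Category.assoc, pullback.lift_snd, Category.comp_id, pullbackSpecIso_inv_snd]
    rfl

theorem isOpenImmersion_chart [Mono i] [IsOpenImmersion j] : IsOpenImmersion (chart f i j hij R) := by
  rw [chart_eq f i j hij]
  infer_instance

theorem range_chart [Mono i] : Set.range (chart f i j hij R).base =
    (pullback.fst f (Spec.map (CommRingCat.ofHom (algebraMap A R)) ≫ i)).base ⁻¹' Set.range j.base := by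
  rw [chart_eq f i j hij, Scheme.Hom.comp_base, TopCat.coe_comp, Set.range_comp,
    ((pullbackSpecIso A B R).inv.surjective).range_eq, Set.image_univ, Scheme.Pullback.range_map]
  simp

/-- Naturality in the base change ring. -/
theorem map_chart {R' : Type u} [CommRing R'] [Algebra A R'] (g : R →ₐ[A] R')
    (q : pullback f (Spec.map (CommRingCat.ofHom (algebraMap A R')) ≫ i) ⟶
      pullback f (Spec.map (CommRingCat.ofHom (algebraMap A R)) ≫ i))
    (hq1 : q ≫ pullback.fst _ _ = pullback.fst _ _)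
    (hq2 : q ≫ pullback.snd _ _ = pullback.snd _ _ ≫ Spec.map (CommRingCat.ofHom g.toRingHom)) :
    chart f i j hij R' ≫ q =
      Spec.map (CommRingCat.ofHom (Algebra.TensorProduct.map (AlgHom.id A B) g).toRingHom) ≫ chart f i j hij R := by
  apply pullback.hom_ext
  · rw [Category.assoc, hq1, chart_fst, Category.assoc, chart_fst, ← Category.assoc, ← Spec.map_comp,
      ← CommRingCat.ofHom_comp]
    congr 3
    exact RingHom.ext fun b => by simp
  · rw [Category.assoc, hq2, ← Category.assoc, chart_snd, Category.assoc, chart_snd, ← Spec.map_comp,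
      ← Spec.map_comp, ← CommRingCat.ofHom_comp, ← CommRingCat.ofHom_comp]
    congr 2

end chart

theorem exists_fg_lift {A B Ω : Type u} [CommRing A] [CommRing B] [CommRing Ω] [Algebra A B] [Algebra A Ω]
    (z : B ⊗[A] Ω) : ∃ T : Finset Ω, ∀ (R : Type u) [CommRing R] [Algebra A R] (g : R →ₐ[A] Ω),
      (T : Set Ω) ⊆ Set.range g → ∃ z', Algebra.TensorProduct.map (AlgHom.id A B) g z' = z := by
  classical
  induction z with
  | zero => exact ⟨∅, fun R _ _ g _ => ⟨0, map_zero _⟩⟩
  | tmul b x =>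
    refine ⟨{x}, fun R _ _ g hg => ?_⟩
    obtain ⟨r, hr⟩ := hg (Finset.mem_singleton_self x)
    exact ⟨b ⊗ₜ r, by simp [hr]⟩
  | add x y hx hy =>
    obtain ⟨S, hS⟩ := hx
    obtain ⟨T, hT⟩ := hy
    refine ⟨S ∪ T, fun R _ _ g hg => ?_⟩
    rw [Finset.coe_union, Set.union_subset_iff] at hg
    obtain ⟨a, ha⟩ := hS R g hg.1
    obtain ⟨b, hb⟩ := hT R g hg.2
    exact ⟨a + b, by rw [map_add, ha, hb]⟩

theorem exists_open_nGeomComp_eq {X Y : Scheme.{u}} (f : X ⟶ Y) [IrreducibleSpace ↑Y] [LocallyOfFiniteType f]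
    [QuasiCompact f] :
    ∃ V : Y.Opens, (V : Set ↑Y).Nonempty ∧ ∀ y ∈ V,
      MoreMor.nGeomIrredComp f y = MoreMor.nGeomIrredComp f (genericPoint ↑Y) ∧
      MoreMor.nGeomConnComp f y = MoreMor.nGeomConnComp f (genericPoint ↑Y) := by
  classical
  let η := genericPoint ↑Y
  obtain ⟨U, hU, hη⟩ : ∃ U : Y.Opens, IsAffineOpen U ∧ η ∈ U := by
    obtain ⟨U, hU', hη, -⟩ := TopologicalSpace.Opens.isBasis_iff_nbhd.1 Y.isBasis_affineOpens
      (TopologicalSpace.Opens.mem_top η)
    exact ⟨U, hU', hη⟩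
  let A : Type u := Γ(Y, U)
  let i : Spec (.of A) ⟶ Y := hU.fromSpec
  let Ω := AlgebraicClosure (Y.residueField η)
  let zη : Spec (.of Ω) ⟶ Y :=
    Spec.map (CommRingCat.ofHom (algebraMap (Y.residueField η) Ω)) ≫ Y.fromSpecResidueField η
  have hzη : zη.base (IsLocalRing.closedPoint Ω) = η :=
    (Scheme.Hom.comp_apply _ _ _).trans (Y.fromSpecResidueField_apply η _)
  obtain ⟨φ, hφ⟩ : ∃ φ : CommRingCat.of A ⟶ .of Ω, Spec.map φ ≫ i = zη := by
    have hr : Set.range zη.base ⊆ Set.range i.base := by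
      rintro _ ⟨p, rfl⟩
      rw [hU.range_fromSpec, Subsingleton.elim p (IsLocalRing.closedPoint Ω), hzη]
      exact hη
    obtain ⟨φ, hφ⟩ := Spec.map_surjective (IsOpenImmersion.lift i zη hr)
    exact ⟨φ, by rw [hφ, IsOpenImmersion.lift_fac]⟩
  letI : Algebra A Ω := φ.hom.toAlgebra
  let z₀ : Spec (.of Ω) ⟶ Y := Spec.map (CommRingCat.ofHom (algebraMap A Ω)) ≫ i
  have hz₀ : z₀.base (IsLocalRing.closedPoint Ω) = η := by
    show (Spec.map φ ≫ i).base _ = η
    rw [hφ]; exact hzη
  obtain ⟨S, hS, hcover⟩ := isCompact_iff_finite_and_eq_biUnion_affineOpens.mp (f.isCompact_preimage hU.isCompact)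
  haveI := hS.to_subtype
  have hle : ∀ W : S, W.1.1 ≤ f ⁻¹ᵁ U := fun W x hx => by
    rw [hcover]
    exact TopologicalSpace.Opens.mem_iSup.mpr ⟨W.1, TopologicalSpace.Opens.mem_iSup.mpr ⟨W.2, hx⟩⟩
  letI : ∀ W : S, Algebra A Γ(X, W.1.1) := fun W => (f.appLE U W.1.1 (hle W)).hom.toAlgebra
  have hW2 : ∀ W : S, IsAffineOpen W.1.1 := fun W => W.1.2
  let j : ∀ W : S, Spec (.of Γ(X, W.1.1)) ⟶ X := fun W => (hW2 W).fromSpec
  have hij : ∀ W : S, j W ≫ f = Spec.map (CommRingCat.ofHom (algebraMap A Γ(X, W.1.1))) ≫ i := fun W =>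
    (hU.SpecMap_appLE_fromSpec f (hW2 W) (hle W)).symm
  haveI : ∀ W : S, Algebra.FiniteType A Γ(X, W.1.1) := fun W => f.finiteType_appLE hU (hW2 W) (hle W)
  haveI : LocallyOfFiniteType (pullback.snd f z₀) := inferInstance
  haveI : QuasiCompact (pullback.snd f z₀) := inferInstance
  haveI : IsNoetherianRing (CommRingCat.of Ω) := inferInstanceAs (IsNoetherianRing Ω)
  haveI : IsLocallyNoetherian (pullback f z₀) :=
    LocallyOfFiniteType.isLocallyNoetherian (pullback.snd f z₀)
  haveI : CompactSpace ↥(pullback f z₀) := QuasiCompact.compactSpace_of_compactSpace (pullback.snd f z₀)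
  haveI : AlgebraicGeometry.IsNoetherian (pullback f z₀) := { }
  have hfin : (irreducibleComponents ↥(pullback f z₀)).Finite := NoetherianSpace.finite_irreducibleComponents
  haveI := hfin.to_subtype
  obtain ⟨n, ⟨eI⟩⟩ := Finite.exists_equiv_fin (irreducibleComponents ↥(pullback f z₀))
  let W : Fin n → Set ↥(pullback f z₀) := fun c => (eI.symm c).1
  have hWc : ∀ c, IsClosed (W c) := fun c => isClosed_of_mem_irreducibleComponents _ (eI.symm c).2
  have hI : ∀ (k : S) (c : Fin n), ∃ G : Finset (Γ(X, k.1.1) ⊗[A] Ω),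
      (chart f i (j k) (hij k) Ω).base ⁻¹' W c = PrimeSpectrum.zeroLocus (G : Set (Γ(X, k.1.1) ⊗[A] Ω)) := fun k c => by
    obtain ⟨I, hI⟩ := (PrimeSpectrum.isClosed_iff_zeroLocus_ideal _).mp
      ((hWc c).preimage (chart f i (j k) (hij k) Ω).continuous)
    haveI : IsNoetherianRing (Γ(X, k.1.1) ⊗[A] Ω) :=
      haveI : Algebra.FiniteType Ω (Ω ⊗[A] Γ(X, k.1.1)) := inferInstance
      haveI : IsNoetherianRing (Ω ⊗[A] Γ(X, k.1.1)) := Algebra.FiniteType.isNoetherianRing Ω _
      isNoetherianRing_of_ringEquiv _ (Algebra.TensorProduct.comm A Ω Γ(X, k.1.1)).toRingEquiv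
    obtain ⟨G, hG⟩ := IsNoetherian.noetherian I
    refine ⟨G, hI.trans ?_⟩
    rw [← hG, Ideal.submodule_span_eq, PrimeSpectrum.zeroLocus_span]
  choose G hG using hI
  choose T hT using fun (p : S × Fin n) (g : G p.1 p.2) => exists_fg_lift g.1
  haveI := Fintype.ofFinite S
  let c₀ : Finset Ω := Finset.univ.biUnion fun p => Finset.univ.biUnion (T p)
  let A₁ := A ⧸ RingHom.ker (algebraMap A Ω)
  haveI : IsDomain A₁ := Ideal.Quotient.isDomain _ (hI := RingHom.ker_isPrime _)
  letI : Algebra A₁ Ω := (RingHom.kerLift (algebraMap A Ω)).toAlgebra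
  haveI : IsScalarTower A A₁ Ω := .of_algebraMap_eq fun a => rfl
  let A' := Algebra.adjoin A₁ (c₀ : Set Ω)
  haveI hA'ft : Algebra.FiniteType A₁ A' := (Subalgebra.fg_iff_finiteType _).mp ⟨c₀, rfl⟩
  haveI : Algebra.FiniteType A A₁ := Algebra.FiniteType.of_surjective (Ideal.Quotient.mkₐ A _) (Ideal.Quotient.mkₐ_surjective A _)
  haveI : Algebra.FiniteType A A' := Algebra.FiniteType.trans (R := A) (S := A₁) (A := A') inferInstance hA'ft
  let g : A' →ₐ[A] Ω := A'.val.restrictScalars A
  have hginj : Function.Injective g := Subtype.val_injective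
  let t : Spec (.of A') ⟶ Y := Spec.map (CommRingCat.ofHom (algebraMap A A')) ≫ i
  haveI : IrreducibleSpace ↥(Spec (CommRingCat.of A')) := inferInstanceAs (IrreducibleSpace (PrimeSpectrum A'))
  let z₀' : Spec (.of Ω) ⟶ Spec (.of A') := Spec.map (CommRingCat.ofHom g.toRingHom)
  have hz₀t : z₀' ≫ t = z₀ := by
    rw [← Category.assoc, ← Spec.map_comp, ← CommRingCat.ofHom_comp,
      show g.toRingHom.comp (algebraMap A A') = algebraMap A Ω from g.comp_algebraMap]
  let q : pullback f z₀ ⟶ pullback f t :=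
    pullback.lift (pullback.fst f z₀) (pullback.snd f z₀ ≫ z₀') (by rw [Category.assoc, hz₀t, pullback.condition])
  have hsq : IsPullback q (pullback.snd f z₀) (pullback.snd f t) z₀' := by
    refine IsPullback.of_right ?_ (pullback.lift_snd _ _ _) (IsPullback.of_hasPullback f t)
    rw [pullback.lift_fst, hz₀t]
    exact IsPullback.of_hasPullback f z₀
  let Z : Fin n → Set ↥(pullback f t) := fun c => closure (q.base '' W c)
  have hpre : ∀ c, q.base ⁻¹' Z c = W c := fun c => by
    refine Set.Subset.antisymm (fun w hw => ?_) (fun w hw => subset_closure ⟨w, hw, rfl⟩)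
    have hwU : (pullback.fst f z₀).base w ∈ f ⁻¹ᵁ U := by
      show f.base _ ∈ U
      rw [base_fst f z₀ w, hz₀]; exact hη
    rw [hcover] at hwU
    obtain ⟨k, hk⟩ := TopologicalSpace.Opens.mem_iSup.mp hwU
    obtain ⟨hkS, hwk⟩ := TopologicalSpace.Opens.mem_iSup.mp hk
    let k' : S := ⟨k, hkS⟩
    haveI := isOpenImmersion_chart (R := A') f i (j k') (hij k')
    haveI := isOpenImmersion_chart (R := Ω) f i (j k') (hij k')
    have hwr : w ∈ Set.range (chart f i (j k') (hij k') Ω).base := by
      rw [range_chart f i (j k') (hij k'), (hW2 k').range_fromSpec]; exact hwk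
    obtain ⟨P, rfl⟩ := hwr
    have hnat := map_chart f i (j k') (hij k') g q (pullback.lift_fst _ _ _) (pullback.lift_snd _ _ _)
    show P ∈ (chart f i (j k') (hij k') Ω).base ⁻¹' W c
    rw [hG k' c]
    intro y hy
    obtain ⟨y', hy'⟩ := hT (k', c) ⟨y, hy⟩ A' g (fun x hx =>
      ⟨⟨x, Algebra.subset_adjoin (Finset.mem_biUnion.mpr ⟨(k', c), Finset.mem_univ _,
        Finset.mem_biUnion.mpr ⟨⟨y, hy⟩, Finset.mem_univ _, hx⟩⟩)⟩, rfl⟩)
    let O : Set ↥(pullback f t) := (chart f i (j k') (hij k') A').base '' ((PrimeSpectrum.basicOpen y' : Opens (PrimeSpectrum (Γ(X, k'.1.1) ⊗[A] A'))) : Set (PrimeSpectrum (Γ(X, k'.1.1) ⊗[A] A')))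
    have hO : IsOpen O := (chart f i (j k') (hij k') A').isOpenEmbedding.isOpenMap _ (PrimeSpectrum.basicOpen y').isOpen
    have hsub : q.base '' W c ⊆ Oᶜ := by
      rintro _ ⟨w2, hw2, rfl⟩ ⟨Q, hQ, hQw⟩
      have hw2r : w2 ∈ Set.range (chart f i (j k') (hij k') Ω).base := by
        rw [range_chart f i (j k') (hij k')]
        show (pullback.fst f z₀).base w2 ∈ Set.range (j k').base
        rw [show pullback.fst f z₀ = q ≫ pullback.fst f t from (pullback.lift_fst _ _ _).symm,
          Scheme.Hom.comp_apply, ← hQw, ← Scheme.Hom.comp_apply, chart_fst, Scheme.Hom.comp_apply]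
        exact ⟨_, rfl⟩
      obtain ⟨P2, rfl⟩ := hw2r
      have h1 := congrArg (fun m => m.base P2) hnat
      simp only [Scheme.Hom.comp_apply] at h1
      rw [h1] at hQw
      have h2 := (chart f i (j k') (hij k') A').isOpenEmbedding.injective hQw
      subst h2
      have h3 : P2 ∈ (chart f i (j k') (hij k') Ω).base ⁻¹' W c := hw2
      rw [hG k' c] at h3
      refine hQ ?_
      show Algebra.TensorProduct.map (AlgHom.id A Γ(X, k'.1.1)) g y' ∈ P2.asIdeal
      rw [hy']
      exact h3 hy
    have h4 := closure_minimal hsub hO.isClosed_compl hw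
    by_contra hyP
    refine h4 ⟨(Spec.map (CommRingCat.ofHom (Algebra.TensorProduct.map (AlgHom.id A Γ(X, k'.1.1)) g).toRingHom)).base P,
      fun h => hyP ?_, ?_⟩
    · exact Eq.mp (congrArg (fun v => v ∈ P.asIdeal) hy') h
    · rw [← Scheme.Hom.comp_apply, ← hnat, Scheme.Hom.comp_apply]
  let e : pullback f z₀ ≅ pullback (pullback.snd f t) z₀' := hsq.isoPullback
  have heq : ∀ w, (pullback.fst (pullback.snd f t) z₀').base w = q.base (e.inv.base w) := fun w => by
    rw [← Scheme.Hom.comp_apply, hsq.isoPullback_inv_fst]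
  have hz₀'η : z₀'.base (IsLocalRing.closedPoint Ω) = genericPoint ↥(Spec (CommRingCat.of A')) := by
    rw [AlgebraicGeometry.genericPoint_eq_bot_of_affine]
    refine PrimeSpectrum.ext ?_
    show (IsLocalRing.maximalIdeal Ω).comap g.toRingHom = ⊥
    rw [IsLocalRing.maximalIdeal_eq_bot]
    exact (RingHom.injective_iff_ker_eq_bot _).mp hginj
  obtain ⟨V', hV'ne, hV'⟩ := exists_open_card_eq_of_split (pullback.snd f t) Z (fun c => isClosed_closure) z₀' hz₀'η
    (fun c => by
      have : (pullback.fst (pullback.snd f t) z₀').base ⁻¹' Z c = e.inv.homeomorph ⁻¹' W c := by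
        ext w; rw [Set.mem_preimage, Set.mem_preimage, heq, ← hpre c]; rfl
      rw [this, ← e.inv.homeomorph.image_symm]
      exact (eI.symm c).2.1.image _ e.inv.homeomorph.symm.continuous.continuousOn)
    (fun w => by
      refine ⟨eI ⟨_, irreducibleComponent_mem_irreducibleComponents (e.inv.base w)⟩, ?_⟩
      rw [heq]
      show e.inv.base w ∈ q.base ⁻¹' Z (eI ⟨_, irreducibleComponent_mem_irreducibleComponents (e.inv.base w)⟩)
      rw [hpre]
      simp only [W, Equiv.symm_apply_apply]
      exact mem_irreducibleComponent)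
    (fun c => by
      obtain ⟨x, hx⟩ := QuasiSober.sober (eI.symm c).2.1 (hWc c)
      refine ⟨e.hom.base x, ?_, fun c' hc' => ?_⟩
      · show _ ∈ Z c
        rw [heq]
        have : e.inv.base (e.hom.base x) = x := by rw [← Scheme.Hom.comp_apply, e.hom_inv_id]; rfl
        show e.inv.base (e.hom.base x) ∈ q.base ⁻¹' Z c
        rw [hpre, this]
        exact hx.mem
      · rw [heq] at hc'
        have : e.inv.base (e.hom.base x) = x := by rw [← Scheme.Hom.comp_apply, e.hom_inv_id]; rfl
        change e.inv.base (e.hom.base x) ∈ q.base ⁻¹' Z c' at hc'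
        rw [hpre, this] at hc'
        have hle : W c ⊆ W c' := by
          rw [show W c = closure {x} from hx.def.symm]
          exact closure_minimal (Set.singleton_subset_iff.mpr hc') (hWc c')
        have hle' : W c' ⊆ W c := (eI.symm c).2.2 (eI.symm c').2.1 hle
        exact (eI.symm.injective (Subtype.ext (Set.Subset.antisymm hle' hle) : eI.symm c' = eI.symm c)))
  obtain ⟨_, ⟨r', rfl⟩, hgr', hr'V⟩ := PrimeSpectrum.isTopologicalBasis_basic_opens.exists_subset_of_mem_open
    (((genericPoint_spec ↥(Spec (CommRingCat.of A'))).specializes trivial).mem_open V'.isOpen hV'ne.some_mem) V'.isOpen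
  have hr'0 : r' ≠ 0 := by
    intro h
    have h2 : genericPoint ↥(Spec (CommRingCat.of A')) ∈ PrimeSpectrum.basicOpen r' := hgr'
    rw [h, PrimeSpectrum.basicOpen_zero] at h2
    exact h2
  obtain ⟨r, hr, hext⟩ := Groth.RaynaudGruson.exists_forall_fieldExtension (A := A₁) (A' := A')
    (fun x y hxy => RingHom.kerLift_injective (algebraMap A Ω) (congrArg Subtype.val hxy)) hr'0
  obtain ⟨r, rfl⟩ := Ideal.Quotient.mk_surjective r
  have hker : ∀ a : A, algebraMap A Ω a = 0 ↔ η ∉ Y.basicOpen a := fun a => by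
    have h : (Spec.map φ).base (IsLocalRing.closedPoint Ω) ∈ i ⁻¹ᵁ Y.basicOpen a ↔ η ∈ Y.basicOpen a := by
      show i.base _ ∈ Y.basicOpen a ↔ _
      rw [← Scheme.Hom.comp_apply, hφ, hzη]
    rw [hU.fromSpec_preimage_basicOpen] at h
    rw [← h]
    show φ.hom a = 0 ↔ ¬ (φ.hom a ∉ IsLocalRing.maximalIdeal Ω)
    rw [IsLocalRing.maximalIdeal_eq_bot, not_not]
    rfl
  refine ⟨Y.basicOpen r, ⟨η, by_contra fun h => hr (Ideal.Quotient.eq_zero_iff_mem.mpr ((hker r).mpr h))⟩,
    fun y hy => ?_⟩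
  obtain ⟨χ, hχ⟩ : ∃ χ : CommRingCat.of A ⟶ Y.residueField y, Spec.map χ ≫ i = Y.fromSpecResidueField y := by
    have hr : Set.range (Y.fromSpecResidueField y).base ⊆ Set.range i.base := by
      rintro _ ⟨p, rfl⟩
      rw [hU.range_fromSpec, Y.fromSpecResidueField_apply]
      exact Y.basicOpen_le r hy
    obtain ⟨χ, hχ⟩ := Spec.map_surjective (IsOpenImmersion.lift i _ hr)
    exact ⟨χ, by rw [hχ, IsOpenImmersion.lift_fac]⟩
  have hspec : ∀ a : A, χ.hom a ≠ 0 ↔ y ∈ Y.basicOpen a := fun a => by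
    have h : (Spec.map χ).base (IsLocalRing.closedPoint (Y.residueField y)) ∈ i ⁻¹ᵁ Y.basicOpen a ↔ y ∈ Y.basicOpen a := by
      show i.base _ ∈ Y.basicOpen a ↔ _
      rw [← Scheme.Hom.comp_apply, hχ, Y.fromSpecResidueField_apply]
    rw [hU.fromSpec_preimage_basicOpen] at h
    rw [← h]
    show _ ↔ χ.hom a ∉ IsLocalRing.maximalIdeal (Y.residueField y)
    rw [IsLocalRing.maximalIdeal_eq_bot]
    rfl
  have hlift : ∀ a ∈ RingHom.ker (algebraMap A Ω), χ.hom a = 0 := fun a ha => by
    by_contra h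
    exact (hker a).mp ha (((genericPoint_spec ↑Y).specializes trivial).mem_open (Y.basicOpen a).isOpen ((hspec a).mp h))
  letI : Algebra A₁ (Y.residueField y) := (Ideal.Quotient.lift _ χ.hom hlift).toAlgebra
  obtain ⟨F', _, _, _, _, hT1, hT2, hne⟩ := hext (Y.residueField y) ((hspec r).mpr hy)
  let M := AlgebraicClosure F'
  let z : Spec (.of M) ⟶ Spec (.of A') :=
    Spec.map (CommRingCat.ofHom ((algebraMap F' M).comp (algebraMap A' F')))
  have hzV : z.base (IsLocalRing.closedPoint M) ∈ V' := hr'V (by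
    show (algebraMap F' M).comp (algebraMap A' F') r' ∉ IsLocalRing.maximalIdeal M
    rw [IsLocalRing.maximalIdeal_eq_bot]
    exact fun h => hne ((algebraMap F' M).injective (((Submodule.mem_bot M).mp h).trans (map_zero _).symm)))
  have hcomp : z ≫ t = Spec.map (CommRingCat.ofHom ((algebraMap F' M).comp (algebraMap (Y.residueField y) F'))) ≫
      Y.fromSpecResidueField y := by
    rw [← hχ, ← Category.assoc, ← Category.assoc, ← Spec.map_comp, ← Spec.map_comp]
    congr 2
    refine CommRingCat.hom_ext (RingHom.ext fun a => congrArg (algebraMap F' M) ?_)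
    show algebraMap A' F' (algebraMap A A' a) = algebraMap (Y.residueField y) F' (χ.hom a)
    rw [show χ.hom a = algebraMap A₁ (Y.residueField y) (Ideal.Quotient.mk _ a) from rfl,
      show algebraMap A A' a = algebraMap A₁ A' (Ideal.Quotient.mk _ a) from rfl,
      ← IsScalarTower.algebraMap_apply A₁ A' F', IsScalarTower.algebraMap_apply A₁ (Y.residueField y) F']
  have hzy : (z ≫ t).base (IsLocalRing.closedPoint M) = y := by
    rw [hcomp, Scheme.Hom.comp_apply, Y.fromSpecResidueField_apply]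
  obtain ⟨h1, h2⟩ := hV' M z inferInstance hzV
  obtain ⟨a1, a2⟩ := nGeomComp_eq f y (z ≫ t) hzy
  obtain ⟨b1, b2⟩ := nGeomComp_eq f η z₀ hz₀
  let e' : pullback (pullback.snd f t) z ≅ pullback f (z ≫ t) := pullbackLeftPullbackSndIso f t z
  exact ⟨a1.trans ((irreducibleComponents_encard_of_homeomorph e'.hom.homeomorph).symm.trans (h1.trans
      ((irreducibleComponents_encard_of_homeomorph e.hom.homeomorph).symm.trans b1.symm))),
    a2.trans ((connectedComponents_card_of_homeomorph e'.hom.homeomorph).symm.trans (h2.trans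
      ((connectedComponents_card_of_homeomorph e.hom.homeomorph).symm.trans b2.symm)))⟩

end Groth.GeomComp
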