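import Groth.Agent.GeomComp.Invariance
import Groth.Agent.RaynaudGruson.IrreducibleFibresScheme
import Groth.Agent.FibreDim.GenericImage
import Groth.Agent.Flatmor4.GeomDescent
import Mathlib

/-!
When the components of the geometric generic fibre are defined over the base, the geometric fibres over an open set
of the base have the same numbers of components.
-/

set_option autoImplicit false
universe u

open AlgebraicGeometry CategoryTheory Limits Topology TopologicalSpace

namespace Groth.GeomComp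

/-- The components of a finite family of closed irreducible sets covering the space, without redundancy. -/
theorem mem_finset_inf_iff {T : Type*} [TopologicalSpace T] {ι : Type*} {s : Finset ι} {V : ι → Opens T} {x : T} :
    x ∈ s.inf V ↔ ∀ i ∈ s, x ∈ V i := by
  classical
  induction s using Finset.induction_on with
  | empty => simp
  | insert a s ha ih => simp [Finset.inf_insert, ih]

/-- The components of a finite family of closed irreducible sets covering the space, without redundancy. -/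
theorem irreducibleComponents_encard_eq {T : Type u} [TopologicalSpace T] {ι : Type} [Finite ι] (S : ι → Set T)
    (hS : ∀ i, IsIrreducible (S i) ∧ IsClosed (S i)) (hcov : ∀ x, ∃ i, x ∈ S i)
    (hirr : ∀ i, ∃ x ∈ S i, ∀ j, x ∈ S j → j = i) :
    (irreducibleComponents T).encard = ENat.card ι := by
  have hinj : Function.Injective S := fun i j h => by
    obtain ⟨x, hx, hxi⟩ := hirr i
    exact (hxi j (h ▸ hx)).symm
  have key : ∀ t : Set T, IsIrreducible t → ∃ i, t ⊆ S i := fun t ht => by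
    obtain ⟨z, hz, htz⟩ := isIrreducible_iff_sUnion_isClosed.mp ht (Set.finite_range S).toFinset
      (fun z hz => by obtain ⟨i, rfl⟩ := (Set.finite_range S).mem_toFinset.mp hz; exact (hS i).2)
      (fun x _ => by obtain ⟨i, hi⟩ := hcov x; exact ⟨S i, by simp, hi⟩)
    obtain ⟨i, rfl⟩ := (Set.finite_range S).mem_toFinset.mp hz
    exact ⟨i, htz⟩
  have hcomp : irreducibleComponents T = Set.range S := by
    ext t
    refine ⟨fun ht => ?_, ?_⟩
    · obtain ⟨i, hi⟩ := key t ht.1
      exact ⟨i, (Set.Subset.antisymm hi (ht.2 (hS i).1 hi)).symm⟩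
    · rintro ⟨i, rfl⟩
      refine ⟨(hS i).1, fun t ht hle => ?_⟩
      obtain ⟨j, hj⟩ := key t ht
      obtain ⟨x, hx, hxi⟩ := hirr i
      rwa [hxi j (hj (hle hx))] at hj
  rw [hcomp, ← Set.image_univ, hinj.encard_image, Set.encard_univ]

/-- Connected components from the intersection pattern of a finite closed cover by connected sets. -/
theorem connectedComponents_card_eq {T : Type u} [TopologicalSpace T] {ι : Type} [Finite ι] (S : ι → Set T)
    (hS : ∀ i, IsIrreducible (S i) ∧ IsClosed (S i)) (hcov : ∀ x, ∃ i, x ∈ S i) :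
    ENat.card (_root_.ConnectedComponents T) =
      ENat.card (Quot fun i j => (S i ∩ S j).Nonempty) := by
  classical
  let R : ι → ι → Prop := fun i j => (S i ∩ S j).Nonempty
  let pt : ∀ i, T := fun i => (hS i).1.nonempty.some
  have hpt : ∀ i, pt i ∈ S i := fun i => (hS i).1.nonempty.some_mem
  have hsame : ∀ i x, x ∈ S i → (x : _root_.ConnectedComponents T) = (pt i : _root_.ConnectedComponents T) :=
    fun i x hx => ConnectedComponents.coe_eq_coe.mpr (connectedComponent_eq
      ((hS i).1.isConnected.isPreconnected.subset_connectedComponent hx (hpt i)))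
  let φ : Quot R → _root_.ConnectedComponents T := Quot.lift (fun i => (pt i : _root_.ConnectedComponents T))
    (fun i j ⟨x, hxi, hxj⟩ => (hsame i x hxi).symm.trans (hsame j x hxj))
  refine (ENat.card_congr (Equiv.ofBijective φ ⟨?_, ?_⟩)).symm
  · intro a b hab
    obtain ⟨i, rfl⟩ := Quot.exists_rep a
    obtain ⟨j, rfl⟩ := Quot.exists_rep b
    by_contra hne
    let C : Set T := {x | ∃ k, Quot.mk R k = Quot.mk R i ∧ x ∈ S k}
    have hCc : IsClosed C := by
      have : C = ⋃ k ∈ {k | Quot.mk R k = Quot.mk R i}, S k := by ext x; simp [C]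
      rw [this]
      exact (Set.toFinite _).isClosed_biUnion fun k _ => (hS k).2
    have hCo : IsOpen C := by
      have : Cᶜ = ⋃ k ∈ {k | Quot.mk R k ≠ Quot.mk R i}, S k := by
        ext x
        simp only [C, Set.mem_compl_iff, Set.mem_setOf_eq, Set.mem_iUnion, not_exists, not_and]
        constructor
        · intro h
          obtain ⟨k, hk⟩ := hcov x
          exact ⟨k, fun he => h k he hk, hk⟩
        · rintro ⟨k, hk, hxk⟩ l hl hxl
          exact hk ((Quot.sound (r := R) ⟨x, hxk, hxl⟩).trans hl)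
      rw [← isClosed_compl_iff, this]
      exact (Set.toFinite _).isClosed_biUnion fun k _ => (hS k).2
    have hiC : pt i ∈ C := ⟨i, rfl, hpt i⟩
    have hjC : pt j ∈ C := IsClopen.connectedComponent_subset ⟨hCc, hCo⟩ hiC
      (ConnectedComponents.coe_eq_coe'.mp hab.symm)
    obtain ⟨k, hk, hjk⟩ := hjC
    exact hne ((Quot.sound (r := R) ⟨pt j, hjk, hpt j⟩).symm.trans hk).symm
  · intro c
    obtain ⟨x, rfl⟩ := ConnectedComponents.surjective_coe c
    obtain ⟨i, hi⟩ := hcov x
    exact ⟨Quot.mk R i, (hsame i x hi).symm⟩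

section

variable {X Y : Scheme.{u}} (f : X ⟶ Y) {T : Scheme.{u}} (z : T ⟶ Y)

theorem exists_mem_fst_preimage {s : Set X} {x : X} (hx : x ∈ s) {t : T} (h : f.base x = z.base t) :
    ∃ w, (pullback.fst f z).base w ∈ s ∧ (pullback.fst f z).base w = x := by
  obtain ⟨w, hw, -⟩ := Scheme.Pullback.exists_preimage_pullback (f := f) (g := z) x t h
  exact ⟨w, by rw [hw]; exact hx, hw⟩

theorem base_fst {K : Type u} [Field K] (z : Spec (.of K) ⟶ Y) (w : ↥(pullback f z)) :
    f.base ((pullback.fst f z).base w) = z.base (IsLocalRing.closedPoint K) := by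
  rw [← Scheme.Hom.comp_apply, pullback.condition, Scheme.Hom.comp_apply]
  exact congrArg z.base (Subsingleton.elim _ _)

theorem irreducibleSpace_pullback_iff {Z : Scheme.{u}} (i : Z ⟶ X) [IsClosedImmersion i] :
    IrreducibleSpace ↥(pullback (i ≫ f) z) ↔ IsIrreducible ((pullback.fst f z).base ⁻¹' Set.range i.base) := by
  let m : pullback (i ≫ f) z ⟶ pullback f z := pullback.map _ _ _ _ i (𝟙 _) (𝟙 _) (by simp) (by simp)
  have hsq : IsPullback (pullback.fst (i ≫ f) z) m i (pullback.fst f z) := by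
    refine IsPullback.of_bot (v₂₁ := pullback.snd f z) (v₂₂ := f) (h₃₁ := z) ?_ (pullback.lift_fst _ _ _).symm
      (IsPullback.of_hasPullback f z)
    rw [show m ≫ pullback.snd f z = pullback.snd (i ≫ f) z from (pullback.lift_snd _ _ _).trans (Category.comp_id _)]
    exact IsPullback.of_hasPullback (i ≫ f) z
  have hm : IsClosedImmersion m := MorphismProperty.of_isPullback (P := @IsClosedImmersion) hsq inferInstance
  have hr : Set.range m.base = (pullback.fst f z).base ⁻¹' Set.range i.base := by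
    rw [Scheme.Pullback.range_map]
    ext w
    simp
  rw [← hr, irreducibleSpace_def, Set.top_eq_univ, ← Set.image_univ]
  refine ⟨fun h => h.image _ m.continuous.continuousOn, fun h => ?_⟩
  refine ⟨Set.Nonempty.of_image h.nonempty, fun U V hU hV ⟨a, _, ha⟩ ⟨b, _, hb⟩ => ?_⟩
  obtain ⟨U', hU', rfl⟩ := m.isClosedEmbedding.isInducing.isOpen_iff.mp hU
  obtain ⟨V', hV', rfl⟩ := m.isClosedEmbedding.isInducing.isOpen_iff.mp hV
  obtain ⟨_, ⟨c, -, rfl⟩, hc⟩ := h.2 U' V' hU' hV' ⟨_, ⟨a, trivial, rfl⟩, ha⟩ ⟨_, ⟨b, trivial, rfl⟩, hb⟩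
  exact ⟨c, trivial, hc⟩

end

/-- **Generic constancy of the component counts, split case.** -/
theorem exists_open_card_eq_of_split {X Y : Scheme.{u}} (f : X ⟶ Y) [IrreducibleSpace ↑Y] [LocallyOfFiniteType f]
    [QuasiCompact f] {ι : Type} [Finite ι] (Z : ι → Set X) (hZ : ∀ i, IsClosed (Z i)) {Ω : Type u} [Field Ω]
    [IsAlgClosed Ω] (z₀ : Spec (.of Ω) ⟶ Y) (hz₀ : z₀.base (IsLocalRing.closedPoint Ω) = genericPoint ↑Y)
    (hirr : ∀ i, IsIrreducible ((pullback.fst f z₀).base ⁻¹' Z i))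
    (hcov : ∀ w, ∃ i, (pullback.fst f z₀).base w ∈ Z i)
    (hirred : ∀ i, ∃ w, (pullback.fst f z₀).base w ∈ Z i ∧ ∀ j, (pullback.fst f z₀).base w ∈ Z j → j = i) :
    ∃ V : Y.Opens, (V : Set ↑Y).Nonempty ∧ ∀ (K : Type u) [Field K] (z : Spec (.of K) ⟶ Y), IsSepClosed K →
      z.base (IsLocalRing.closedPoint K) ∈ V →
      (irreducibleComponents ↥(pullback f z)).encard = (irreducibleComponents ↥(pullback f z₀)).encard ∧
      ENat.card (_root_.ConnectedComponents ↥(pullback f z)) =
        ENat.card (_root_.ConnectedComponents ↥(pullback f z₀)) := by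
  classical
  let η := genericPoint ↑Y
  have hηmem : ∀ {O : Y.Opens}, (O : Set ↑Y).Nonempty → η ∈ O := fun {O} ⟨v, hv⟩ =>
    ((genericPoint_spec ↑Y).specializes trivial).mem_open O.isOpen hv
  -- irreducibility
  have hIrr : ∀ i, ∃ V : Y.Opens, η ∈ V ∧ ∀ (K : Type u) [Field K] (z : Spec (.of K) ⟶ Y),
      z.base (IsLocalRing.closedPoint K) ∈ V → IsIrreducible ((pullback.fst f z).base ⁻¹' Z i) := fun i => by
    let I := Scheme.IdealSheafData.vanishingIdeal (X := X) ⟨Z i, hZ i⟩
    have hr : Set.range I.subschemeι.base = Z i := by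
      rw [Scheme.IdealSheafData.range_subschemeι, Scheme.IdealSheafData.coe_support_vanishingIdeal]
      rfl
    let g := I.subschemeι ≫ f
    haveI hW : IrreducibleSpace ↥(pullback g z₀) := by
      rw [irreducibleSpace_pullback_iff f z₀ I.subschemeι, hr]; exact hirr i
    have hg : GeometricallyIrreducible (g.fiberToSpecResidueField η) := by
      refine ⟨geometrically_iff_of_isClosedUnderIsomorphisms.mpr fun L _ x => ?_⟩
      let z : Spec (.of L) ⟶ Y := x ≫ Y.fromSpecResidueField η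
      have hz : z.base (IsLocalRing.closedPoint L) = η :=
        (Scheme.Hom.comp_apply _ _ _).trans (Y.fromSpecResidueField_apply η _)
      let M := AlgebraicClosure L
      let zM : Spec (.of M) ⟶ Y := Spec.map (CommRingCat.ofHom (algebraMap L M)) ≫ z
      have hzM : zM.base (IsLocalRing.closedPoint M) = η := by
        rw [Scheme.Hom.comp_apply, ← hz]
        exact congrArg z.base (Subsingleton.elim _ _)
      have hM : IrreducibleSpace ↥(pullback g zM) := by
        have h1 := (nGeomComp_eq g η z₀ hz₀).1.symm.trans (nGeomComp_eq g η zM hzM).1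
        obtain ⟨C, hC⟩ : ∃ C, irreducibleComponents ↥(pullback g zM) = {C} := by
          rw [← Set.encard_eq_one, ← h1, Set.encard_eq_one]
          exact ⟨Set.univ, irreducibleComponents_eq_singleton⟩
        have huniv : C = Set.univ := Set.eq_univ_of_forall fun w => by
          have := irreducibleComponent_mem_irreducibleComponents w
          rw [hC, Set.mem_singleton_iff] at this
          rw [← this]; exact mem_irreducibleComponent
        rw [irreducibleSpace_def, Set.top_eq_univ]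
        have hCm : C ∈ irreducibleComponents ↥(pullback g zM) := by rw [hC]; rfl
        exact huniv ▸ hCm.1
      let e : pullback g zM ≅ pullback (pullback.snd g z) (Spec.map (CommRingCat.ofHom (algebraMap L M))) :=
        (pullbackLeftPullbackSndIso g z _).symm
      haveI : Surjective (Spec.map (CommRingCat.ofHom (algebraMap L M))) :=
        ⟨fun p => ⟨IsLocalRing.closedPoint _, Subsingleton.elim _ _⟩⟩
      haveI := hM
      have hL : IrreducibleSpace ↥(pullback g z) :=
        ((pullback.fst (pullback.snd g z) (Spec.map (CommRingCat.ofHom (algebraMap L M)))).surjective.comp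
          e.hom.homeomorph.surjective).irreducibleSpace
          (Scheme.Hom.continuous _ |>.comp e.hom.homeomorph.continuous)
      exact (pullbackLeftPullbackSndIso g (Y.fromSpecResidueField η) x).hom.homeomorph.irreducibleSpace_iff.mpr hL
    obtain ⟨V, hVne, hV⟩ := Groth.RaynaudGruson.exists_open_geometricallyIrreducible g hg
    refine ⟨V, hηmem hVne, fun K _ z hz => ?_⟩
    rw [← hr, ← irreducibleSpace_pullback_iff f z I.subschemeι]
    have hzr : Set.range z.base ⊆ Set.range V.ι.base := by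
      rintro _ ⟨p, rfl⟩
      rw [Scheme.Opens.range_ι, Subsingleton.elim p (IsLocalRing.closedPoint K)]
      exact hz
    let z' := IsOpenImmersion.lift V.ι z hzr
    have hz' : z' ≫ V.ι = z := IsOpenImmersion.lift_fac _ _ _
    have h1 := pullback_of_geometrically hV.geometrically_irreducibleSpace K z'
    have e : pullback (g ∣_ V) z' ≅ pullback g (z' ≫ V.ι) :=
      ((IsPullback.of_hasPullback (g ∣_ V) z').paste_horiz (isPullback_morphismRestrict g V).flip).isoPullback
    rw [hz'] at e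
    exact e.hom.homeomorph.irreducibleSpace_iff.mp h1
  choose V₁ hV₁η hV₁ using hIrr
  -- images of locally closed pieces
  have himg : ∀ s : Set X, IsClosed s → ∀ O : X.Opens, (∃ x ∈ s, x ∈ O ∧ f.base x = η) →
      ∃ V : Y.Opens, η ∈ V ∧ ∀ y ∈ V, ∃ x ∈ s, x ∈ O ∧ f.base x = y := fun s hs O ⟨x, hxs, hxO, hxη⟩ => by
    let I := Scheme.IdealSheafData.vanishingIdeal (X := X) ⟨s, hs⟩
    have hr : Set.range I.subschemeι.base = s := by
      rw [Scheme.IdealSheafData.range_subschemeι, Scheme.IdealSheafData.coe_support_vanishingIdeal]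
      rfl
    obtain ⟨w, hw⟩ : x ∈ Set.range I.subschemeι.base := hr.symm ▸ hxs
    let O' := I.subschemeι ⁻¹ᵁ O
    obtain ⟨V, hVne, hV⟩ := Groth.FibreDim.exists_open_subset_range (O'.ι ≫ I.subschemeι ≫ f) (by
      obtain ⟨w', hw'⟩ : w ∈ Set.range O'.ι.base := by
        rw [Scheme.Opens.range_ι]; show I.subschemeι.base w ∈ O; rw [hw]; exact hxO
      exact ⟨w', by rw [Scheme.Hom.comp_apply, hw', Scheme.Hom.comp_apply, hw, hxη]⟩)
    refine ⟨V, hηmem hVne, fun y hy => ?_⟩
    obtain ⟨w', hw'⟩ := hV hy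
    refine ⟨I.subschemeι.base (O'.ι.base w'), hr ▸ ⟨_, rfl⟩, ?_, by rw [← hw']; simp⟩
    have : O'.ι.base w' ∈ Set.range O'.ι.base := ⟨w', rfl⟩
    rw [Scheme.Opens.range_ι] at this
    exact this
  -- irredundancy
  have hUi : ∀ i, ∃ V : Y.Opens, η ∈ V ∧ ∀ y ∈ V, ∃ x ∈ Z i, (∀ j, x ∈ Z j → j = i) ∧ f.base x = y := fun i => by
    obtain ⟨w, hw, hwi⟩ := hirred i
    let O : X.Opens := ⟨(⋃ j ∈ ({i}ᶜ : Set ι), Z j)ᶜ,
      ((Set.toFinite _).isClosed_biUnion fun j _ => hZ j).isOpen_compl⟩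
    have hO : ∀ x : X, x ∈ O ↔ ∀ j, x ∈ Z j → j = i := fun x => by
      show x ∈ (⋃ j ∈ ({i}ᶜ : Set ι), Z j)ᶜ ↔ _
      simp only [Set.mem_compl_iff, Set.mem_iUnion, Set.mem_singleton_iff, not_exists]
      exact forall_congr' fun j => ⟨fun h hx => by by_contra hne; exact h hne hx, fun h hne hx => hne (h hx)⟩
    obtain ⟨V, hVη, hV⟩ := himg (Z i) (hZ i) O ⟨_, hw, (hO _).mpr hwi, (base_fst f z₀ w).trans hz₀⟩
    refine ⟨V, hVη, fun y hy => ?_⟩
    obtain ⟨x, hx1, hx2, hx3⟩ := hV y hy
    exact ⟨x, hx1, (hO x).mp hx2, hx3⟩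
  choose V₂ hV₂η hV₂ using hUi
  -- intersections
  obtain ⟨V₃, hV₃ne, hV₃⟩ := Groth.RaynaudGruson.exists_open_generalizing f
  have hij : ∀ p : ι × ι, ∃ V : Y.Opens, η ∈ V ∧ ∀ y ∈ V, (∃ x ∈ Z p.1 ∩ Z p.2, f.base x = η) ↔
      (∃ x ∈ Z p.1 ∩ Z p.2, f.base x = y) := fun p => by
    have hc : IsClosed (Z p.1 ∩ Z p.2) := (hZ _).inter (hZ _)
    by_cases h : ∃ x ∈ Z p.1 ∩ Z p.2, f.base x = η
    · obtain ⟨x, hx, hxη⟩ := h
      obtain ⟨V, hVη, hV⟩ := himg _ hc ⊤ ⟨x, hx, trivial, hxη⟩
      refine ⟨V, hVη, fun y hy => iff_of_true ⟨x, hx, hxη⟩ ?_⟩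
      obtain ⟨x', h1, -, h2⟩ := hV y hy
      exact ⟨x', h1, h2⟩
    · let I := Scheme.IdealSheafData.vanishingIdeal (X := X) ⟨_, hc⟩
      have hr : Set.range I.subschemeι.base = Z p.1 ∩ Z p.2 := by
        rw [Scheme.IdealSheafData.range_subschemeι, Scheme.IdealSheafData.coe_support_vanishingIdeal]
        rfl
      obtain ⟨V, hVne, hV⟩ := Groth.RaynaudGruson.exists_open_generalizing (I.subschemeι ≫ f)
      refine ⟨V, hηmem hVne, fun y hy => iff_of_false h ?_⟩
      rintro ⟨x, hx, hxy⟩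
      obtain ⟨w, rfl⟩ : x ∈ Set.range I.subschemeι.base := hr.symm ▸ hx
      obtain ⟨u, -, hu⟩ := hV w (by rw [Scheme.Hom.comp_apply, hxy]; exact hy)
      exact h ⟨_, hr ▸ ⟨u, rfl⟩, (Scheme.Hom.comp_apply _ _ _).symm.trans hu⟩
  choose V₄ hV₄η hV₄ using hij
  haveI := Fintype.ofFinite ι
  refine ⟨Finset.univ.inf V₁ ⊓ Finset.univ.inf V₂ ⊓ V₃ ⊓ Finset.univ.inf V₄, ⟨η, ?_⟩, fun K _ z hK hz => ?_⟩
  · exact ⟨⟨⟨mem_finset_inf_iff.mpr fun i _ => hV₁η i, mem_finset_inf_iff.mpr fun i _ => hV₂η i⟩,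
      hηmem hV₃ne⟩, mem_finset_inf_iff.mpr fun i _ => hV₄η i⟩
  obtain ⟨⟨⟨h1, h2⟩, h3⟩, h4⟩ := hz
  replace h1 := mem_finset_inf_iff.mp h1
  replace h2 := mem_finset_inf_iff.mp h2
  replace h4 := mem_finset_inf_iff.mp h4
  let y := z.base (IsLocalRing.closedPoint K)
  let S : ι → Set ↥(pullback f z) := fun i => (pullback.fst f z).base ⁻¹' Z i
  let S₀ : ι → Set ↥(pullback f z₀) := fun i => (pullback.fst f z₀).base ⁻¹' Z i
  have hcov' : ∀ w, ∃ i, w ∈ S i := fun w => by
    obtain ⟨x', hx's, hx'η⟩ := hV₃ ((pullback.fst f z).base w) (by rw [base_fst]; exact h3)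
    obtain ⟨w', -, hw'⟩ := exists_mem_fst_preimage f z₀ (Set.mem_univ x') (hx'η.trans hz₀.symm)
    obtain ⟨i, hi⟩ := hcov w'
    rw [hw'] at hi
    exact ⟨i, hx's.mem_closed (hZ i) hi⟩
  have hirred' : ∀ i, ∃ w ∈ S i, ∀ j, w ∈ S j → j = i := fun i => by
    obtain ⟨x, hxi, hxj, hxy⟩ := hV₂ i y (h2 i (Finset.mem_univ i))
    obtain ⟨w, hw1, hw2⟩ := exists_mem_fst_preimage f z hxi hxy
    exact ⟨w, hw1, fun j hj => hxj j (by rw [← hw2]; exact hj)⟩
  have hS : ∀ i, IsIrreducible (S i) ∧ IsClosed (S i) := fun i =>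
    ⟨hV₁ i K z (h1 i (Finset.mem_univ i)), (hZ i).preimage (Scheme.Hom.continuous _)⟩
  have hS₀ : ∀ i, IsIrreducible (S₀ i) ∧ IsClosed (S₀ i) := fun i =>
    ⟨hirr i, (hZ i).preimage (Scheme.Hom.continuous _)⟩
  refine ⟨(irreducibleComponents_encard_eq S hS hcov' hirred').trans
    (irreducibleComponents_encard_eq S₀ hS₀ hcov hirred).symm, ?_⟩
  have hrel : ∀ i j, (S i ∩ S j).Nonempty ↔ (S₀ i ∩ S₀ j).Nonempty := fun i j => by
    have hm := hV₄ (i, j) y (h4 (i, j) (Finset.mem_univ _))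
    constructor
    · rintro ⟨w, hwi, hwj⟩
      obtain ⟨x, hx, hxη⟩ := hm.mpr ⟨_, ⟨hwi, hwj⟩, base_fst f z w⟩
      obtain ⟨w', hw', -⟩ := exists_mem_fst_preimage f z₀ hx (hxη.trans hz₀.symm)
      exact ⟨w', hw'⟩
    · rintro ⟨w, hwi, hwj⟩
      obtain ⟨x, hx, hxy⟩ := hm.mp ⟨_, ⟨hwi, hwj⟩, (base_fst f z₀ w).trans hz₀⟩
      obtain ⟨w', hw', -⟩ := exists_mem_fst_preimage f z hx hxy
      exact ⟨w', hw'⟩
  rw [connectedComponents_card_eq S hS hcov', connectedComponents_card_eq S₀ hS₀ hcov]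
  exact ENat.card_congr (Quot.congrRight hrel)

end Groth.GeomComp
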