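import Groth.Agent.GeomComp.ProperCount
import Groth.Agent.Flatmor4.CMComp
import Groth.Agent.Limits.DVRPoints
import Groth.Agent.S1539
import Groth.Agent.GrpschAbsch.FieldComp
import Groth.Agent.FBaseGeom.Descent
import Groth.Agent.S0435
import Mathlib

/-!
Openness of the locus of geometrically integral fibres of a proper flat morphism (EGA IV 12.2.4).
-/

set_option autoImplicit false
universe u

open AlgebraicGeometry CategoryTheory Limits Topology TopologicalSpace IsLocalRing

namespace Groth.GeomComp.IntegralFibres

/-- A Noetherian local ring with a regular element of the maximal ideal generating a prime ideal is a domain. -/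
theorem isDomain_of_regular_prime {O : Type u} [CommRing O] [IsNoetherianRing O] [IsLocalRing O] {t : O}
    (ht : t ∈ maximalIdeal O) (hreg : t ∈ nonZeroDivisors O) (hp : (Ideal.span {t}).IsPrime) : IsDomain O := by
  obtain ⟨P, hP, hPt⟩ := Ideal.exists_minimalPrimes_le (J := Ideal.span {t}) (I := (⊥ : Ideal O)) bot_le
  have hPp : P.IsPrime := hP.1.1
  have htP : t ∉ P := fun h => Set.disjoint_left.mp (Ideal.disjoint_nonZeroDivisors_of_mem_minimalPrimes hP) h hreg
  have hle : P ≤ Ideal.span {t} • P := by
    intro p hpP
    obtain ⟨q, rfl⟩ := Ideal.mem_span_singleton'.mp (hPt hpP)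
    rw [smul_eq_mul, mul_comm q t]
    exact Ideal.mul_mem_mul (Ideal.mem_span_singleton_self t) ((hPp.mem_or_mem hpP).resolve_right htP)
  have hbot : P = ⊥ := Submodule.eq_bot_of_le_smul_of_le_jacobson_bot (Ideal.span {t}) P (IsNoetherian.noetherian P) hle
    (by rw [IsLocalRing.jacobson_eq_maximalIdeal ⊥ bot_ne_top, Ideal.span_singleton_le_iff_mem]; exact ht)
  haveI : (⊥ : Ideal O).IsPrime := hbot ▸ hPp
  exact IsDomain.of_bot_isPrime O

/-- A proper flat scheme over a discrete valuation ring with integral closed fibre is irreducible. -/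
theorem irreducibleSpace_of_dvr {V : Type u} [CommRing V] [IsDomain V] [IsDiscreteValuationRing V]
    {Z : Scheme.{u}} (g : Z ⟶ Spec (CommRingCat.of V)) [IsProper g] [Flat g]
    (hc : IsIntegral (g.fiber (closedPoint V))) : IrreducibleSpace Z := by
  haveI : IsLocallyNoetherian Z := LocallyOfFiniteType.isLocallyNoetherian g
  haveI : CompactSpace Z := QuasiCompact.compactSpace_of_compactSpace g
  haveI : AlgebraicGeometry.IsNoetherian Z := {}
  obtain ⟨ϖ, hϖ⟩ := IsDiscreteValuationRing.exists_irreducible V
  let C : Set Z := g ⁻¹' {closedPoint V}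
  have hdom : ∀ z ∈ C, IsDomain (Z.presheaf.stalk z) := by
    intro z hz
    obtain ⟨e⟩ := Groth.Flatmor4.exists_fiberStalkEquiv g z
    haveI : IsIntegral (g.fiber (g z)) := by rw [show g z = closedPoint V from hz]; exact hc
    haveI hd : IsDomain (Z.presheaf.stalk z ⧸
        (maximalIdeal ((Spec (CommRingCat.of V)).presheaf.stalk (g z))).map (g.stalkMap z).hom) :=
      e.toMulEquiv.isDomain _
    haveI hprime := (Ideal.Quotient.isDomain_iff_prime _).mp hd
    letI : Algebra V ((Spec (CommRingCat.of V)).presheaf.stalk (g z)) :=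
      show Algebra V ((Spec.structureSheaf V).presheaf.stalk (g z)) from inferInstance
    haveI : IsLocalization.AtPrime ((Spec (CommRingCat.of V)).presheaf.stalk (g z)) (g z).asIdeal :=
      inferInstanceAs (IsLocalization.AtPrime ((Spec.structureSheaf V).presheaf.stalk (g z)) (g z).asIdeal)
    have hm : maximalIdeal ((Spec (CommRingCat.of V)).presheaf.stalk (g z)) =
        Ideal.span {algebraMap V ((Spec (CommRingCat.of V)).presheaf.stalk (g z)) ϖ} := by
      rw [← IsLocalization.AtPrime.map_eq_maximalIdeal (g z).asIdeal,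
        show (g z).asIdeal = maximalIdeal V from congrArg PrimeSpectrum.asIdeal hz, hϖ.maximalIdeal_eq,
        Ideal.map_span, Set.image_singleton]
    rw [hm, Ideal.map_span, Set.image_singleton] at hprime
    refine isDomain_of_regular_prime ?_ ?_ hprime
    · exact IsLocalRing.le_maximalIdeal hprime.ne_top (Ideal.mem_span_singleton_self _)
    · have hinj : algebraMap V ((Spec (CommRingCat.of V)).presheaf.stalk (g z)) ϖ ∈ nonZeroDivisors _ :=
        IsLocalization.map_nonZeroDivisors_le (g z).asIdeal.primeCompl _
          ⟨ϖ, mem_nonZeroDivisors_of_ne_zero hϖ.ne_zero, rfl⟩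
      letI := (g.stalkMap z).hom.toAlgebra
      haveI : Module.Flat ((Spec (CommRingCat.of V)).presheaf.stalk (g z)) (Z.presheaf.stalk z) :=
        RingHom.flat_algebraMap_iff.1 (Flat.stalkMap g z)
      have hr : IsSMulRegular (Z.presheaf.stalk z)
          (algebraMap V ((Spec (CommRingCat.of V)).presheaf.stalk (g z)) ϖ) :=
        Module.Flat.isSMulRegular_of_nonZeroDivisors hinj
      rw [mem_nonZeroDivisors_iff_left]
      intro x hx
      refine hr ?_
      show algebraMap V ((Spec (CommRingCat.of V)).presheaf.stalk (g z)) ϖ • x = algebraMap V ((Spec (CommRingCat.of V)).presheaf.stalk (g z)) ϖ • 0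
      rw [smul_zero]
      exact (Algebra.smul_def _ x).trans hx
  haveI : IrreducibleSpace (g.fiber (closedPoint V)) := inferInstance
  have hCrange : Set.range (g.fiberι (closedPoint V)) = C := g.range_fiberι _
  have hCconn : _root_.IsConnected C := by
    rw [← hCrange]; exact isConnected_range (g.fiberι _).continuous
  have hmeet : ∀ T : Set Z, IsClosed T → T.Nonempty → (T ∩ C).Nonempty := by
    rintro T hT ⟨t, ht⟩
    obtain ⟨z, hz, hzc⟩ : closedPoint V ∈ g '' T :=
      (specializes_closedPoint (g t)).mem_closed (g.isClosedMap _ hT) ⟨t, ht, rfl⟩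
    exact ⟨z, hz, hzc⟩
  have huniq : ∀ z ∈ C, ∀ T₁ ∈ irreducibleComponents Z, ∀ T₂ ∈ irreducibleComponents Z,
      z ∈ T₁ → z ∈ T₂ → T₁ = T₂ := by
    intro z hz T₁ h₁ T₂ h₂ hz₁ hz₂
    haveI := hdom z hz
    let ω : Z := Z.fromSpecStalk z ⟨⊥, Ideal.isPrime_bot⟩
    have key : ∀ T ∈ irreducibleComponents Z, z ∈ T → T = closure {ω} := by
      intro T hT hzT
      obtain ⟨η, hη⟩ := QuasiSober.sober hT.1 (isClosed_of_mem_irreducibleComponents T hT)
      obtain ⟨q, hq⟩ : η ∈ Set.range (Z.fromSpecStalk z) := by
        rw [Scheme.range_fromSpecStalk]; exact hη.specializes hzT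
      have hsp : ω ⤳ η := hq ▸ ((PrimeSpectrum.le_iff_specializes
        (⟨⊥, Ideal.isPrime_bot⟩ : PrimeSpectrum (Z.presheaf.stalk z)) q).mp bot_le).map (Z.fromSpecStalk z).continuous
      refine le_antisymm ?_ (hT.2 isIrreducible_singleton.closure ?_)
      all_goals rw [← show closure {η} = T from hη]
      · exact closure_minimal (Set.singleton_subset_iff.2 hsp.mem_closure) isClosed_closure
      · exact closure_minimal (Set.singleton_subset_iff.2 hsp.mem_closure) isClosed_closure
    rw [key T₁ h₁ hz₁, key T₂ h₂ hz₂]
  obtain ⟨z₀, hz₀⟩ := hCconn.nonempty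
  let T₀ := irreducibleComponent z₀
  have hT₀ : T₀ ∈ irreducibleComponents Z := irreducibleComponent_mem_irreducibleComponents z₀
  let R : Set Z := ⋃ T ∈ irreducibleComponents Z \ {T₀}, T
  have hR : IsClosed R := (NoetherianSpace.finite_irreducibleComponents.sdiff).isClosed_biUnion
    fun T hT => isClosed_of_mem_irreducibleComponents T hT.1
  have hall : ∀ T ∈ irreducibleComponents Z, T = T₀ := by
    intro T hT
    by_contra hne
    obtain ⟨z, hzT, hzC⟩ := hmeet T (isClosed_of_mem_irreducibleComponents T hT) hT.1.nonempty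
    obtain ⟨w, hwC, hw₀, hwR⟩ := isPreconnected_closed_iff.mp hCconn.isPreconnected T₀ R
      isClosed_irreducibleComponent hR
      (fun w _ => by
        by_cases hw : irreducibleComponent w = T₀
        · exact Or.inl (hw ▸ mem_irreducibleComponent)
        · exact Or.inr (Set.mem_biUnion ⟨irreducibleComponent_mem_irreducibleComponents w, hw⟩
            mem_irreducibleComponent))
      ⟨z₀, hz₀, mem_irreducibleComponent⟩ ⟨z, hzC, Set.mem_biUnion ⟨hT, hne⟩ hzT⟩
    simp only [R, Set.mem_iUnion] at hwR
    obtain ⟨T', ⟨hT', hne'⟩, hwT'⟩ := hwR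
    exact hne' (huniq w hwC T' hT' T₀ hT₀ hwT' hw₀)
  have huniv : T₀ = Set.univ := Set.eq_univ_of_forall fun w =>
    hall _ (irreducibleComponent_mem_irreducibleComponents w) ▸ mem_irreducibleComponent
  rw [irreducibleSpace_def, Set.top_eq_univ, ← huniv]
  exact hT₀.1

/-- The generic fibre of a proper flat scheme over a discrete valuation ring with integral closed fibre is irreducible. -/
theorem irreducibleSpace_generic {V L : Type u} [CommRing V] [IsDomain V] [IsDiscreteValuationRing V] [Field L]
    [Algebra V L] [IsFractionRing V L]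
    {Z : Scheme.{u}} (g : Z ⟶ Spec (CommRingCat.of V)) [IsProper g] [Flat g]
    (hc : IsIntegral (g.fiber (closedPoint V))) :
    IrreducibleSpace ↥(pullback g (Spec.map (CommRingCat.ofHom (algebraMap V L)))) := by
  haveI := irreducibleSpace_of_dvr g hc
  let j := Spec.map (CommRingCat.ofHom (algebraMap V L))
  haveI : IsPreimmersion j := IsPreimmersion.of_isLocalization (nonZeroDivisors V)
  haveI : IsPreimmersion (pullback.fst g j) := inferInstance
  have hrange : Set.range j = {closedPoint V}ᶜ := by
    ext p
    constructor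
    · rintro ⟨q, rfl⟩ hq
      have h0 := (congrArg PrimeSpectrum.asIdeal hq : (j q).asIdeal = maximalIdeal V)
      obtain ⟨ϖ, hϖ⟩ := IsDiscreteValuationRing.exists_irreducible V
      have : algebraMap V L ϖ ∈ q.asIdeal := h0.ge hϖ.not_isUnit
      exact q.isPrime.ne_top (Ideal.eq_top_of_isUnit_mem _ this
        (isUnit_iff_ne_zero.mpr (IsFractionRing.to_map_ne_zero_of_mem_nonZeroDivisors
          (mem_nonZeroDivisors_of_ne_zero hϖ.ne_zero))))
    · intro hp
      have hbot : p.asIdeal = ⊥ := by
        by_contra hne
        haveI := p.isPrime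
        exact hp (PrimeSpectrum.ext (IsLocalRing.eq_maximalIdeal (Ideal.IsPrime.isMaximal inferInstance hne)))
      refine ⟨closedPoint L, PrimeSpectrum.ext ?_⟩
      show (maximalIdeal L).comap (algebraMap V L) = p.asIdeal
      rw [IsLocalRing.maximalIdeal_eq_bot, hbot]
      exact (RingHom.injective_iff_ker_eq_bot _).mp (IsFractionRing.injective V L)
  have hopen : IsOpen (Set.range (pullback.fst g j)) := by
    rw [Scheme.Pullback.range_fst, hrange]
    exact (isClosed_singleton_closedPoint V).isOpen_compl.preimage g.continuous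
  haveI : Nonempty ↥(pullback g j) := by
    obtain ⟨z⟩ := (inferInstance : Nonempty (g.fiber (closedPoint V)))
    have hz : g (g.fiberι _ z) = closedPoint V := (g.range_fiberι _).le ⟨z, rfl⟩
    obtain ⟨w, -, hw⟩ : j (closedPoint L) ∈ g '' Set.univ :=
      (specializes_closedPoint (R := V) (j (closedPoint L))).mem_open
        (g.isOpenMap _ isOpen_univ) ⟨g.fiberι _ z, trivial, hz⟩
    obtain ⟨t, -, -⟩ := Scheme.Pullback.exists_preimage_pullback (f := g) (g := j) w (closedPoint L) hw
    exact ⟨t⟩
  exact (⟨(pullback.fst g j).isEmbedding, hopen⟩ : IsOpenEmbedding (pullback.fst g j)).irreducibleSpace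

/-- Geometric irreducibility passes to generisations of a point with geometrically integral fibre. -/
theorem geometricallyIrreducible_of_specializes {X S : Scheme.{u}} [IsLocallyNoetherian S] (f : X ⟶ S) [IsProper f]
    [Flat f] {y y' : S} (hsp : y' ⤳ y) (hy : GeometricallyIntegral (f.fiberToSpecResidueField y)) :
    GeometricallyIrreducible (f.fiberToSpecResidueField y') := by
  by_cases hne : y = y'
  · subst hne; haveI := hy; infer_instance
  letI : (f.fiber y').Over (Spec (CommRingCat.of (S.residueField y'))) := ⟨f.fiberToSpecResidueField y'⟩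
  refine Groth.Agent.S1539.result (S.residueField y') (f.fiber y') fun L _ _ _ _ => ?_
  let ψ := CommRingCat.ofHom (algebraMap (S.residueField y') L)
  let φ := Groth.Limits.toResidue (𝟙 S) y' (y' := y) hsp ≫ ψ
  have hfin : (algebraMap (S.residueField y') L).EssFiniteType :=
    RingHom.FiniteType.essFiniteType (RingHom.finiteType_algebraMap.2 inferInstance)
  have h0 : ∃ r ∈ maximalIdeal (S.presheaf.stalk y), φ.hom r ≠ 0 := by
    by_contra hcon
    push Not at hcon
    have hcl : (Spec.map φ ≫ S.fromSpecStalk y) (closedPoint L) = y := by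
      rw [Scheme.Hom.comp_apply]
      have : Spec.map φ (closedPoint L) = closedPoint (S.presheaf.stalk y) := by
        refine PrimeSpectrum.ext ?_
        refine ((maximalIdeal.isMaximal _).eq_of_le (Spec.map φ (closedPoint L)).isPrime.ne_top ?_).symm
        intro r hr
        show φ.hom r ∈ maximalIdeal L
        rw [hcon r hr]; exact zero_mem _
      rw [this, S.fromSpecStalk_closedPoint]
    rw [Spec.map_comp, Category.assoc, Groth.Limits.toResidue_fromSpecStalk, Category.comp_id,
      Scheme.Hom.comp_apply, Scheme.fromSpecResidueField_apply] at hcl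
    exact hne hcl.symm
  obtain ⟨V, hV, hdvr, hloc⟩ := Groth.Limits.exists_dvr_valuationSubring φ.hom
    ((Groth.Limits.essFiniteType_toResidue (𝟙 S) y' hsp).comp hfin) h0
  let θ : S.presheaf.stalk y ⟶ CommRingCat.of V := CommRingCat.ofHom (φ.hom.codRestrict V.toSubring hV)
  let h : Spec (CommRingCat.of V) ⟶ S := Spec.map θ ≫ S.fromSpecStalk y
  have hcl : h (closedPoint V) = y := by
    rw [Scheme.Hom.comp_apply]
    have : Spec.map θ (closedPoint V) = closedPoint (S.presheaf.stalk y) :=
      comap_closedPoint (φ.hom.codRestrict V.toSubring hV)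
    rw [this, S.fromSpecStalk_closedPoint]
  have hgen : Spec.map (CommRingCat.ofHom (algebraMap V L)) ≫ h = Spec.map ψ ≫ S.fromSpecResidueField y' := by
    rw [← Spec.map_comp_assoc, show θ ≫ CommRingCat.ofHom (algebraMap V L) = φ from rfl, Spec.map_comp,
      Category.assoc, Groth.Limits.toResidue_fromSpecStalk, Category.comp_id]
  have hint : IsIntegral ((pullback.snd f h).fiber (closedPoint V)) := by
    let c : Spec (CommRingCat.of V) := closedPoint V
    let e : (pullback.snd f h).fiber c ≅
        pullback (f.fiberToSpecResidueField (h c)) (Spec.map (h.residueFieldMap c)) :=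
      pullbackLeftPullbackSndIso f h _ ≪≫
        pullback.congrHom rfl (Scheme.Hom.SpecMap_residueFieldMap_fromSpecResidueField h c).symm ≪≫
        (pullbackLeftPullbackSndIso f _ _).symm
    haveI : IsIntegral (pullback (f.fiberToSpecResidueField (h c)) (Spec.map (h.residueFieldMap c))) := by
      haveI : GeometricallyIntegral (f.fiberToSpecResidueField (h c)) := hcl ▸ hy
      exact GeometricallyIntegral.geometrically_isIntegral _ _ _ (IsPullback.of_hasPullback _ _)
    haveI : Nonempty ((pullback.snd f h).fiber c) := ⟨e.inv (Nonempty.some inferInstance)⟩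
    exact isIntegral_of_isOpenImmersion e.hom
  haveI : Flat (pullback.snd f h) := MorphismProperty.pullback_snd _ _ inferInstance
  haveI : IsProper (pullback.snd f h) := MorphismProperty.pullback_snd _ _ inferInstance
  have hirr := irreducibleSpace_generic (L := L) (pullback.snd f h) hint
  let e : pullback (pullback.snd f h) (Spec.map (CommRingCat.ofHom (algebraMap V L))) ≅
      Curv2.bc (S.residueField y') (f.fiber y') L :=
    pullbackLeftPullbackSndIso f h _ ≪≫ pullback.congrHom rfl hgen ≪≫ (pullbackLeftPullbackSndIso f _ _).symm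
  exact e.hom.homeomorph.irreducibleSpace_iff.mp hirr

/-- Geometrically irreducible fibres are those with one geometric component. -/
theorem geometricallyIrreducible_iff_nGeomIrredComp {X Y : Scheme.{u}} (f : X ⟶ Y) (y : Y) :
    GeometricallyIrreducible (f.fiberToSpecResidueField y) ↔ MoreMor.nGeomIrredComp f y = 1 := by
  let κ := Y.residueField y
  let t : Spec (CommRingCat.of (SeparableClosure κ)) ⟶ Spec κ :=
    Spec.map (CommRingCat.ofHom (algebraMap κ (SeparableClosure κ)))
  have hz : (t ≫ Y.fromSpecResidueField y) (closedPoint (SeparableClosure κ)) = y :=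
    (Scheme.Hom.comp_apply _ _ _).trans (Y.fromSpecResidueField_apply y _)
  rw [(nGeomComp_eq f y (t ≫ Y.fromSpecResidueField y) hz).1]
  let e := (pullbackLeftPullbackSndIso f (Y.fromSpecResidueField y) t).hom.homeomorph
  constructor
  · intro h
    haveI : IrreducibleSpace ↥(pullback (f.fiberToSpecResidueField y) t) :=
      h.geometrically_irreducibleSpace t _ _ (IsPullback.of_hasPullback _ _)
    haveI : IrreducibleSpace ↥(pullback f (t ≫ Y.fromSpecResidueField y)) := e.irreducibleSpace_iff.mp ‹_›
    rw [irreducibleComponents_eq_singleton, Set.encard_singleton]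
  · intro h
    obtain ⟨T, hT⟩ := Set.encard_eq_one.mp h
    have hT0 : IsIrreducible T := (hT.ge rfl : T ∈ irreducibleComponents _).1
    have huniv : T = Set.univ := Set.eq_univ_of_forall fun x => by
      have h1 : irreducibleComponent x ∈ ({T} : Set (Set _)) :=
        hT ▸ irreducibleComponent_mem_irreducibleComponents x
      rw [← Set.mem_singleton_iff.mp h1]
      exact mem_irreducibleComponent
    haveI : IrreducibleSpace ↥(pullback f (t ≫ Y.fromSpecResidueField y)) := by
      rw [irreducibleSpace_def, Set.top_eq_univ, ← huniv]; exact hT0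
    haveI : IrreducibleSpace ↥(pullback (f.fiberToSpecResidueField y) t) := e.irreducibleSpace_iff.mpr ‹_›
    haveI : Surjective t := Groth.FBaseGeom.surjective_specMap (k := κ) (K := SeparableClosure κ)
    exact Groth.FBaseGeom.geometricallyIrreducible_of_pullback_snd (f.fiberToSpecResidueField y) t
      (Groth.GrpschAbsch.geometricallyIrreducible_of_isSepClosed
        (pullback.snd (f.fiberToSpecResidueField y) t))

/-- The geometrically integral fibres form a neighbourhood of each of their points. -/
theorem eventually_geometricallyIntegral {X S : Scheme.{u}} [IsLocallyNoetherian S] (f : X ⟶ S) [IsProper f] [Flat f]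
    {y : S} (hy : GeometricallyIntegral (f.fiberToSpecResidueField y)) :
    ∀ᶠ z in nhds y, MoreMor.nGeomIrredComp f z = 1 := by
  haveI : LocallyOfFinitePresentation f := inferInstance
  obtain ⟨W, hW, hyW, -⟩ := exists_isAffineOpen_mem_and_subset (U := ⊤) (Set.mem_univ y)
  haveI : CompactSpace (W : Scheme.{u}) := isCompact_iff_compactSpace.mp hW.isCompact
  haveI : IsLocallyNoetherian (W : Scheme.{u}) := isLocallyNoetherian_of_isOpenImmersion W.ι
  haveI : AlgebraicGeometry.IsNoetherian (W : Scheme.{u}) := { }
  have h1 := mem_nhds_of_generalizing (X := (W : Scheme.{u})) (E := W.ι ⁻¹' {z | MoreMor.nGeomIrredComp f z = 1})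
    ((isLocallyConstructible_level f 1).1.preimage_of_isOpenEmbedding W.ι.isOpenEmbedding).isConstructible
    (x := ⟨y, hyW⟩) fun q hq => (geometricallyIrreducible_iff_nGeomIrredComp f _).mp
      (geometricallyIrreducible_of_specializes f (hq.map W.ι.continuous) hy)
  exact Filter.mem_of_superset (W.ι.isOpenEmbedding.isOpenMap.image_mem_nhds h1) (Set.image_preimage_subset _ _)

/-- The geometrically integral fibres of a proper flat finitely presented morphism form an open set. -/
theorem isOpen_geometricallyIntegral {X S : Scheme.{u}} (f : X ⟶ S) [IsProper f] [Flat f]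
    [LocallyOfFinitePresentation f] :
    IsOpen {y : S | GeometricallyIntegral (f.fiberToSpecResidueField y)} := by
  rw [isOpen_iff_mem_nhds]
  intro y hy
  have hyi : GeometricallyIntegral (f.fiberToSpecResidueField y) := hy
  have hred : {z : S | GeometricallyReduced (f.fiberToSpecResidueField z)} ∈ nhds y :=
    (Groth.Agent.S0435.result f).mem_nhds (inferInstance : GeometricallyReduced (f.fiberToSpecResidueField y))
  suffices hirr : ∀ᶠ z in nhds y, MoreMor.nGeomIrredComp f z = 1 by
    filter_upwards [hred, hirr] with z h1 h2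
    haveI : GeometricallyReduced (f.fiberToSpecResidueField z) := h1
    haveI := (geometricallyIrreducible_iff_nGeomIrredComp f z).mpr h2
    exact GeometricallyIntegral.of_geometricallyReduced_of_geometricallyIrreducible _
  obtain ⟨W, hW, hyW, -⟩ := exists_isAffineOpen_mem_and_subset (U := ⊤) (Set.mem_univ y)
  obtain ⟨p, rfl⟩ : y ∈ Set.range hW.fromSpec.base := hW.range_fromSpec.ge hyW
  haveI : IsProper (pullback.snd f hW.fromSpec) := MorphismProperty.pullback_snd _ _ inferInstance
  haveI : Flat (pullback.snd f hW.fromSpec) := MorphismProperty.pullback_snd _ _ inferInstance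
  haveI : LocallyOfFinitePresentation (pullback.snd f hW.fromSpec) := MorphismProperty.pullback_snd _ _ inferInstance
  obtain ⟨S₀, X₀, hS₀, q, f₀, p₀, sq, hp₀, hfl₀, -⟩ :=
    Groth.GrpschAbsch.H0General.exists_model (pullback.snd f hW.fromSpec) 0
  haveI := hS₀
  haveI := hp₀
  haveI := hfl₀
  have e1 : ∀ t, MoreMor.nGeomIrredComp f (hW.fromSpec.base t) = MoreMor.nGeomIrredComp f₀ (q.base t) := fun t => by
    rw [← (nGeomComp_baseChange f₀ (pullback.snd f hW.fromSpec) p₀ q sq t).1]
    exact (nGeomComp_baseChange f _ _ _ (IsPullback.of_hasPullback f hW.fromSpec) t).1.symm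
  haveI : GeometricallyReduced (f₀.fiberToSpecResidueField (q.base p)) := by
    have h3 := geometricallyReduced_fiber_pullback f hW.fromSpec p inferInstance
    rw [GeometricallyReduced.eq_geometrically] at h3 ⊢
    exact (Groth.Flatmor4.fibre_iff_of_isPullback (fun q => Groth.Flatmor4.isReduced_of_flat_of_surjective q) f₀ q
      (pullback.snd f hW.fromSpec) p₀ sq p).mp h3
  haveI : GeometricallyIrreducible (f₀.fiberToSpecResidueField (q.base p)) := by
    rw [geometricallyIrreducible_iff_nGeomIrredComp, ← e1, ← geometricallyIrreducible_iff_nGeomIrredComp]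
    infer_instance
  have := q.continuous.continuousAt.eventually (eventually_geometricallyIntegral f₀ (y := q.base p)
    (GeometricallyIntegral.of_geometricallyReduced_of_geometricallyIrreducible _))
  rw [← hW.fromSpec.isOpenEmbedding.map_nhds_eq p, Filter.eventually_map]
  exact this.mono fun t ht => (e1 t).trans ht

end Groth.GeomComp.IntegralFibres
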