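import Groth.Agent.VarietyBC.Galois
import Groth.Agent.VarietyBC.Components
import Groth.Prelude.Def_MoreMor
import Mathlib

/-!
The numbers of components of the geometric fibres can be computed at any separably closed point.
-/

set_option autoImplicit false
universe u

open AlgebraicGeometry CategoryTheory Limits Topology

namespace Groth.GeomComp

theorem irreducibleComponents_encard_of_homeomorph {A B : Type u} [TopologicalSpace A] [TopologicalSpace B]
    (e : A ≃ₜ B) : (irreducibleComponents A).encard = (irreducibleComponents B).encard := by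
  have eq := irreducibleComponentsEquivOfIsPreirreducibleFiber e e.continuous e.isOpenMap
    (fun x => ((Set.subsingleton_singleton (a := x)).preimage e.injective).isPreirreducible) e.surjective
  exact Set.encard_congr eq.toEquiv.symm

theorem connectedComponents_card_of_homeomorph {A B : Type u} [TopologicalSpace A] [TopologicalSpace B]
    (e : A ≃ₜ B) : ENat.card (_root_.ConnectedComponents A) = ENat.card (_root_.ConnectedComponents B) := by
  refine ENat.card_congr (Equiv.ofBijective e.continuous.connectedComponentsMap ⟨?_, ?_⟩)
  · intro a b h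
    obtain ⟨a, rfl⟩ := ConnectedComponents.surjective_coe a
    obtain ⟨b, rfl⟩ := ConnectedComponents.surjective_coe b
    have h2 := congrArg e.symm.continuous.connectedComponentsMap h
    simp only [Continuous.connectedComponentsMap, Continuous.connectedComponentsLift_apply_coe,
      Function.comp_apply, Homeomorph.symm_apply_apply] at h2
    exact h2
  · intro b
    obtain ⟨b, rfl⟩ := ConnectedComponents.surjective_coe b
    refine ⟨(e.symm b : _root_.ConnectedComponents A), ?_⟩
    simp [Continuous.connectedComponentsMap]

theorem connectedComponents_card_of_isQuotientMap {A B : Type u} [TopologicalSpace A] [TopologicalSpace B]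
    {q : A → B} (hq : IsQuotientMap q) (hfib : ∀ b, _root_.IsConnected (q ⁻¹' {b})) :
    ENat.card (_root_.ConnectedComponents A) = ENat.card (_root_.ConnectedComponents B) := by
  refine ENat.card_congr (Equiv.ofBijective hq.continuous.connectedComponentsMap ⟨?_, ?_⟩)
  · intro a b h
    obtain ⟨a, rfl⟩ := ConnectedComponents.surjective_coe a
    obtain ⟨b, rfl⟩ := ConnectedComponents.surjective_coe b
    simp only [Continuous.connectedComponentsMap, Continuous.connectedComponentsLift_apply_coe,
      Function.comp_apply] at h
    rw [ConnectedComponents.coe_eq_coe] at h ⊢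
    apply connectedComponent_eq
    have hb : b ∈ q ⁻¹' connectedComponent (q a) := by
      rw [Set.mem_preimage, h]; exact mem_connectedComponent
    have hs : IsPreconnected (q ⁻¹' connectedComponent (q a)) :=
      (Topology.IsCoinducing.isConnected_preimage_of_isClosed hfib hq.isCoinducing isClosed_connectedComponent
        isConnected_connectedComponent).isPreconnected
    exact hs.subset_connectedComponent mem_connectedComponent hb
  · intro b
    obtain ⟨b, rfl⟩ := ConnectedComponents.surjective_coe b
    obtain ⟨a, rfl⟩ := hq.surjective b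
    exact ⟨(a : _root_.ConnectedComponents A), by simp [Continuous.connectedComponentsMap]⟩

/-- Components of `X` and of `X_K` for a separably closed ground field. -/
theorem encard_bc (k : Type u) [Field k] [IsSepClosed k] (X : Scheme.{u}) [X.Over (Spec (CommRingCat.of k))]
    (K : Type u) [Field K] [Algebra k K] :
    (irreducibleComponents (Curv2.bc k X K : Type u)).encard = (irreducibleComponents (X : Type u)).encard ∧
      ENat.card (_root_.ConnectedComponents (Curv2.bc k X K : Type u)) =
        ENat.card (_root_.ConnectedComponents (X : Type u)) := by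
  refine ⟨?_, connectedComponents_card_of_isQuotientMap (Groth.VarietyBC.isQuotientMap_bcFst K)
    (Groth.VarietyBC.isConnected_fibre K)⟩
  exact Set.encard_congr (irreducibleComponentsEquivOfIsPreirreducibleFiber (Curv2.bcFst k X K)
    (Curv2.bcFst k X K).continuous (Groth.VarietyBC.isOpenMap_bcFst K)
    (fun x => (Groth.VarietyBC.isIrreducible_preimage_of_sepClosedAt K
      (Groth.VarietyBC.sepClosedAt_of_isSepClosed x)).2)
    (Groth.VarietyBC.surjective_bcFst K)).toEquiv.symm

theorem encard_pullback_extension {X Y : Scheme.{u}} (f : X ⟶ Y) {S M : Type u} [Field S] [IsSepClosed S] [Field M]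
    (i : S →+* M) (z : Spec (.of S) ⟶ Y) :
    (irreducibleComponents ↥(pullback f (Spec.map (CommRingCat.ofHom i) ≫ z))).encard =
        (irreducibleComponents ↥(pullback f z)).encard ∧
      ENat.card (_root_.ConnectedComponents ↥(pullback f (Spec.map (CommRingCat.ofHom i) ≫ z))) =
        ENat.card (_root_.ConnectedComponents ↥(pullback f z)) := by
  letI : Algebra S M := i.toAlgebra
  letI : (pullback f z).Over (Spec (CommRingCat.of S)) := ⟨pullback.snd f z⟩
  have e : Curv2.bc S (pullback f z) M ≅ pullback f (Spec.map (CommRingCat.ofHom i) ≫ z) :=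
    pullbackLeftPullbackSndIso f z _
  obtain ⟨h1, h2⟩ := encard_bc S (pullback f z) M
  exact ⟨(irreducibleComponents_encard_of_homeomorph e.hom.homeomorph).symm.trans h1,
    (connectedComponents_card_of_homeomorph e.hom.homeomorph).symm.trans h2⟩

theorem encard_congr_hom {X Y : Scheme.{u}} (f : X ⟶ Y) {T : Scheme.{u}} {z z' : T ⟶ Y} (h : z = z') :
    (irreducibleComponents ↥(pullback f z)).encard = (irreducibleComponents ↥(pullback f z')).encard ∧
      ENat.card (_root_.ConnectedComponents ↥(pullback f z)) =
        ENat.card (_root_.ConnectedComponents ↥(pullback f z')) := by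
  subst h; exact ⟨rfl, rfl⟩

/-- The geometric counts can be computed at any separably closed field valued point over `y`. -/
theorem nGeomComp_eq {X Y : Scheme.{u}} (f : X ⟶ Y) (y : Y) {L : Type u} [Field L] [IsSepClosed L]
    (z : Spec (.of L) ⟶ Y) (hz : z.base (IsLocalRing.closedPoint L) = y) :
    MoreMor.nGeomIrredComp f y = (irreducibleComponents ↥(pullback f z)).encard ∧
      MoreMor.nGeomConnComp f y = ENat.card (_root_.ConnectedComponents ↥(pullback f z)) := by
  obtain ⟨⟨y', φ⟩, rfl⟩ := (Scheme.SpecToEquivOfField L Y).symm.surjective z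
  have hy' : y' = y := by
    rw [← hz]
    exact ((Scheme.Hom.comp_apply (Spec.map φ) (Y.fromSpecResidueField y') _).trans
      (Y.fromSpecResidueField_apply y' _)).symm
  subst hy'
  let κ : Type u := Y.residueField y'
  let S : Type u := SeparableClosure κ
  letI : Algebra κ L := φ.hom.toAlgebra
  let i : S →ₐ[κ] L := IsSepClosed.lift
  let z₀ : Spec (.of S) ⟶ Y :=
    Spec.map (CommRingCat.ofHom (algebraMap κ S)) ≫ Y.fromSpecResidueField y'
  have hz₀ : Spec.map (CommRingCat.ofHom i.toRingHom) ≫ z₀ = Spec.map φ ≫ Y.fromSpecResidueField y' := by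
    show Spec.map (CommRingCat.ofHom i.toRingHom) ≫ Spec.map (CommRingCat.ofHom (algebraMap κ S)) ≫ _ = _
    rw [← Category.assoc, ← Spec.map_comp, ← CommRingCat.ofHom_comp,
      show i.toRingHom.comp (algebraMap κ S) = φ.hom from i.comp_algebraMap]
    rfl
  have e : MoreMor.geomFiber f y' ≅ pullback f z₀ := pullbackLeftPullbackSndIso f (Y.fromSpecResidueField y') _
  obtain ⟨h1, h2⟩ := encard_pullback_extension f i.toRingHom z₀
  obtain ⟨c1, c2⟩ := encard_congr_hom f hz₀
  exact ⟨(irreducibleComponents_encard_of_homeomorph e.hom.homeomorph).trans (h1.symm.trans c1),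
    (connectedComponents_card_of_homeomorph e.hom.homeomorph).trans (h2.symm.trans c2)⟩

theorem nGeomComp_baseChange {X Y X' Y' : Scheme.{u}} (f : X ⟶ Y) (f' : X' ⟶ Y') (g' : X' ⟶ X) (g : Y' ⟶ Y)
    (hc : IsPullback g' f' f g) (y' : Y') :
    MoreMor.nGeomIrredComp f' y' = MoreMor.nGeomIrredComp f (g y') ∧
      MoreMor.nGeomConnComp f' y' = MoreMor.nGeomConnComp f (g y') := by
  let κ : Type u := Y'.residueField y'
  let L : Type u := AlgebraicClosure κ
  let z : Spec (.of L) ⟶ Y' := Spec.map (CommRingCat.ofHom (algebraMap κ L)) ≫ Y'.fromSpecResidueField y'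
  have hz : z.base (IsLocalRing.closedPoint L) = y' :=
    (Scheme.Hom.comp_apply _ _ _).trans (Y'.fromSpecResidueField_apply y' _)
  have hgz : (z ≫ g).base (IsLocalRing.closedPoint L) = g y' := by
    rw [Scheme.Hom.comp_apply, hz]
  obtain ⟨a1, a2⟩ := nGeomComp_eq f' y' z hz
  obtain ⟨b1, b2⟩ := nGeomComp_eq f (g y') (z ≫ g) hgz
  have e : pullback f' z ≅ pullback f (z ≫ g) :=
    ((IsPullback.of_hasPullback f' z).paste_horiz hc).isoPullback
  exact ⟨a1.trans ((irreducibleComponents_encard_of_homeomorph e.hom.homeomorph).trans b1.symm),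
    a2.trans ((connectedComponents_card_of_homeomorph e.hom.homeomorph).trans b2.symm)⟩

end Groth.GeomComp
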