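import Groth.Agent.RaynaudGruson.GenericGeneralization
import Groth.Agent.FibreDim.GenericImage
import Mathlib

/-!
Lower bounds for the numbers of components of the fibres near the generic point.
-/

set_option autoImplicit false
universe u

open AlgebraicGeometry CategoryTheory Limits Topology TopologicalSpace

namespace Groth.GeomComp

theorem exists_open_forall_notMem {X Y : Scheme.{u}} (f : X ⟶ Y) [IrreducibleSpace ↑Y] [LocallyOfFiniteType f]
    [QuasiCompact f] (s : Set X) (hs : IsClosed s) (h : ∀ x ∈ s, f.base x ≠ genericPoint ↑Y) :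
    ∃ V : Y.Opens, genericPoint ↑Y ∈ V ∧ ∀ x ∈ s, f.base x ∉ V := by
  let I := Scheme.IdealSheafData.vanishingIdeal (X := X) ⟨s, hs⟩
  have hr : Set.range I.subschemeι.base = s := by
    rw [Scheme.IdealSheafData.range_subschemeι, Scheme.IdealSheafData.coe_support_vanishingIdeal]
    rfl
  obtain ⟨V, ⟨v, hv⟩, hV⟩ := Groth.RaynaudGruson.exists_open_generalizing (I.subschemeι ≫ f)
  refine ⟨V, ((genericPoint_spec ↑Y).specializes trivial).mem_open V.isOpen hv, fun x hx hxV => ?_⟩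
  obtain ⟨w, rfl⟩ : x ∈ Set.range I.subschemeι.base := hr.symm ▸ hx
  obtain ⟨u, -, hu⟩ := hV w (by rwa [Scheme.Hom.comp_apply])
  exact h _ (hr ▸ ⟨u, rfl⟩) ((Scheme.Hom.comp_apply _ _ _).symm.trans hu)

theorem exists_open_forall_exists_mem {X Y : Scheme.{u}} (f : X ⟶ Y) [IrreducibleSpace ↑Y] [LocallyOfFiniteType f]
    [QuasiCompact f] (s : Set X) (hs : IsClosed s) (O : X.Opens) {x : X} (hxs : x ∈ s) (hxO : x ∈ O)
    (hxη : f.base x = genericPoint ↑Y) :
    ∃ V : Y.Opens, genericPoint ↑Y ∈ V ∧ ∀ y ∈ V, ∃ x ∈ s, x ∈ O ∧ f.base x = y := by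
  let I := Scheme.IdealSheafData.vanishingIdeal (X := X) ⟨s, hs⟩
  have hr : Set.range I.subschemeι.base = s := by
    rw [Scheme.IdealSheafData.range_subschemeι, Scheme.IdealSheafData.coe_support_vanishingIdeal]
    rfl
  obtain ⟨w, rfl⟩ : x ∈ Set.range I.subschemeι.base := hr.symm ▸ hxs
  let O' := I.subschemeι ⁻¹ᵁ O
  obtain ⟨V, ⟨v, hv⟩, hV⟩ := Groth.FibreDim.exists_open_subset_range (O'.ι ≫ I.subschemeι ≫ f) (by
    obtain ⟨w', hw'⟩ : w ∈ Set.range O'.ι.base := by rw [Scheme.Opens.range_ι]; exact hxO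
    exact ⟨w', by rw [Scheme.Hom.comp_apply, hw', Scheme.Hom.comp_apply, hxη]⟩)
  refine ⟨V, ((genericPoint_spec ↑Y).specializes trivial).mem_open V.isOpen hv, fun y hy => ?_⟩
  obtain ⟨w', hw'⟩ := hV hy
  refine ⟨I.subschemeι.base (O'.ι.base w'), hr ▸ ⟨_, rfl⟩, ?_, by rw [← hw']; simp⟩
  have : O'.ι.base w' ∈ Set.range O'.ι.base := ⟨w', rfl⟩
  rw [Scheme.Opens.range_ι] at this
  exact this

/-- A finite family of closed sets of the generic fibre covering it extends over an open set of the base. -/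
theorem exists_open_extend {X Y : Scheme.{u}} (f : X ⟶ Y) [IrreducibleSpace ↑Y] [LocallyOfFiniteType f]
    [QuasiCompact f] {ι : Type} [Finite ι] (C : ι → Set ↑(f.fiber (genericPoint ↑Y))) (hC : ∀ i, IsClosed (C i))
    (hcov : ∀ x, ∃ i, x ∈ C i) (hirr : ∀ i, ∃ x ∈ C i, ∀ j, x ∈ C j → j = i) :
    ∃ V : Y.Opens, genericPoint ↑Y ∈ V ∧ ∃ Z : ι → Set X, (∀ i, IsClosed (Z i)) ∧
      (∀ x : X, f.base x ∈ V → ∃ i, x ∈ Z i) ∧
      (∀ i, ∀ y ∈ V, ∃ x ∈ Z i, f.base x = y ∧ ∀ j, x ∈ Z j → j = i) ∧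
      ∀ i j, Disjoint (C i) (C j) → ∀ x, f.base x ∈ V → x ∈ Z i → x ∈ Z j → False := by
  classical
  haveI := Fintype.ofFinite ι
  let η := genericPoint ↑Y
  let Z : ι → Set X := fun i => closure ((f.fiberι η).base '' C i)
  have hpre : ∀ i, (f.fiberι η).base ⁻¹' Z i = C i := fun i =>
    ((f.fiberι η).isEmbedding.isInducing.closure_eq_preimage_closure_image (C i)).symm.trans (hC i).closure_eq
  have hfib : ∀ x, f.base ((f.fiberι η).base x) = η := fun x => by
    have : (f.fiberι η).base x ∈ Set.range (f.fiberι η).base := ⟨x, rfl⟩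
    rw [Scheme.Hom.range_fiberι] at this
    exact this
  obtain ⟨V₀, ⟨v, hv⟩, hV₀⟩ := Groth.RaynaudGruson.exists_open_generalizing f
  have hη₀ : η ∈ V₀ := ((genericPoint_spec ↑Y).specializes trivial).mem_open V₀.isOpen hv
  have h1 : ∀ i, ∃ V : Y.Opens, η ∈ V ∧ ∀ y ∈ V, ∃ x ∈ Z i, f.base x = y ∧ ∀ j, x ∈ Z j → j = i := fun i => by
    obtain ⟨w, hw, hwj⟩ := hirr i
    let O : X.Opens := ⟨(⋃ j ∈ ({i}ᶜ : Set ι), Z j)ᶜ,
      ((Set.toFinite _).isClosed_biUnion fun j _ => isClosed_closure).isOpen_compl⟩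
    have hO : ∀ x : X, x ∈ O ↔ ∀ j, x ∈ Z j → j = i := fun x => by
      show x ∈ (⋃ j ∈ ({i}ᶜ : Set ι), Z j)ᶜ ↔ _
      simp only [Set.mem_compl_iff, Set.mem_iUnion, Set.mem_singleton_iff, not_exists]
      exact forall_congr' fun j => ⟨fun h hx => by by_contra hne; exact h hne hx, fun h hne hx => hne (h hx)⟩
    have hwZ : (f.fiberι η).base w ∈ Z i := subset_closure ⟨w, hw, rfl⟩
    obtain ⟨V, hVη, hV⟩ := exists_open_forall_exists_mem f (Z i) isClosed_closure O hwZ
      ((hO _).mpr fun j hj => hwj j ((Set.ext_iff.mp (hpre j) w).mp hj)) (hfib w)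
    exact ⟨V, hVη, fun y hy => by
      obtain ⟨x, a, b, c⟩ := hV y hy
      exact ⟨x, a, c, (hO x).mp b⟩⟩
  choose V₁ hV₁η hV₁ using h1
  have h2 : ∀ p : ι × ι, ∃ V : Y.Opens, η ∈ V ∧ (Disjoint (C p.1) (C p.2) → ∀ x ∈ Z p.1 ∩ Z p.2, f.base x ∉ V) :=
    fun p => by
    by_cases h : Disjoint (C p.1) (C p.2)
    · obtain ⟨V, hVη, hV⟩ := exists_open_forall_notMem f (Z p.1 ∩ Z p.2) (isClosed_closure.inter isClosed_closure)
        (fun x hx hxη => by
          obtain ⟨w, rfl⟩ : x ∈ Set.range (f.fiberι η).base := by rw [Scheme.Hom.range_fiberι]; exact hxη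
          exact Set.disjoint_left.mp h ((Set.ext_iff.mp (hpre p.1) w).mp hx.1) ((Set.ext_iff.mp (hpre p.2) w).mp hx.2))
      exact ⟨V, hVη, fun _ => hV⟩
    · exact ⟨⊤, trivial, fun h' => absurd h' h⟩
  choose V₂ hV₂η hV₂ using h2
  have hinf : ∀ {κ : Type} (s : Finset κ) (W : κ → Y.Opens) (y : Y), y ∈ s.inf W ↔ ∀ i ∈ s, y ∈ W i := by
    intro κ s W y
    classical
    induction s using Finset.induction_on with
    | empty => simp
    | insert a s ha ih => simp [Finset.inf_insert, ih]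
  refine ⟨V₀ ⊓ Finset.univ.inf V₁ ⊓ Finset.univ.inf V₂, ⟨⟨hη₀, (hinf _ _ _).mpr fun i _ => hV₁η i⟩,
    (hinf _ _ _).mpr fun i _ => hV₂η i⟩, Z, fun i => isClosed_closure, fun x hx => ?_, fun i y hy => ?_,
    fun i j hij x hx hi hj => ?_⟩
  · obtain ⟨z, hzx, hzη⟩ := hV₀ x hx.1.1
    obtain ⟨w, rfl⟩ : z ∈ Set.range (f.fiberι η).base := by rw [Scheme.Hom.range_fiberι]; exact hzη
    obtain ⟨i, hi⟩ := hcov w
    exact ⟨i, hzx.mem_closed isClosed_closure (subset_closure ⟨w, hi, rfl⟩)⟩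
  · exact hV₁ i y ((hinf _ _ _).mp hy.1.2 i (Finset.mem_univ i))
  · exact hV₂ (i, j) hij x ⟨hi, hj⟩ ((hinf _ _ _).mp hx.2 (i, j) (Finset.mem_univ _))

theorem le_card_irreducibleComponents {X Y : Scheme.{u}} (f : X ⟶ Y) [IrreducibleSpace ↑Y] [LocallyOfFiniteType f]
    [QuasiCompact f] (n : ℕ) (h : (irreducibleComponents ↑(f.fiber (genericPoint ↑Y))).encard = n) :
    ∃ V : Y.Opens, (V : Set ↑Y).Nonempty ∧ ∀ y ∈ V, (n : ℕ∞) ≤ (irreducibleComponents ↑(f.fiber y)).encard := by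
  classical
  have hfin : (irreducibleComponents ↑(f.fiber (genericPoint ↑Y))).Finite := Set.finite_of_encard_eq_coe h
  haveI := hfin.to_subtype
  obtain ⟨m, ⟨e⟩⟩ := Finite.exists_equiv_fin (irreducibleComponents ↑(f.fiber (genericPoint ↑Y)))
  have hm : n = m := by
    have h1 := congrArg Set.encard (Set.toFinite (irreducibleComponents ↑(f.fiber (genericPoint ↑Y)))).coe_toFinset
    have h2 : (irreducibleComponents ↑(f.fiber (genericPoint ↑Y))).encard = ENat.card (Fin m) := ENat.card_congr e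
    rw [h, ENat.card_eq_coe_fintype_card, Fintype.card_fin] at h2
    exact_mod_cast h2
  subst hm
  let C : Fin n → Set ↑(f.fiber (genericPoint ↑Y)) := fun i => (e.symm i).1
  have hC : ∀ i, IsClosed (C i) := fun i => isClosed_of_mem_irreducibleComponents _ (e.symm i).2
  obtain ⟨V, hVη, Z, hZ, hcov, hirr, -⟩ := exists_open_extend f C hC
    (fun x => ⟨e ⟨_, irreducibleComponent_mem_irreducibleComponents x⟩, by simp [C, mem_irreducibleComponent]⟩)
    (fun i => by
      obtain ⟨x, hx⟩ := QuasiSober.sober (e.symm i).2.1 (hC i)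
      refine ⟨x, hx.mem, fun j hj => ?_⟩
      have hle : C i ⊆ C j := by
        rw [show C i = closure {x} from hx.def.symm]
        exact closure_minimal (Set.singleton_subset_iff.mpr hj) (hC j)
      exact e.symm.injective (Subtype.ext (Set.Subset.antisymm ((e.symm i).2.2 (e.symm j).2.1 hle) hle)))
  refine ⟨V, ⟨_, hVη⟩, fun y hy => ?_⟩
  have hfib : ∀ w, f.base ((f.fiberι y).base w) = y := fun w => by
    have : (f.fiberι y).base w ∈ Set.range (f.fiberι y).base := ⟨w, rfl⟩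
    rw [Scheme.Hom.range_fiberι] at this
    exact this
  let O : Fin n → Set ↑(f.fiber y) := fun i => (f.fiberι y).base ⁻¹' (⋃ j ∈ ({i}ᶜ : Set (Fin n)), Z j)ᶜ
  have hO : ∀ i, IsOpen (O i) := fun i =>
    ((Set.toFinite _).isClosed_biUnion fun j _ => hZ j).isOpen_compl.preimage (f.fiberι y).continuous
  have hdisj : ∀ i j, i ≠ j → ∀ w, w ∈ O i → w ∈ O j → False := fun i j hij w hi hj => by
    obtain ⟨k, hk⟩ := hcov ((f.fiberι y).base w) (by rw [hfib]; exact hy)
    by_cases hki : k = i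
    · exact hj (Set.mem_biUnion (show k ∈ ({j}ᶜ : Set (Fin n)) from fun hkj : k = j => hij (hki.symm.trans hkj)) hk)
    · exact hi (Set.mem_biUnion (show k ∈ ({i}ᶜ : Set (Fin n)) from hki) hk)
  have hne : ∀ i, ∃ w, w ∈ O i := fun i => by
    obtain ⟨x, hx, hxy, hxj⟩ := hirr i y hy
    obtain ⟨w, rfl⟩ : x ∈ Set.range (f.fiberι y).base := by rw [Scheme.Hom.range_fiberι]; exact hxy
    refine ⟨w, fun hw => ?_⟩
    obtain ⟨j, hj, hwj⟩ := Set.mem_iUnion₂.mp hw
    exact hj (hxj j hwj)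
  choose w hw using hne
  let φ : Fin n → irreducibleComponents ↑(f.fiber y) := fun i =>
    ⟨irreducibleComponent (w i), irreducibleComponent_mem_irreducibleComponents _⟩
  have hφ : Function.Injective φ := fun i j hij => by
    by_contra hne
    have hC := congrArg Subtype.val hij
    obtain ⟨z, -, hzi, hzj⟩ := (isIrreducible_irreducibleComponent (x := w i)).2 (O i) (O j) (hO i) (hO j)
      ⟨w i, mem_irreducibleComponent, hw i⟩ ⟨w j, by
        show w j ∈ irreducibleComponent (w i)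
        rw [show irreducibleComponent (w i) = irreducibleComponent (w j) from hC]
        exact mem_irreducibleComponent, hw j⟩
    exact hdisj i j hne z hzi hzj
  calc (n : ℕ∞) = ENat.card (Fin n) := by simp
    _ ≤ ENat.card (irreducibleComponents ↑(f.fiber y)) := ENat.card_le_card_of_injective hφ
    _ = _ := rfl

theorem le_card_connectedComponents {X Y : Scheme.{u}} (f : X ⟶ Y) [IrreducibleSpace ↑Y] [LocallyOfFiniteType f]
    [QuasiCompact f] (n : ℕ) (h : ENat.card (_root_.ConnectedComponents ↑(f.fiber (genericPoint ↑Y))) = n) :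
    ∃ V : Y.Opens, (V : Set ↑Y).Nonempty ∧ ∀ y ∈ V, (n : ℕ∞) ≤ ENat.card (_root_.ConnectedComponents ↑(f.fiber y)) := by
  classical
  haveI : Finite (_root_.ConnectedComponents ↑(f.fiber (genericPoint ↑Y))) :=
    ENat.card_lt_top.mp (h ▸ ENat.coe_lt_top n)
  obtain ⟨m, ⟨e⟩⟩ := Finite.exists_equiv_fin (_root_.ConnectedComponents ↑(f.fiber (genericPoint ↑Y)))
  have hm : n = m := by
    have h2 := ENat.card_congr e
    rw [h, ENat.card_eq_coe_fintype_card, Fintype.card_fin] at h2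
    exact_mod_cast h2
  subst hm
  let C : Fin n → Set ↑(f.fiber (genericPoint ↑Y)) := fun i => ConnectedComponents.mk ⁻¹' {e.symm i}
  have hC : ∀ i, IsClosed (C i) := fun i => by
    obtain ⟨x, hx⟩ := ConnectedComponents.surjective_coe (e.symm i)
    rw [show C i = connectedComponent x by rw [← connectedComponents_preimage_singleton, hx]]
    exact isClosed_connectedComponent
  have hdisj : ∀ i j, i ≠ j → Disjoint (C i) (C j) := fun i j hij =>
    Set.disjoint_left.mpr fun x hi hj => hij (e.symm.injective ((Eq.symm hi).trans hj))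
  obtain ⟨V, hVη, Z, hZ, hcov, hirr, hZd⟩ := exists_open_extend f C hC (fun x => ⟨e x, by simp [C]⟩)
    (fun i => by
      obtain ⟨x, hx⟩ := ConnectedComponents.surjective_coe (e.symm i)
      exact ⟨x, hx, fun j hj => e.symm.injective ((Eq.symm hj).trans hx)⟩)
  refine ⟨V, ⟨_, hVη⟩, fun y hy => ?_⟩
  have hfib : ∀ w, f.base ((f.fiberι y).base w) = y := fun w => by
    have : (f.fiberι y).base w ∈ Set.range (f.fiberι y).base := ⟨w, rfl⟩
    rw [Scheme.Hom.range_fiberι] at this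
    exact this
  let D : Fin n → Set ↑(f.fiber y) := fun i => (f.fiberι y).base ⁻¹' Z i
  have hDc : ∀ i, IsClopen (D i) := fun i => by
    refine ⟨(hZ i).preimage (f.fiberι y).continuous, ?_⟩
    have : (D i)ᶜ = ⋃ j ∈ ({i}ᶜ : Set (Fin n)), D j := by
      ext w
      simp only [Set.mem_compl_iff, Set.mem_iUnion]
      constructor
      · intro hw
        obtain ⟨j, hj⟩ := hcov ((f.fiberι y).base w) (by rw [hfib]; exact hy)
        exact ⟨j, fun hji : j = i => hw (hji ▸ hj), hj⟩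
      · rintro ⟨j, hji, hj⟩ hi
        exact hZd j i (hdisj j i hji) _ (by rw [hfib]; exact hy) hj hi
    rw [← isClosed_compl_iff, this]
    exact (Set.toFinite _).isClosed_biUnion fun j _ => (hZ j).preimage (f.fiberι y).continuous
  have hne : ∀ i, ∃ w, w ∈ D i := fun i => by
    obtain ⟨x, hx, hxy, -⟩ := hirr i y hy
    obtain ⟨w, rfl⟩ : x ∈ Set.range (f.fiberι y).base := by rw [Scheme.Hom.range_fiberι]; exact hxy
    exact ⟨w, hx⟩
  choose w hw using hne
  let φ : Fin n → _root_.ConnectedComponents ↑(f.fiber y) := fun i => ConnectedComponents.mk (w i)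
  have hφ : Function.Injective φ := fun i j hij => by
    by_contra hne
    have hj : w j ∈ D i := (hDc i).connectedComponent_subset (hw i) (ConnectedComponents.coe_eq_coe'.mp hij.symm)
    exact hZd i j (hdisj i j hne) _ (by rw [hfib]; exact hy) hj (hw j)
  calc (n : ℕ∞) = ENat.card (Fin n) := by simp
    _ ≤ ENat.card (_root_.ConnectedComponents ↑(f.fiber y)) := ENat.card_le_card_of_injective hφ

end Groth.GeomComp
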