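import Groth.Agent.GeomComp.SectionModel
import Groth.Agent.FlatMorOne.DVRConnected
import Groth.Agent.Limits.DVRPoints
import Groth.Agent.EGA43Topo.OpenAt
import Groth.Agent.GrpschAbsch.H0General
import Groth.Agent.Flatmor4.GeomDescent
import Mathlib

/-!
Section components are a neighbourhood of the component through the section when the fibre is geometrically reduced.
-/

set_option autoImplicit false
universe u

open AlgebraicGeometry CategoryTheory Limits Topology TopologicalSpace Groth.SpectralTopology

namespace Groth.GeomComp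

theorem connectedComponentIn_eq_image_fiber {X Y : Scheme.{u}} (f : X ⟶ Y) (y : Y) (w : f.fiber y) :
    connectedComponentIn (f.base ⁻¹' {y}) ((f.fiberι y).base w) = (f.fiberι y).base '' connectedComponent w := by
  rw [← f.range_fiberι y]
  exact Groth.GrpschAbsch.NeutralSet.connectedComponentIn_range (f.fiberι y).isEmbedding w

/-- Over a discrete valuation ring with reduced closed fibre, two points of the generic fibre lying in a connected
open flat part lie in the same component of the generic fibre. -/
theorem mem_connectedComponentIn_generic {R : Type u} [CommRing R] [IsDomain R] [IsDiscreteValuationRing R]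
    {X : Scheme.{u}} (f : X ⟶ Spec (CommRingCat.of R)) (W : X.Opens) (hW : _root_.IsConnected (W : Set X))
    [Flat (W.ι ≫ f)] (hred : IsReduced (f.fiber (IsLocalRing.closedPoint R))) {a b : X} (ha : a ∈ W) (hb : b ∈ W)
    (ha' : f.base a = (⟨⊥, Ideal.isPrime_bot⟩ : PrimeSpectrum R))
    (hb' : f.base b = (⟨⊥, Ideal.isPrime_bot⟩ : PrimeSpectrum R)) :
    b ∈ connectedComponentIn (f.base ⁻¹' {f.base a}) a := by
  haveI : ConnectedSpace ↥(W : Scheme.{u}) := isConnected_iff_connectedSpace.mp hW
  haveI hc := Groth.FlatMorOne.connectedSpace_generic_fiber (W.ι ≫ f)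
    (Groth.FlatMorOne.isReduced_fiber_of_isOpenImmersion W.ι f _ hred)
  let g := W.ι ≫ f
  let η : Spec (CommRingCat.of R) := (⟨⊥, Ideal.isPrime_bot⟩ : PrimeSpectrum R)
  let S : Set X := W.ι.base '' Set.range (g.fiberι η).base
  have hS : _root_.IsConnected S := by
    haveI : ConnectedSpace ↥(g.fiber η) := hc
    exact ((isConnected_range (g.fiberι η).continuous)).image _ W.ι.continuous.continuousOn
  have hmem : ∀ c ∈ W, f.base c = η → c ∈ S := fun c hc hcf => by
    obtain ⟨c', rfl⟩ : c ∈ Set.range W.ι.base := by rw [Scheme.Opens.range_ι]; exact hc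
    refine ⟨c', ?_, rfl⟩
    rw [Scheme.Hom.range_fiberι]
    exact (Scheme.Hom.comp_apply _ _ _).trans hcf
  have hsub : S ⊆ f.base ⁻¹' {f.base a} := by
    rintro _ ⟨c, hc, rfl⟩
    rw [Scheme.Hom.range_fiberι] at hc
    show f.base (W.ι.base c) = f.base a
    rw [← Scheme.Hom.comp_apply, ha']
    exact hc
  exact hS.isPreconnected.subset_connectedComponentIn (hmem a ha ha') hsub (hmem b hb hb')

/-- The section components are stable under generisation at a point with flatness and geometrically reduced fibre. -/
theorem mem_of_specializes {X S : Scheme.{u}} [IsLocallyNoetherian S] (f : X ⟶ S) (s : S ⟶ X) (hs : s ≫ f = 𝟙 S)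
    [LocallyOfFiniteType f] {x x' : X}
    (hflat : ∀ (R : Type u) [CommRing R] [IsDomain R] [IsDiscreteValuationRing R] (h : Spec (CommRingCat.of R) ⟶ S),
      h.base (IsLocalRing.closedPoint R) = f.base x → Flat (pullback.snd f h))
    (hsp : x' ⤳ x) (hx : x ∈ MoreMor.sectionComponents f s)
    (hy : GeometricallyReduced (f.fiberToSpecResidueField (f.base x))) : x' ∈ MoreMor.sectionComponents f s := by
  by_cases hne : x' = x
  · exact hne ▸ hx
  haveI : IsLocallyNoetherian X := LocallyOfFiniteType.isLocallyNoetherian f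
  obtain ⟨A, h, hA, hcl, hgen⟩ := Groth.Limits.exists_dvr_residueField (𝟙 X) x' x
    (by simpa using hsp) (fun e => hne (by simpa using e.symm))
  haveI := hA
  let bot : Spec (CommRingCat.of A) := (⟨⊥, Ideal.isPrime_bot⟩ : PrimeSpectrum A)
  let cl : Spec (CommRingCat.of A) := IsLocalRing.closedPoint A
  have hbot : h.base bot = x' := by
    have e := congrArg (fun m : Spec (X.residueField x') ⟶ X => m.base (IsLocalRing.closedPoint (X.residueField x'))) hgen
    simp only [Scheme.Hom.comp_apply, Scheme.fromSpecResidueField_apply] at e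
    refine Eq.trans (congrArg h.base ?_) e
    refine PrimeSpectrum.ext ?_
    show (⊥ : Ideal A) = (IsLocalRing.maximalIdeal (X.residueField x')).comap A.subtype
    rw [IsLocalRing.maximalIdeal_eq_bot]
    exact ((RingHom.injective_iff_ker_eq_bot _).mp Subtype.val_injective).symm
  let z := h ≫ f
  let fA := pullback.snd f z
  let σ : Spec (CommRingCat.of A) ⟶ pullback f z :=
    pullback.lift (z ≫ s) (𝟙 _) (by rw [Category.assoc, hs, Category.comp_id, Category.id_comp])
  let τ : Spec (CommRingCat.of A) ⟶ pullback f z := pullback.lift h (𝟙 _) (Category.id_comp _).symm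
  have hσ : σ ≫ fA = 𝟙 _ := pullback.lift_snd _ _ _
  have hτ : ∀ p, fA.base (τ.base p) = p := fun p => by
    rw [← Scheme.Hom.comp_apply, pullback.lift_snd]; rfl
  have hσp : ∀ p, fA.base (σ.base p) = p := fun p => by
    rw [← Scheme.Hom.comp_apply, pullback.lift_snd]; rfl
  have hSC := Groth.GrpschAbsch.SectionComp.preimage_sectionComponents hs (IsPullback.of_hasPullback f z) hσ
    (pullback.lift_fst _ _ _)
  have hτfst : ∀ p, (pullback.fst f z).base (τ.base p) = h.base p := fun p => by
    rw [← Scheme.Hom.comp_apply, pullback.lift_fst]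
  have hτcl : τ.base cl ∈ MoreMor.sectionComponents fA σ := by
    rw [hSC, Set.mem_preimage, hτfst]
    exact hcl.symm ▸ hx
  haveI : LocallyOfFiniteType fA := MorphismProperty.pullback_snd _ _ inferInstance
  haveI : Flat fA := hflat A z (by
    show f.base (h.base (IsLocalRing.closedPoint A)) = f.base x
    rw [hcl])
  haveI : IsLocallyNoetherian (pullback f z) := LocallyOfFiniteType.isLocallyNoetherian fA
  haveI := Groth.SGA7.IdComponent.locallyConnectedSpace (X := pullback f z)
  let W : (pullback f z).Opens := ⟨connectedComponent (σ.base cl), isOpen_connectedComponent⟩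
  have hσW : σ.base cl ∈ W := mem_connectedComponent
  have hτW : τ.base cl ∈ W := by
    have h1 : τ.base cl ∈ connectedComponentIn (fA.base ⁻¹' {fA.base (τ.base cl)}) (σ.base (fA.base (τ.base cl))) := hτcl
    rw [hτ] at h1
    exact (isPreconnected_connectedComponentIn.subset_connectedComponent (mem_connectedComponentIn (F := fA.base ⁻¹' {cl})
      (show σ.base cl ∈ fA.base ⁻¹' {cl} from hσp cl))) h1
  have hsp' : bot ⤳ cl := (PrimeSpectrum.le_iff_specializes (⟨⊥, Ideal.isPrime_bot⟩ : PrimeSpectrum A) _).mp bot_le
  have hredc : IsReduced (fA.fiber cl) := by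
    have h1 : GeometricallyReduced (fA.fiberToSpecResidueField cl) := by
      have h2 : z.base cl = f.base x := by rw [Scheme.Hom.comp_apply, hcl]
      rw [GeometricallyReduced.eq_geometrically,
        Groth.Flatmor4.fibre_iff_of_isPullback (fun q => Groth.Flatmor4.isReduced_of_flat_of_surjective q) f z fA
          (pullback.fst f z) (IsPullback.of_hasPullback f z) cl, h2, ← GeometricallyReduced.eq_geometrically]
      exact hy
    haveI : Subsingleton ↥(Spec ((Spec (CommRingCat.of A)).residueField cl)) :=
      inferInstanceAs (Subsingleton (PrimeSpectrum _))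
    exact self_of_isIntegral_of_geometrically h1.geometrically_isReduced
  have key := mem_connectedComponentIn_generic fA W isConnected_connectedComponent hredc
    ((hsp'.map σ.continuous).mem_open W.isOpen hσW) ((hsp'.map τ.continuous).mem_open W.isOpen hτW) (hσp bot) (hτ bot)
  have h3 : τ.base bot ∈ MoreMor.sectionComponents fA σ := by
    show τ.base bot ∈ connectedComponentIn (fA.base ⁻¹' {fA.base (τ.base bot)}) (σ.base (fA.base (τ.base bot)))
    rw [hτ]
    rw [hσp] at key
    exact key
  rw [hSC, Set.mem_preimage, hτfst, hbot] at h3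
  exact h3

theorem mem_nhds_of_generalizing {X : Scheme.{u}} [AlgebraicGeometry.IsNoetherian X] {E : Set X}
    (hE : IsConstructible E) {x : X} (h : ∀ x', x' ⤳ x → x' ∈ E) : E ∈ nhds x := by
  obtain ⟨W, hW, hxW, -⟩ := exists_isAffineOpen_mem_and_subset (U := ⊤) (Set.mem_univ x)
  obtain ⟨p, rfl⟩ : x ∈ Set.range hW.fromSpec.base := hW.range_fromSpec.ge hxW
  have hc : IsConstructible (X := PrimeSpectrum Γ(X, W)) (hW.fromSpec.base ⁻¹' E) :=
    (hE.isLocallyConstructible.preimage_of_isOpenEmbedding hW.fromSpec.isOpenEmbedding).isConstructible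
  have := Groth.EGA43Topo.mem_nhds_of_isConstructible hc (p := p) fun q hq => h _ (hq.map hW.fromSpec.continuous)
  exact Filter.mem_of_superset (hW.fromSpec.isOpenEmbedding.isOpenMap.image_mem_nhds this)
    (Set.image_preimage_subset _ _)

/-- Openness of section components over a Noetherian base, with flatness only after base change to discrete
valuation rings. -/
theorem component_subset_interior_noetherian {X S : Scheme.{u}} [AlgebraicGeometry.IsNoetherian S] (f : X ⟶ S)
    (s : S ⟶ X) (hs : s ≫ f = 𝟙 S) [LocallyOfFiniteType f] [QuasiCompact f] (y : S)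
    (hflat : ∀ (R : Type u) [CommRing R] [IsDomain R] [IsDiscreteValuationRing R] (h : Spec (CommRingCat.of R) ⟶ S),
      h.base (IsLocalRing.closedPoint R) = y → Flat (pullback.snd f h))
    (hy : GeometricallyReduced (f.fiberToSpecResidueField y)) :
    connectedComponentIn (f.base ⁻¹' {y}) (s.base y) ⊆ interior (MoreMor.sectionComponents f s) := by
  intro x hx
  obtain rfl : f.base x = y := connectedComponentIn_subset (f.base ⁻¹' {y}) (s.base y) hx
  haveI : IsLocallyNoetherian X := LocallyOfFiniteType.isLocallyNoetherian f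
  haveI : CompactSpace X := QuasiCompact.compactSpace_of_compactSpace f
  haveI : AlgebraicGeometry.IsNoetherian X := { }
  exact mem_interior_iff_mem_nhds.mpr (mem_nhds_of_generalizing (isConstructible_sectionComponents f s hs)
    (fun x' h' => mem_of_specializes f s hs (fun R _ _ _ h he => hflat R h he) h' hx hy))

theorem exists_flat_section_model {A : CommRingCat.{u}} {X : Scheme.{u}} (f : X ⟶ (fgCone A).pt)
    (s : (fgCone A).pt ⟶ X) (hs : s ≫ f = 𝟙 _) [LocallyOfFinitePresentation f] [QuasiCompact f] [QuasiSeparated f]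
    [Flat f] :
    ∃ (k : (FGSub A)ᵒᵖ) (M : StageModel f k) (s₀ : (fgSchemes A).obj k ⟶ M.obj),
      Flat M.hom ∧ s₀ ≫ M.hom = 𝟙 _ ∧ s ≫ M.map = (fgCone A).π.app k ≫ s₀ := by
  obtain ⟨i, M, s₀, hs₀, hc⟩ := exists_section_model f s hs
  have hsnd : M.sq.isoPullback.inv ≫ f = pullback.snd M.hom ((fgCone A).π.app i) := M.sq.isoPullback_inv_snd
  haveI := QuasiCompact.compactSpace_of_compactSpace M.hom
  obtain ⟨k, χ, hk⟩ := Groth.GrpschAbsch.H0General.exists_flat_fgStage (X₀ := M.obj) M.hom (by rw [← hsnd]; infer_instance)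
  refine ⟨k, M.pull χ, pullback.lift (𝟙 _) ((fgSchemes A).map χ ≫ s₀)
    (by rw [Category.assoc, hs₀, Category.comp_id, Category.id_comp]),
    (Groth.GrpschAbsch.H0General.flat_pullback_fst_iff M.hom _).mpr hk, pullback.lift_fst _ _ _, ?_⟩
  apply pullback.hom_ext
  · rw [Category.assoc, pullback.lift_fst, Category.assoc, pullback.lift_fst, Category.comp_id, ← Category.assoc, hs,
      Category.id_comp]
  · rw [Category.assoc, pullback.lift_snd, Category.assoc, pullback.lift_snd, hc, ← Category.assoc, (fgCone A).w]

/-- **Openness of section components**, general form. -/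
theorem component_subset_interior {X Y : Scheme.{u}} (f : X ⟶ Y) (s : Y ⟶ X) (hs : s ≫ f = 𝟙 Y)
    [LocallyOfFinitePresentation f] [QuasiCompact f] [QuasiSeparated f] [Flat f] (y : Y)
    (hy : GeometricallyReduced (f.fiberToSpecResidueField y)) :
    connectedComponentIn (f.base ⁻¹' {y}) (s.base y) ⊆ interior (MoreMor.sectionComponents f s) := by
  intro x hx
  have hfx : f.base x = y := connectedComponentIn_subset (f.base ⁻¹' {y}) (s.base y) hx
  obtain ⟨V, hV, hyV⟩ : ∃ V : Y.Opens, IsAffineOpen V ∧ y ∈ V := by
    obtain ⟨V, hV', h1, -⟩ := TopologicalSpace.Opens.isBasis_iff_nbhd.1 Y.isBasis_affineOpens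
      (TopologicalSpace.Opens.mem_top y)
    exact ⟨V, hV', h1⟩
  let A : CommRingCat.{u} := Γ(Y, V)
  let f' : pullback f hV.fromSpec ⟶ (fgCone A).pt := pullback.snd f hV.fromSpec
  let s' : (fgCone A).pt ⟶ pullback f hV.fromSpec :=
    pullback.lift (hV.fromSpec ≫ s) (𝟙 _) (by rw [Category.assoc, hs, Category.comp_id]; exact (Category.id_comp _).symm)
  have hs' : s' ≫ f' = 𝟙 _ := pullback.lift_snd _ _ _
  haveI : LocallyOfFinitePresentation f' := MorphismProperty.pullback_snd _ _ inferInstance
  haveI : QuasiCompact f' := MorphismProperty.pullback_snd _ _ inferInstance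
  haveI : QuasiSeparated f' := MorphismProperty.pullback_snd _ _ inferInstance
  haveI : Flat f' := MorphismProperty.pullback_snd _ _ inferInstance
  obtain ⟨k, M, s₀, hflat, hs₀, hcomp⟩ := exists_flat_section_model f' s' hs'
  have e1 := Groth.GrpschAbsch.SectionComp.preimage_sectionComponents hs (IsPullback.of_hasPullback f hV.fromSpec)
    hs' (pullback.lift_fst _ _ _)
  have e2 := Groth.GrpschAbsch.SectionComp.preimage_sectionComponents hs₀ M.sq hs' hcomp
  let q := pullback.fst f hV.fromSpec
  obtain ⟨w, rfl⟩ : x ∈ Set.range q.base := by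
    rw [Scheme.Pullback.range_fst, hV.range_fromSpec]
    show f.base x ∈ V
    rw [hfx]; exact hyV
  have hx' : q.base w ∈ MoreMor.sectionComponents f s := by
    show _ ∈ connectedComponentIn _ _
    rw [hfx]; exact hx
  have hw0 : M.map.base w ∈ MoreMor.sectionComponents M.hom s₀ :=
    (Set.ext_iff.mp e2 w).mp ((Set.ext_iff.mp e1 w).mpr hx')
  have hy0 : GeometricallyReduced (M.hom.fiberToSpecResidueField (M.hom.base (M.map.base w))) := by
    have h1 : M.hom.base (M.map.base w) = ((fgCone A).π.app k).base (f'.base w) := by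
      rw [← Scheme.Hom.comp_apply, ← Scheme.Hom.comp_apply, M.sq.w]
    have h2 : hV.fromSpec.base ((pullback.snd f hV.fromSpec).base w) = y :=
      (congrArg (fun m : pullback f hV.fromSpec ⟶ Y => m.base w) pullback.condition).symm.trans hfx
    have h3 : GeometricallyReduced
        ((pullback.snd f hV.fromSpec).fiberToSpecResidueField ((pullback.snd f hV.fromSpec).base w)) := by
      rw [GeometricallyReduced.eq_geometrically,
        Groth.Flatmor4.fibre_iff_of_isPullback (fun q => Groth.Flatmor4.isReduced_of_flat_of_surjective q) f hV.fromSpec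
          _ q (IsPullback.of_hasPullback f hV.fromSpec), h2, ← GeometricallyReduced.eq_geometrically]
      exact hy
    rw [GeometricallyReduced.eq_geometrically, h1]
    rw [GeometricallyReduced.eq_geometrically] at h3
    exact (Groth.Flatmor4.fibre_iff_of_isPullback (fun q => Groth.Flatmor4.isReduced_of_flat_of_surjective q) M.hom
        ((fgCone A).π.app k) f' M.map M.sq _).mp h3
  haveI := hflat
  haveI : LocallyOfFiniteType M.hom := inferInstance
  haveI : IsLocallyNoetherian M.obj := LocallyOfFiniteType.isLocallyNoetherian M.hom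
  haveI : CompactSpace M.obj := QuasiCompact.compactSpace_of_compactSpace M.hom
  haveI : AlgebraicGeometry.IsNoetherian M.obj := { }
  have hn := mem_nhds_of_generalizing (isConstructible_sectionComponents M.hom s₀ hs₀)
    (fun x' h' => mem_of_specializes M.hom s₀ hs₀
      (fun R _ _ _ h _ => MorphismProperty.pullback_snd _ _ inferInstance) h' hw0 hy0)
  refine mem_interior_iff_mem_nhds.mpr (Filter.mem_of_superset
    (q.isOpenEmbedding.isOpenMap.image_mem_nhds (M.map.continuous.continuousAt.preimage_mem_nhds hn)) ?_)
  rintro _ ⟨v, hv, rfl⟩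
  exact (Set.ext_iff.mp e1 v).mp ((Set.ext_iff.mp e2 v).mpr hv)

end Groth.GeomComp
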