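import Groth.Agent.GeomComp.SteinCount
import Groth.Agent.GeomComp.Constructible
import Groth.Agent.GeomComp.SectionOpen
import Groth.Agent.Ega43DVR.Reduced
import Groth.Agent.EGA43Topo.DVRCriterion
import Groth.Agent.EGA43Topo.FlatUnivOpen
import Groth.Agent.GrpschAbsch.H0General
import Groth.Agent.PropsBasic2.Reduced
import Mathlib

/-!
Semicontinuity of the geometric number of connected components of proper morphisms.
-/

set_option autoImplicit false
universe u

open AlgebraicGeometry CategoryTheory Limits Topology TopologicalSpace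

namespace Groth.GeomComp

theorem nGeomConnComp_comp_surjective_closedImmersion {X' X S : Scheme.{u}} (i : X' ⟶ X) [IsClosedImmersion i]
    [Surjective i] (f : X ⟶ S) (s : S) : MoreMor.nGeomConnComp (i ≫ f) s = MoreMor.nGeomConnComp f s := by
  let t := Spec.map (CommRingCat.ofHom (algebraMap (S.residueField s) (SeparableClosure (S.residueField s))))
  let z := t ≫ S.fromSpecResidueField s
  have hz : z.base (IsLocalRing.closedPoint (SeparableClosure (S.residueField s))) = s :=
    (Scheme.Hom.comp_apply _ _ _).trans (S.fromSpecResidueField_apply s _)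
  rw [(nGeomComp_eq (i ≫ f) s z hz).2, (nGeomComp_eq f s z hz).2]
  let j : pullback (i ≫ f) z ⟶ pullback f z := (pullbackRightPullbackFstIso f z i).inv ≫ pullback.snd i _
  haveI : IsClosedImmersion (pullback.snd i (pullback.fst f z)) := MorphismProperty.pullback_snd _ _ inferInstance
  haveI : Surjective (pullback.snd i (pullback.fst f z)) := MorphismProperty.pullback_snd _ _ inferInstance
  exact connectedComponents_card_of_homeomorph (Equiv.toHomeomorphOfIsInducing
    (Equiv.ofBijective j.base ⟨j.isClosedEmbedding.injective, j.surjective⟩) j.isClosedEmbedding.isInducing)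

/-- A reduced scheme over a discrete valuation ring all of whose points generise to the generic fibre is flat. -/
theorem flat_of_isReduced_of_generizes {R : Type u} [CommRing R] [IsDomain R] [IsDiscreteValuationRing R]
    {X : Scheme.{u}} [IsReduced X] (f : X ⟶ Spec (CommRingCat.of R))
    (h : ∀ x : X, ∃ w : X, w ⤳ x ∧ f.base w = (⟨⊥, Ideal.isPrime_bot⟩ : PrimeSpectrum R)) : Flat f := by
  rw [HasRingHomProperty.iff_of_source_openCover (P := @Flat) X.affineCover]
  intro i
  let g := X.affineCover.f i ≫ f
  obtain ⟨π, hπ⟩ := IsDiscreteValuationRing.exists_irreducible R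
  show g.appTop.hom.Flat
  have key : ((Scheme.ΓSpecIso (CommRingCat.of R)).inv ≫ g.appTop).hom.Flat := by
    haveI : IsReduced (X.affineCover.X i) := isReduced_of_isOpenImmersion (X.affineCover.f i)
    refine Groth.Ega43DVR.flat_of_regular _ hπ fun b hb => (basicOpen_eq_bot_iff b).mp ?_
    rw [eq_bot_iff]
    intro z hz
    obtain ⟨w, hw, hwη⟩ := h ((X.affineCover.f i).base z)
    obtain ⟨w', rfl⟩ : w ∈ Set.range (X.affineCover.f i).base :=
      hw.mem_open (X.affineCover.f i).isOpenEmbedding.isOpen_range ⟨z, rfl⟩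
    have hw' : w' ⤳ z := (X.affineCover.f i).isOpenEmbedding.isInducing.specializes_iff.mp hw
    have h1 : w' ∈ (X.affineCover.X i).basicOpen b := hw'.mem_open ((X.affineCover.X i).basicOpen b).isOpen hz
    have h2 : g.base w' ∈ (Spec (CommRingCat.of R)).basicOpen ((Scheme.ΓSpecIso (CommRingCat.of R)).inv π) := by
      rw [basicOpen_eq_of_affine, show g.base w' = (⟨⊥, Ideal.isPrime_bot⟩ : PrimeSpectrum R) from hwη]
      exact fun hmem => hπ.ne_zero (by simpa using hmem)
    have h3 : w' ∈ (X.affineCover.X i).basicOpen (g.appTop ((Scheme.ΓSpecIso (CommRingCat.of R)).inv π) * b) := by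
      rw [Scheme.basicOpen_mul]
      refine ⟨?_, h1⟩
      rw [← Scheme.preimage_basicOpen_top]
      exact h2
    change w' ∈ (X.affineCover.X i).basicOpen (((Scheme.ΓSpecIso (CommRingCat.of R)).inv ≫ g.appTop).hom π * b) at h3
    rw [hb, Scheme.basicOpen_zero] at h3
    exact h3
  have h4 := (RingHom.Flat.of_bijective (ConcreteCategory.bijective_of_isIso
    (Scheme.ΓSpecIso (CommRingCat.of R)).hom)).comp key
  rwa [← CommRingCat.hom_comp, Iso.hom_inv_id_assoc] at h4

/-- Semicontinuity and constancy for proper morphisms over a Noetherian base, in terms of discrete valuation rings. -/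
theorem eventually_nGeomConnComp {X S : Scheme.{u}} [IsLocallyNoetherian S] (f : X ⟶ S) [IsProper f] (y : S)
    (hle : ∀ (R : Type u) [CommRing R] [IsDomain R] [IsDiscreteValuationRing R] (h : Spec (CommRingCat.of R) ⟶ S),
      h.base (IsLocalRing.closedPoint R) = y →
      MoreMor.nGeomConnComp (pullback.snd f h) (IsLocalRing.closedPoint R) ≤
        MoreMor.nGeomConnComp (pullback.snd f h) (⟨⊥, Ideal.isPrime_bot⟩ : PrimeSpectrum R)) :
    (∀ᶠ z in nhds y, MoreMor.nGeomConnComp f y ≤ MoreMor.nGeomConnComp f z) ∧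
      ((∀ (R : Type u) [CommRing R] [IsDomain R] [IsDiscreteValuationRing R] (h : Spec (CommRingCat.of R) ⟶ S),
        h.base (IsLocalRing.closedPoint R) = y →
        MoreMor.nGeomConnComp (pullback.snd f h) (⟨⊥, Ideal.isPrime_bot⟩ : PrimeSpectrum R) ≤
          MoreMor.nGeomConnComp (pullback.snd f h) (IsLocalRing.closedPoint R)) →
        ∀ᶠ z in nhds y, MoreMor.nGeomConnComp f z = MoreMor.nGeomConnComp f y) := by
  haveI : LocallyOfFinitePresentation f := inferInstance
  obtain ⟨m, hm⟩ := ENat.ne_top_iff_exists.mp (Groth.Agent.S7838.result f y).1.ne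
  have hlev : ∀ n : ℕ∞, IsLocallyConstructible {z : S | MoreMor.nGeomConnComp f z = n} := fun n =>
    (isLocallyConstructible_level f n).2
  obtain ⟨W, hW, hyW, -⟩ := exists_isAffineOpen_mem_and_subset (U := ⊤) (Set.mem_univ y)
  haveI : CompactSpace (W : Scheme.{u}) := isCompact_iff_compactSpace.mp hW.isCompact
  haveI : IsLocallyNoetherian (W : Scheme.{u}) := isLocallyNoetherian_of_isOpenImmersion W.ι
  haveI : AlgebraicGeometry.IsNoetherian (W : Scheme.{u}) := { }
  have nhd : ∀ E : Set S, IsLocallyConstructible E → (∀ y', y' ⤳ y → y' ∈ E) → E ∈ nhds y := fun E hE h => by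
    have h1 := mem_nhds_of_generalizing (X := (W : Scheme.{u})) (E := W.ι.base ⁻¹' E)
      (hE.preimage_of_isOpenEmbedding W.ι.isOpenEmbedding).isConstructible (x := ⟨y, hyW⟩)
      (fun q hq => h _ (hq.map W.ι.continuous))
    exact Filter.mem_of_superset (W.ι.isOpenEmbedding.isOpenMap.image_mem_nhds h1) (Set.image_preimage_subset _ _)
  have key : ∀ y', y' ⤳ y → MoreMor.nGeomConnComp f y ≤ MoreMor.nGeomConnComp f y' ∧
      ((∀ (R : Type u) [CommRing R] [IsDomain R] [IsDiscreteValuationRing R] (h : Spec (CommRingCat.of R) ⟶ S),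
        h.base (IsLocalRing.closedPoint R) = y →
        MoreMor.nGeomConnComp (pullback.snd f h) (⟨⊥, Ideal.isPrime_bot⟩ : PrimeSpectrum R) ≤
          MoreMor.nGeomConnComp (pullback.snd f h) (IsLocalRing.closedPoint R)) →
        MoreMor.nGeomConnComp f y' = MoreMor.nGeomConnComp f y) := by
    intro y' hsp
    by_cases hne : y' = y
    · subst hne; exact ⟨le_rfl, fun _ => rfl⟩
    obtain ⟨A, h, hA, hcl, hgen⟩ := Groth.Limits.exists_dvr_residueField (𝟙 S) y' y
      (by simpa using hsp) (fun e => hne (by simpa using e.symm))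
    haveI := hA
    have hbot : h.base (⟨⊥, Ideal.isPrime_bot⟩ : PrimeSpectrum A) = y' := by
      have e := congrArg (fun m : Spec (S.residueField y') ⟶ S => m.base (IsLocalRing.closedPoint (S.residueField y'))) hgen
      simp only [Scheme.Hom.comp_apply, Scheme.fromSpecResidueField_apply] at e
      refine Eq.trans (congrArg h.base ?_) e
      refine PrimeSpectrum.ext ?_
      show (⊥ : Ideal A) = (IsLocalRing.maximalIdeal (S.residueField y')).comap A.subtype
      rw [IsLocalRing.maximalIdeal_eq_bot]
      exact ((RingHom.injective_iff_ker_eq_bot _).mp Subtype.val_injective).symm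
    have e : ∀ p, MoreMor.nGeomConnComp (pullback.snd f h) p = MoreMor.nGeomConnComp f (h.base p) := fun p =>
      (nGeomComp_baseChange f (pullback.snd f h) (pullback.fst f h) h (IsPullback.of_hasPullback f h) p).2
    have h1 := hle A h hcl
    rw [e, e, hcl, hbot] at h1
    refine ⟨h1, fun hge => le_antisymm ?_ h1⟩
    have h2 := hge A h hcl
    rwa [e, e, hcl, hbot] at h2
  refine ⟨?_, fun hge => ?_⟩
  · have hE : IsLocallyConstructible {z : S | MoreMor.nGeomConnComp f y ≤ MoreMor.nGeomConnComp f z} := by
      have : {z : S | MoreMor.nGeomConnComp f y ≤ MoreMor.nGeomConnComp f z} =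
          (⋃ j : Fin m, {z : S | MoreMor.nGeomConnComp f z = (j : ℕ)})ᶜ := by
        ext z
        simp only [Set.mem_setOf_eq, Set.mem_compl_iff, Set.mem_iUnion, not_exists, ← hm]
        refine ⟨fun h j hj => ?_, fun h => ?_⟩
        · rw [hj] at h
          exact absurd (ENat.coe_le_coe.mp h) (not_le.mpr j.2)
        · by_contra hlt
          rw [not_le] at hlt
          obtain ⟨j, hj⟩ := ENat.ne_top_iff_exists.mp hlt.ne_top
          exact h ⟨j, by rw [← hj] at hlt; exact_mod_cast hlt⟩ hj.symm
      rw [this]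
      intro z
      obtain ⟨U, hU, hUo, hc⟩ := (IsLocallyConstructible.iUnion fun j : Fin m => hlev ((j : ℕ) : ℕ∞)) z
      exact ⟨U, hU, hUo, hc.compl⟩
    exact nhd _ hE fun y' hy' => (key y' hy').1
  · exact nhd _ (hlev _) fun y' hy' => (key y' hy').2 hge

theorem geometricallyReduced_fiber_pullback {X S T : Scheme.{u}} (f : X ⟶ S) (h : T ⟶ S) (p : T)
    (hy : GeometricallyReduced (f.fiberToSpecResidueField (h.base p))) :
    GeometricallyReduced ((pullback.snd f h).fiberToSpecResidueField p) := by
  rw [GeometricallyReduced.eq_geometrically,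
    Groth.Flatmor4.fibre_iff_of_isPullback (fun q => Groth.Flatmor4.isReduced_of_flat_of_surjective q) f h
      (pullback.snd f h) (pullback.fst f h) (IsPullback.of_hasPullback f h) p, ← GeometricallyReduced.eq_geometrically]
  exact hy

/-- The flat case over a Noetherian base. -/
theorem eventually_nGeomConnComp_of_flat {X S : Scheme.{u}} [IsLocallyNoetherian S] (f : X ⟶ S) [IsProper f] (y : S)
    (hflat : ∀ (R : Type u) [CommRing R] [IsDomain R] [IsDiscreteValuationRing R] (h : Spec (CommRingCat.of R) ⟶ S),
      h.base (IsLocalRing.closedPoint R) = y → Flat (pullback.snd f h)) :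
    (∀ᶠ z in nhds y, MoreMor.nGeomConnComp f y ≤ MoreMor.nGeomConnComp f z) ∧
      (GeometricallyReduced (f.fiberToSpecResidueField y) →
        ∀ᶠ z in nhds y, MoreMor.nGeomConnComp f z = MoreMor.nGeomConnComp f y) := by
  obtain ⟨h1, h2⟩ := eventually_nGeomConnComp f y fun R _ _ _ h hh =>
    haveI := hflat R h hh
    nGeomConnComp_closed_le (pullback.snd f h)
  refine ⟨h1, fun hy => h2 fun R _ _ _ h hh => ?_⟩
  haveI := hflat R h hh
  exact nGeomConnComp_le_closed (pullback.snd f h) (geometricallyReduced_fiber_pullback f h _ (hh ▸ hy))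

/-- Universal openness along the fibre suffices for semicontinuity. -/
theorem eventually_le_nGeomConnComp_of_univOpen {X S : Scheme.{u}} [IsLocallyNoetherian S] (f : X ⟶ S) [IsProper f]
    (y : S) (hu : ∀ x : X, f.base x = y → EGA43.IsUnivOpenAt f x) :
    ∀ᶠ z in nhds y, MoreMor.nGeomConnComp f y ≤ MoreMor.nGeomConnComp f z := by
  refine (eventually_nGeomConnComp f y fun R _ _ _ h hh => ?_).1
  let I := Scheme.IdealSheafData.vanishingIdeal (X := pullback f h) ⊤
  let i := I.subschemeι
  haveI : IsReduced I.subscheme := Groth.PropsBasic2.isReduced_vanishingIdeal_subscheme _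
  haveI : Surjective i := ⟨fun x => by
    have : x ∈ Set.range i.base := by
      rw [Scheme.IdealSheafData.range_subschemeι, Scheme.IdealSheafData.coe_support_vanishingIdeal]
      exact Set.mem_univ x
    exact this⟩
  haveI : IsProper (i ≫ pullback.snd f h) := inferInstance
  haveI : Flat (i ≫ pullback.snd f h) := flat_of_isReduced_of_generizes _ fun x => by
    by_cases hx : (i ≫ pullback.snd f h).base x = (⟨⊥, Ideal.isPrime_bot⟩ : PrimeSpectrum R)
    · exact ⟨x, specializes_rfl, hx⟩
    · have hxc : (pullback.snd f h).base (i.base x) = IsLocalRing.closedPoint R := by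
        rw [← Scheme.Hom.comp_apply]
        refine PrimeSpectrum.ext (IsLocalRing.eq_maximalIdeal ?_)
        haveI := ((i ≫ pullback.snd f h).base x).isPrime
        exact Ideal.IsPrime.isMaximal inferInstance fun e => hx (PrimeSpectrum.ext e)
      have hxy : f.base ((pullback.fst f h).base (i.base x)) = y := by
        rw [← Scheme.Hom.comp_apply, pullback.condition, Scheme.Hom.comp_apply, hxc, hh]
      obtain ⟨w, hw, hwη⟩ := Groth.EGA43Topo.exists_specializes_of_isOpenAt (p := pullback.snd f h)
        (hu _ hxy _ h (i.base x) rfl) (z := (⟨⊥, Ideal.isPrime_bot⟩ : PrimeSpectrum R))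
        ((PrimeSpectrum.le_iff_specializes (⟨⊥, Ideal.isPrime_bot⟩ : PrimeSpectrum R) _).mp bot_le)
      obtain ⟨w', rfl⟩ := i.surjective w
      exact ⟨w', i.isClosedEmbedding.isInducing.specializes_iff.mp hw, hwη⟩
  rw [← nGeomConnComp_comp_surjective_closedImmersion i (pullback.snd f h),
    ← nGeomConnComp_comp_surjective_closedImmersion i (pullback.snd f h)]
  exact nGeomConnComp_closed_le (i ≫ pullback.snd f h)

/-- Proper flat finitely presented morphisms over an arbitrary base. -/
theorem eventually_nGeomConnComp_general {X S : Scheme.{u}} (f : X ⟶ S) [IsProper f] [Flat f]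
    [LocallyOfFinitePresentation f] (y : S) :
    (∀ᶠ z in nhds y, MoreMor.nGeomConnComp f y ≤ MoreMor.nGeomConnComp f z) ∧
      (GeometricallyReduced (f.fiberToSpecResidueField y) →
        ∀ᶠ z in nhds y, MoreMor.nGeomConnComp f z = MoreMor.nGeomConnComp f y) := by
  obtain ⟨W, hW, hyW, -⟩ := exists_isAffineOpen_mem_and_subset (U := ⊤) (Set.mem_univ y)
  obtain ⟨p, rfl⟩ : y ∈ Set.range hW.fromSpec.base := hW.range_fromSpec.ge hyW
  haveI : IsProper (pullback.snd f hW.fromSpec) := MorphismProperty.pullback_snd _ _ inferInstance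
  haveI : Flat (pullback.snd f hW.fromSpec) := MorphismProperty.pullback_snd _ _ inferInstance
  haveI : LocallyOfFinitePresentation (pullback.snd f hW.fromSpec) := MorphismProperty.pullback_snd _ _ inferInstance
  obtain ⟨S₀, X₀, hS₀, q, f₀, p₀, sq, hp₀, hfl₀, -⟩ :=
    Groth.GrpschAbsch.H0General.exists_model (pullback.snd f hW.fromSpec) 0
  haveI := hS₀
  haveI := hp₀
  have e1 : ∀ t, MoreMor.nGeomConnComp f (hW.fromSpec.base t) = MoreMor.nGeomConnComp f₀ (q.base t) := fun t => by
    rw [← (nGeomComp_baseChange f₀ (pullback.snd f hW.fromSpec) p₀ q sq t).2]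
    exact (nGeomComp_baseChange f _ _ _ (IsPullback.of_hasPullback f hW.fromSpec) t).2.symm
  have tr : ∀ P : ℕ∞ → Prop, (∀ᶠ z in nhds (q.base p), P (MoreMor.nGeomConnComp f₀ z)) →
      ∀ᶠ z in nhds (hW.fromSpec.base p), P (MoreMor.nGeomConnComp f z) := fun P hP => by
    have := q.continuous.continuousAt.eventually hP
    rw [← hW.fromSpec.isOpenEmbedding.map_nhds_eq p, Filter.eventually_map]
    exact this.mono fun t ht => (e1 t).symm ▸ ht
  obtain ⟨h1, h2⟩ := eventually_nGeomConnComp_of_flat f₀ (q.base p) fun R _ _ _ h _ =>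
    MorphismProperty.pullback_snd _ _ hfl₀
  refine ⟨?_, fun hy => ?_⟩
  · rw [e1]; exact tr (fun n => MoreMor.nGeomConnComp f₀ (q.base p) ≤ n) h1
  · rw [e1]
    refine tr (fun n => n = MoreMor.nGeomConnComp f₀ (q.base p)) (h2 ?_)
    have h3 := geometricallyReduced_fiber_pullback f hW.fromSpec p hy
    rw [GeometricallyReduced.eq_geometrically] at h3 ⊢
    exact (Groth.Flatmor4.fibre_iff_of_isPullback (fun q => Groth.Flatmor4.isReduced_of_flat_of_surjective q) f₀ q
      (pullback.snd f hW.fromSpec) p₀ sq p).mp h3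

end Groth.GeomComp

namespace Groth.GeomComp

/-- Over a discrete valuation ring every morphism is flat away from the closed fibre. -/
theorem flat_stalkMap_of_ne_closedPoint {R : Type u} [CommRing R] [IsDomain R] [IsDiscreteValuationRing R]
    {Z : Scheme.{u}} (g : Z ⟶ Spec (CommRingCat.of R)) (z : Z) (hz : g.base z ≠ IsLocalRing.closedPoint R) :
    (g.stalkMap z).hom.Flat := by
  have hbot : (g.base z).asIdeal = ⊥ := by
    by_contra hne
    haveI := (g.base z).isPrime
    exact hz (PrimeSpectrum.ext (IsLocalRing.eq_maximalIdeal (Ideal.IsPrime.isMaximal inferInstance hne)))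
  haveI : IsIntegral (Spec (CommRingCat.of R)) := inferInstance
  have hgen : g.base z = genericPoint ↥(Spec (CommRingCat.of R)) := by
    rw [genericPoint_eq_bot_of_affine]
    exact PrimeSpectrum.ext hbot
  have hF : IsField ((Spec (CommRingCat.of R)).presheaf.stalk (g.base z)) := by
    rw [hgen]
    exact Field.toIsField (Spec (CommRingCat.of R)).functionField
  letI := hF.toField
  letI := (g.stalkMap z).hom.toAlgebra
  exact RingHom.flat_algebraMap_iff.2 (inferInstance : Module.Flat _ _)

theorem flat_stalkMap_baseChange_of_good {X Y : Scheme.{u}} [IsLocallyNoetherian Y] (f : X ⟶ Y) [LocallyOfFiniteType f]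
    (y : Y) {R : Type u} [CommRing R] [IsDomain R] [IsDiscreteValuationRing R] (g : Spec (CommRingCat.of R) ⟶ Y)
    (hg : g.base (IsLocalRing.closedPoint R) = y)
    (hgood : ∀ x : X, f.base x = y → Groth.EGA43Topo.FlatUnivOpen.GoodFibre f x) (z : ↥(pullback f g)) :
    ((pullback.snd f g).stalkMap z).hom.Flat := by
  by_cases hz : (pullback.snd f g).base z = IsLocalRing.closedPoint R
  · have hx : f.base ((pullback.fst f g).base z) = y := by
      rw [← Scheme.Hom.comp_apply, pullback.condition, Scheme.Hom.comp_apply, hz, hg]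
    exact Groth.EGA43Topo.FlatUnivOpen.flat_stalkMap_baseChange_dvr f (hgood _ hx) g (hg.trans hx.symm) z
      specializes_rfl hz
  · exact flat_stalkMap_of_ne_closedPoint _ z hz

theorem isGeomReducedAt_asFiber {X Y : Scheme.{u}} (f : X ⟶ Y) (x : X)
    (h : GeometricallyReduced (f.fiberToSpecResidueField (f.base x))) :
    FBase.IsGeomReducedAt (f.fiberToSpecResidueField (f.base x)) (f.asFiber x) := by
  intro K _ _ x' _
  haveI : IsReduced (FBase.bc (f.fiberToSpecResidueField (f.base x)) K) :=
    h.geometrically_isReduced (Spec.map (CommRingCat.ofHom (algebraMap _ K))) _ _ (IsPullback.of_hasPullback _ _)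
  infer_instance

end Groth.GeomComp
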