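import Groth.Agent.FBaseGeom.PtIntegral
import Groth.Agent.PropsBasic2.SchTop
import Mathlib

/-!
Geometrically pointwise integral schemes over a field: reduced, with disjoint geometric components.
-/

set_option autoImplicit false
universe u

open AlgebraicGeometry CategoryTheory Limits

namespace Groth.GeomComp.PtIntegral

section topology

variable {T : Type u} [TopologicalSpace T]

/-- Finitely many irreducible components are pairwise disjoint iff they are as many as the connected components. -/
theorem pairwiseDisjoint_iff_card (hfin : (irreducibleComponents T).Finite) :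
    (irreducibleComponents T).PairwiseDisjoint id ↔
      Nat.card (irreducibleComponents T) = Nat.card (_root_.ConnectedComponents T) := by
  classical
  haveI := hfin.to_subtype
  let φ : irreducibleComponents T → _root_.ConnectedComponents T := fun Z =>
    ConnectedComponents.mk Z.2.1.nonempty.some
  have hφ : ∀ (Z : irreducibleComponents T) (x : T), x ∈ Z.1 → φ Z = ConnectedComponents.mk x := fun Z x hx =>
    ConnectedComponents.coe_eq_coe'.mpr
      (Z.2.1.isConnected.isPreconnected.subset_connectedComponent hx Z.2.1.nonempty.some_mem)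
  have hsurj : Function.Surjective φ := fun c => by
    obtain ⟨x, rfl⟩ := ConnectedComponents.surjective_coe c
    exact ⟨⟨_, irreducibleComponent_mem_irreducibleComponents x⟩, hφ _ x mem_irreducibleComponent⟩
  refine ⟨fun hd => Nat.card_eq_of_bijective φ ⟨fun Z Z' h => ?_, hsurj⟩, fun hcard => ?_⟩
  · have hopen : IsOpen Z.1 := by
      rw [← isClosed_compl_iff,
        show Z.1ᶜ = ⋃ W ∈ irreducibleComponents T \ {Z.1}, W from Set.ext fun x => by
          simp only [Set.mem_compl_iff, Set.mem_iUnion, Set.mem_sdiff, Set.mem_singleton_iff]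
          exact ⟨fun hx => ⟨irreducibleComponent x, ⟨irreducibleComponent_mem_irreducibleComponents x,
              fun e => hx (e ▸ mem_irreducibleComponent)⟩, mem_irreducibleComponent⟩,
            fun ⟨W, ⟨hW, hne⟩, hxW⟩ hxZ => Set.disjoint_left.mp (hd hW Z.2 hne) hxW hxZ⟩]
      exact hfin.sdiff.isClosed_biUnion fun W hW => isClosed_of_mem_irreducibleComponents W hW.1
    have hmem : Z'.2.1.nonempty.some ∈ Z.1 :=
      IsClopen.connectedComponent_subset ⟨isClosed_of_mem_irreducibleComponents _ Z.2, hopen⟩
        Z.2.1.nonempty.some_mem (ConnectedComponents.coe_eq_coe'.mp h.symm)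
    by_contra hne
    exact Set.disjoint_left.mp (hd Z.2 Z'.2 fun e => hne (Subtype.ext e)) hmem Z'.2.1.nonempty.some_mem
  · have hbij := Nat.bijective_iff_surjective_and_card φ |>.mpr ⟨hsurj, hcard⟩
    intro Z hZ Z' hZ' hne
    refine Set.disjoint_left.mpr fun x hx hx' => hne ?_
    exact congrArg Subtype.val (hbij.1 ((hφ ⟨Z, hZ⟩ x hx).trans (hφ ⟨Z', hZ'⟩ x hx').symm))

theorem pairwiseDisjoint_iff_encard (hfin : (irreducibleComponents T).Finite) :
    (irreducibleComponents T).PairwiseDisjoint id ↔
      (irreducibleComponents T).encard = ENat.card (_root_.ConnectedComponents T) := by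
  haveI := hfin.to_subtype
  haveI : Finite (_root_.ConnectedComponents T) := by
    refine Finite.of_surjective (fun Z : irreducibleComponents T => ConnectedComponents.mk Z.2.1.nonempty.some) fun c => ?_
    obtain ⟨x, rfl⟩ := ConnectedComponents.surjective_coe c
    exact ⟨⟨_, irreducibleComponent_mem_irreducibleComponents x⟩, ConnectedComponents.coe_eq_coe'.mpr
      (isIrreducible_irreducibleComponent.isConnected.isPreconnected.subset_connectedComponent mem_irreducibleComponent
        (irreducibleComponent_mem_irreducibleComponents x).1.nonempty.some_mem)⟩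
  rw [pairwiseDisjoint_iff_card hfin,
    show (irreducibleComponents T).encard = ENat.card (irreducibleComponents T) from rfl,
    ENat.card_eq_coe_natCard, ENat.card_eq_coe_natCard, Nat.cast_inj]

end topology

/-- All local rings are domains iff the scheme is reduced with disjoint irreducible components. -/
theorem forall_isDomain_stalk_iff (Z : Scheme.{u}) :
    (∀ z : Z, IsDomain (Z.presheaf.stalk z)) ↔
      IsReduced Z ∧ (irreducibleComponents (Z : Type u)).PairwiseDisjoint id := by
  rw [Groth.PropsBasic2.pairwiseDisjoint_irreducibleComponents_iff]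
  constructor
  · intro h
    haveI : ∀ z : Z, _root_.IsReduced (Z.presheaf.stalk z) := fun z => by haveI := h z; infer_instance
    exact ⟨isReduced_of_isReduced_stalk Z, fun z => by
      haveI := h z
      rw [nilradical_eq_zero]; exact Ideal.isPrime_bot⟩
  · rintro ⟨hr, hp⟩ z
    haveI : (⊥ : Ideal (Z.presheaf.stalk z)).IsPrime := by
      have := hp z
      rwa [nilradical_eq_zero] at this
    exact IsDomain.of_bot_isPrime _

variable {k : Type u} [Field k] {X : Scheme.{u}}

/-- Geometrically pointwise integral everywhere, on an algebraically closed extension. -/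
theorem forall_isGeomPtIntegralAt_iff_stalk (Ω : Type u) [Field Ω] [Algebra k Ω] [IsAlgClosed Ω]
    (f : X ⟶ Spec (CommRingCat.of k)) :
    (∀ x : X, FBase.IsGeomPtIntegralAt f x) ↔ ∀ z : ↥(FBase.bc f Ω), IsDomain ((FBase.bc f Ω).presheaf.stalk z) := by
  haveI : Surjective (Spec.map (CommRingCat.ofHom (algebraMap k Ω))) :=
    ⟨fun p => ⟨Classical.arbitrary _, Subsingleton.elim _ _⟩⟩
  haveI : Surjective (FBase.bcπ f Ω) := MorphismProperty.pullback_fst _ _ inferInstance
  refine ⟨fun h z => (Groth.FBaseGeom.isGeomPtIntegralAt_iff_isDomain (FBase.bcStr f Ω) z).mp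
    ((Groth.FBaseGeom.isGeomPtIntegralAt_bcStr_iff Ω f z).mp (h _)), fun h x => ?_⟩
  obtain ⟨z, rfl⟩ := (FBase.bcπ f Ω).surjective x
  exact (Groth.FBaseGeom.isGeomPtIntegralAt_bcStr_iff Ω f z).mpr
    ((Groth.FBaseGeom.isGeomPtIntegralAt_iff_isDomain (FBase.bcStr f Ω) z).mpr (h z))

theorem geometricallyReduced_of_forall (f : X ⟶ Spec (CommRingCat.of k))
    (h : ∀ x : X, FBase.IsGeomPtIntegralAt f x) : GeometricallyReduced f := by
  rw [GeometricallyReduced.eq_geometrically, geometrically_iff_of_commRing_of_isClosedUnderIsomorphisms]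
  intro K _ _
  haveI : ∀ z : ↥(FBase.bc f K), _root_.IsReduced ((FBase.bc f K).presheaf.stalk z) := fun z => by
    haveI := h _ K z rfl; infer_instance
  exact isReduced_of_isReduced_stalk (FBase.bc f K)

theorem finite_irreducibleComponents (f : X ⟶ Spec (CommRingCat.of k)) [LocallyOfFiniteType f] [QuasiCompact f] :
    (irreducibleComponents (X : Type u)).Finite := by
  haveI : IsNoetherianRing (CommRingCat.of k) := inferInstanceAs (IsNoetherianRing k)
  haveI : IsLocallyNoetherian X := LocallyOfFiniteType.isLocallyNoetherian f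
  haveI : CompactSpace X := QuasiCompact.compactSpace_of_compactSpace f
  haveI : AlgebraicGeometry.IsNoetherian X := {}
  exact TopologicalSpace.NoetherianSpace.finite_irreducibleComponents

theorem forall_isGeomPtIntegralAt_iff (Ω : Type u) [Field Ω] [Algebra k Ω] [IsAlgClosed Ω]
    (f : X ⟶ Spec (CommRingCat.of k)) [LocallyOfFiniteType f] [QuasiCompact f] :
    (∀ x : X, FBase.IsGeomPtIntegralAt f x) ↔
      (GeometricallyReduced f ∧
        Nat.card ↥(irreducibleComponents ↥(FBase.bc f Ω)) = Nat.card (_root_.ConnectedComponents ↥(FBase.bc f Ω))) := by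
  haveI : LocallyOfFiniteType (FBase.bcStr f Ω) := MorphismProperty.pullback_snd _ _ inferInstance
  haveI : QuasiCompact (FBase.bcStr f Ω) := MorphismProperty.pullback_snd _ _ inferInstance
  have hfin := finite_irreducibleComponents (FBase.bcStr f Ω)
  refine ⟨fun h => ⟨geometricallyReduced_of_forall f h, ?_⟩, fun ⟨hred, hcard⟩ => ?_⟩
  · exact (pairwiseDisjoint_iff_card hfin).mp ((forall_isDomain_stalk_iff _).mp
      ((forall_isGeomPtIntegralAt_iff_stalk Ω f).mp h)).2
  · rw [forall_isGeomPtIntegralAt_iff_stalk Ω f, forall_isDomain_stalk_iff]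
    refine ⟨?_, (pairwiseDisjoint_iff_card hfin).mpr hcard⟩
    exact GeometricallyReduced.geometrically_isReduced _ _ _ (IsPullback.of_hasPullback _ _)

end Groth.GeomComp.PtIntegral
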