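import Groth.Agent.GeomComp.PtIntegralComponents
import Groth.Agent.GeomComp.Constructible
import Groth.Agent.Calg2.Uniform.FibresScheme
import Mathlib

/-!
Constructibility of the set of geometrically pointwise integral fibres.
-/

set_option autoImplicit false
universe u

open AlgebraicGeometry CategoryTheory Limits Topology TopologicalSpace Groth.SpectralTopology

namespace Groth.GeomComp.PtIntegral

/-- Where the two component counts agree is constructible. -/
theorem isConstructible_irred_eq_conn {X S : Scheme.{u}} [AlgebraicGeometry.IsNoetherian S] (f : X ⟶ S)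
    [LocallyOfFiniteType f] [QuasiCompact f] :
    IsConstructible {y : S | MoreMor.nGeomIrredComp f y = MoreMor.nGeomConnComp f y} := by
  refine isConstructible_of_forall_integral fun Z i _ _ _ => ?_
  obtain ⟨V, hne, hV⟩ := exists_open_nGeomComp_eq (pullback.snd f i)
  have hbc := nGeomComp_baseChange f (pullback.snd f i) (pullback.fst f i) i (IsPullback.of_hasPullback f i)
  obtain ⟨b1, b2⟩ := hbc (genericPoint ↥Z)
  have hz : ∀ z ∈ V, MoreMor.nGeomIrredComp f (i z) = MoreMor.nGeomIrredComp f (i (genericPoint ↥Z)) ∧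
      MoreMor.nGeomConnComp f (i z) = MoreMor.nGeomConnComp f (i (genericPoint ↥Z)) := fun z hz => by
    obtain ⟨h1, h2⟩ := hV z hz
    obtain ⟨a1, a2⟩ := hbc z
    exact ⟨a1.symm.trans (h1.trans b1), a2.symm.trans (h2.trans b2)⟩
  by_cases h : MoreMor.nGeomIrredComp f (i (genericPoint ↥Z)) = MoreMor.nGeomConnComp f (i (genericPoint ↥Z))
  · exact Or.inl (hne.mono (interior_maximal (fun z hzV => (hz z hzV).1.trans (h.trans (hz z hzV).2.symm)) V.isOpen))
  · exact Or.inr (hne.mono (interior_maximal
      (fun z hzV hzn => h ((hz z hzV).1.symm.trans (hzn.trans (hz z hzV).2))) V.isOpen))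

theorem isLocallyConstructible_irred_eq_conn {X Y : Scheme.{u}} (f : X ⟶ Y) [LocallyOfFinitePresentation f]
    [QuasiCompact f] [QuasiSeparated f] :
    IsLocallyConstructible {y : ↑Y | MoreMor.nGeomIrredComp f y = MoreMor.nGeomConnComp f y} := by
  refine isLocallyConstructible_of_affines fun V hV => ?_
  let A : CommRingCat.{u} := Γ(Y, V)
  let f' : pullback f hV.fromSpec ⟶ (fgCone A).pt := pullback.snd f hV.fromSpec
  haveI : LocallyOfFinitePresentation f' := MorphismProperty.pullback_snd _ _ inferInstance
  haveI : QuasiCompact f' := MorphismProperty.pullback_snd _ _ inferInstance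
  haveI : QuasiSeparated f' := MorphismProperty.pullback_snd _ _ inferInstance
  obtain ⟨k, ⟨M⟩⟩ := exists_stageModel (isLimitFgCone A) f'
  haveI : LocallyOfFiniteType M.hom := inferInstance
  let q : (V : Scheme.{u}) ⟶ _ := hV.isoSpec.hom ≫ (fgCone A).π.app k
  convert q.isConstructible_preimage (isConstructible_irred_eq_conn M.hom) using 1
  ext v
  obtain ⟨a1, a2⟩ := nGeomComp_baseChange f f' (pullback.fst f hV.fromSpec) hV.fromSpec
    (IsPullback.of_hasPullback f hV.fromSpec) (hV.isoSpec.hom v)
  obtain ⟨b1, b2⟩ := nGeomComp_baseChange M.hom f' M.map _ M.sq (hV.isoSpec.hom v)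
  have hv : hV.fromSpec (hV.isoSpec.hom v) = V.ι v := by
    rw [← Scheme.Hom.comp_apply, hV.isoSpec_hom_fromSpec]
  show MoreMor.nGeomIrredComp f (V.ι v) = MoreMor.nGeomConnComp f (V.ι v) ↔
    MoreMor.nGeomIrredComp M.hom (q v) = MoreMor.nGeomConnComp M.hom (q v)
  rw [show MoreMor.nGeomIrredComp f (V.ι v) = MoreMor.nGeomIrredComp M.hom (q v) from
      ((congrArg (MoreMor.nGeomIrredComp f) hv).symm.trans a1.symm).trans b1,
    show MoreMor.nGeomConnComp f (V.ι v) = MoreMor.nGeomConnComp M.hom (q v) from
      ((congrArg (MoreMor.nGeomConnComp f) hv).symm.trans a2.symm).trans b2]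

theorem forall_isGeomPtIntegralAt_fiber_iff {X S : Scheme.{u}} (f : X ⟶ S) [LocallyOfFiniteType f] [QuasiCompact f]
    (s : S) :
    (∀ x : ↥(f.fiber s), FBase.IsGeomPtIntegralAt (f.fiberToSpecResidueField s) x) ↔
      GeometricallyReduced (f.fiberToSpecResidueField s) ∧
        MoreMor.nGeomIrredComp f s = MoreMor.nGeomConnComp f s := by
  let κ := IsLocalRing.ResidueField (S.presheaf.stalk s)
  let Ω := AlgebraicClosure κ
  let g : f.fiber s ⟶ Spec (CommRingCat.of κ) := f.fiberToSpecResidueField s
  haveI : LocallyOfFiniteType g := MorphismProperty.pullback_snd _ _ inferInstance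
  haveI : QuasiCompact g := MorphismProperty.pullback_snd _ _ inferInstance
  haveI : LocallyOfFiniteType (FBase.bcStr g Ω) :=
    MorphismProperty.pullback_snd _ _ inferInstance
  haveI : QuasiCompact (FBase.bcStr g Ω) :=
    MorphismProperty.pullback_snd _ _ inferInstance
  have hfin := finite_irreducibleComponents (FBase.bcStr g Ω)
  let t : Spec (CommRingCat.of Ω) ⟶ Spec (S.residueField s) := Spec.map (CommRingCat.ofHom (algebraMap κ Ω))
  let e := (pullbackLeftPullbackSndIso f (S.fromSpecResidueField s) t).hom.homeomorph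
  obtain ⟨h1, h2⟩ := nGeomComp_eq f s (t ≫ S.fromSpecResidueField s)
    ((Scheme.Hom.comp_apply _ _ _).trans (S.fromSpecResidueField_apply s _))
  rw [h1, h2, ← irreducibleComponents_encard_of_homeomorph e, ← connectedComponents_card_of_homeomorph e]
  refine (forall_isGeomPtIntegralAt_iff Ω g).trans ?_
  refine and_congr_right fun _ => ?_
  exact (pairwiseDisjoint_iff_card hfin).symm.trans (pairwiseDisjoint_iff_encard hfin)

theorem isLocallyConstructible_forall_isGeomPtIntegralAt {X S : Scheme.{u}} (f : X ⟶ S)
    [LocallyOfFinitePresentation f] [QuasiCompact f] [QuasiSeparated f] :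
    IsLocallyConstructible {s : S | ∀ x : ↥(f.fiber s), FBase.IsGeomPtIntegralAt (f.fiberToSpecResidueField s) x} := by
  simp only [forall_isGeomPtIntegralAt_fiber_iff f]
  exact (Groth.Calg2.Uniform.isLocallyConstructible_geometricallyReduced f).inter
    (isLocallyConstructible_irred_eq_conn f)

end Groth.GeomComp.PtIntegral
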