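import Groth.Agent.GeomComp.SplitModel
import Groth.Agent.GeomComp.PtIntegralComponents
import Groth.Agent.EGA43Topo.ComponentUnique
import Mathlib

/-!
The locus of points where the fibre is geometrically pointwise integral.
-/

set_option autoImplicit false
universe u

open AlgebraicGeometry CategoryTheory Limits Topology TopologicalSpace

namespace Groth.GeomComp.PtIntegral

/-- The fibre through `x` is geometrically pointwise integral at `x`. -/
def PIF {X Y : Scheme.{u}} (f : X ⟶ Y) (x : X) : Prop :=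
  FBase.IsGeomPtIntegralAt (f.fiberToSpecResidueField (f.base x)) (f.asFiber x)

theorem pif_fiberι_iff {X Y : Scheme.{u}} (f : X ⟶ Y) (y : Y) (a : f.fiber y) :
    PIF f ((f.fiberι y).base a) ↔ FBase.IsGeomPtIntegralAt (f.fiberToSpecResidueField y) a := by
  suffices key : ∀ (z : X) (y : Y), f.base z = y → ∀ a : f.fiber y, (f.fiberι y).base a = z →
      (PIF f z ↔ FBase.IsGeomPtIntegralAt (f.fiberToSpecResidueField y) a) from
    key _ y (Groth.FibreDim.apply_fiberι f y a) a rfl
  rintro z y rfl a ha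
  rw [show a = f.asFiber z from (f.fiberι _).isEmbedding.injective (ha.trans (f.fiberι_asFiber z).symm)]
  rfl

/-- A point of a field valued fibre, seen in the base change of the fibre. -/
theorem fiber_point {X Y : Scheme.{u}} (f : X ⟶ Y) {y : Y} {K : Type u} [Field K]
    (φ : Y.residueField y ⟶ CommRingCat.of K) (w : ↥(pullback f (Spec.map φ ≫ Y.fromSpecResidueField y))) :
    ∃ a : f.fiber y, (f.fiberι y).base a = (pullback.fst f (Spec.map φ ≫ Y.fromSpecResidueField y)).base w ∧
      (IsAlgClosed K → (FBase.IsGeomPtIntegralAt (f.fiberToSpecResidueField y) a ↔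
        IsDomain ((pullback f (Spec.map φ ≫ Y.fromSpecResidueField y)).presheaf.stalk w))) ∧
      (FBase.IsGeomReducedAt (f.fiberToSpecResidueField y) a →
        _root_.IsReduced ((pullback f (Spec.map φ ≫ Y.fromSpecResidueField y)).presheaf.stalk w)) := by
  let κ : Type u := IsLocalRing.ResidueField (Y.presheaf.stalk y)
  let g : f.fiber y ⟶ Spec (CommRingCat.of κ) := f.fiberToSpecResidueField y
  let φ' : κ →+* K := φ.hom
  letI : Algebra κ K := φ'.toAlgebra
  let e : FBase.bc g K ≅ pullback f (Spec.map φ ≫ Y.fromSpecResidueField y) :=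
    pullbackLeftPullbackSndIso f (Y.fromSpecResidueField y) (Spec.map φ)
  have h : e.inv ≫ FBase.bcπ g K ≫ f.fiberι y = pullback.fst f _ :=
    pullbackLeftPullbackSndIso_inv_fst f (Y.fromSpecResidueField y) (Spec.map φ)
  let eS := (asIso (e.inv.stalkMap w)).commRingCatIsoToRingEquiv
  refine ⟨(FBase.bcπ g K).base (e.inv.base w), congrArg (fun m => m.base w) h, fun hK => ?_, fun hred => ?_⟩
  · haveI := hK
    show FBase.IsGeomPtIntegralAt g _ ↔ _
    rw [Groth.FBaseGeom.isGeomPtIntegralAt_bcStr_iff K g (e.inv.base w),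
      Groth.FBaseGeom.isGeomPtIntegralAt_iff_isDomain]
    exact eS.toMulEquiv.isDomain_iff
  · haveI := hred K (e.inv.base w) rfl
    exact isReduced_of_injective eS.symm.toRingHom eS.symm.injective

/-- The property is tested by one geometric point. -/
theorem pif_iff {X Y : Scheme.{u}} (f : X ⟶ Y) {K : Type u} [Field K] [IsAlgClosed K] (z : Spec (.of K) ⟶ Y)
    (w : ↥(pullback f z)) :
    PIF f ((pullback.fst f z).base w) ↔ IsDomain ((pullback f z).presheaf.stalk w) := by
  obtain ⟨⟨y, φ⟩, rfl⟩ := (Scheme.SpecToEquivOfField K Y).symm.surjective z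
  obtain ⟨a, ha, h, -⟩ := fiber_point f φ w
  exact (iff_of_eq (congrArg (PIF f) ha.symm)).trans ((pif_fiberι_iff f y a).trans (h inferInstance))

theorem isReduced_stalk_of_grf {X Y : Scheme.{u}} (f : X ⟶ Y) {K : Type u} [Field K] (z : Spec (.of K) ⟶ Y)
    (w : ↥(pullback f z)) (h : Groth.EGA43Topo.CompUnique.GRF f ((pullback.fst f z).base w)) :
    _root_.IsReduced ((pullback f z).presheaf.stalk w) := by
  obtain ⟨⟨y, φ⟩, rfl⟩ := (Scheme.SpecToEquivOfField K Y).symm.surjective z
  obtain ⟨a, ha, -, hr⟩ := fiber_point f φ w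
  exact hr ((Groth.EGA43Topo.CompUnique.grf_fiberι_iff f y a).mp
    ((iff_of_eq (congrArg (Groth.EGA43Topo.CompUnique.GRF f) ha)).mpr h))

theorem grf_of_pif {X Y : Scheme.{u}} (f : X ⟶ Y) (x : X) (h : PIF f x) : Groth.EGA43Topo.CompUnique.GRF f x :=
  fun K _ _ x' hx' => by haveI := h K x' hx'; infer_instance

theorem exists_geometric_point {Y : Scheme.{u}} (y : Y) : ∃ (K : Type u) (_ : Field K) (_ : IsAlgClosed K)
    (z : Spec (.of K) ⟶ Y), z.base (IsLocalRing.closedPoint K) = y :=
  ⟨AlgebraicClosure (Y.residueField y), inferInstance, inferInstance,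
    Spec.map (CommRingCat.ofHom (algebraMap (Y.residueField y) (AlgebraicClosure (Y.residueField y)))) ≫
      Y.fromSpecResidueField y,
    (Scheme.Hom.comp_apply _ _ _).trans (Y.fromSpecResidueField_apply y _)⟩

/-- The property is stable under base change. -/
theorem pif_baseChange {X Y X' Y' : Scheme.{u}} {f : X ⟶ Y} {f' : X' ⟶ Y'} {pr : X' ⟶ X} {t : Y' ⟶ Y}
    (h : IsPullback pr f' f t) (x' : X') : PIF f' x' ↔ PIF f (pr.base x') := by
  obtain ⟨K, _, _, z, hz⟩ := exists_geometric_point (f'.base x')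
  obtain ⟨w, -, hw⟩ := exists_mem_fst_preimage f' z (Set.mem_univ x') (t := IsLocalRing.closedPoint K) hz.symm
  rw [← hw, pif_iff f' z w]
  have hsq : IsPullback (pullback.fst f' z ≫ pr) (pullback.snd f' z) f (z ≫ t) :=
    (IsPullback.of_hasPullback f' z).paste_horiz h
  let e := hsq.isoPullback
  rw [← Scheme.Hom.comp_apply,
    show pullback.fst f' z ≫ pr = e.hom ≫ pullback.fst f (z ≫ t) from hsq.isoPullback_hom_fst.symm,
    Scheme.Hom.comp_apply, pif_iff f (z ≫ t) (e.hom.base w)]
  exact (asIso (e.hom.stalkMap w)).commRingCatIsoToRingEquiv.toMulEquiv.isDomain_iff.symm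

/-- The property is local on the source. -/
theorem pif_comp_openImmersion {W X Y : Scheme.{u}} (f : X ⟶ Y) (j : W ⟶ X) [IsOpenImmersion j] (x : W) :
    PIF (j ≫ f) x ↔ PIF f (j.base x) := by
  obtain ⟨K, _, _, z, hz⟩ := exists_geometric_point ((j ≫ f).base x)
  obtain ⟨w, -, hw⟩ := exists_mem_fst_preimage (j ≫ f) z (Set.mem_univ x) (t := IsLocalRing.closedPoint K) hz.symm
  rw [← hw, pif_iff (j ≫ f) z w]
  let e := pullbackRightPullbackFstIso f z j
  let q : pullback (j ≫ f) z ⟶ pullback f z := e.inv ≫ pullback.snd j (pullback.fst f z)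
  haveI : IsOpenImmersion (pullback.snd j (pullback.fst f z)) := inferInstance
  have hq : q ≫ pullback.fst f z = pullback.fst (j ≫ f) z ≫ j := by
    simp only [q, e, Category.assoc, ← pullback.condition]
    rw [← pullbackRightPullbackFstIso_inv_fst (f := f) (g := z) (f' := j), Category.assoc]
  rw [← Scheme.Hom.comp_apply, ← hq, Scheme.Hom.comp_apply, pif_iff f z (q.base w)]
  exact (asIso (q.stalkMap w)).commRingCatIsoToRingEquiv.toMulEquiv.isDomain_iff.symm

/-- A local ring is a domain iff it is reduced and the point lies on one component only. -/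
theorem isDomain_stalk_iff (Z : Scheme.{u}) (x : Z) :
    IsDomain (Z.presheaf.stalk x) ↔ _root_.IsReduced (Z.presheaf.stalk x) ∧
      ∀ C ∈ irreducibleComponents (Z : Type u), ∀ C' ∈ irreducibleComponents (Z : Type u),
        x ∈ C → x ∈ C' → C = C' := by
  constructor
  · intro h
    refine ⟨inferInstance, fun C hC C' hC' hxC hxC' => ?_⟩
    haveI : IrreducibleSpace (PrimeSpectrum (Z.presheaf.stalk x)) := inferInstance
    let μ : PrimeSpectrum (Z.presheaf.stalk x) := genericPoint _
    have key : ∀ W ∈ irreducibleComponents (Z : Type u), x ∈ W →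
        W = closure {Z.fromSpecStalk x μ} := by
      intro W hW hxW
      obtain ⟨w, hw⟩ := QuasiSober.sober hW.1 (isClosed_of_mem_irreducibleComponents W hW)
      obtain ⟨q, hq⟩ := Groth.PropsBasic2.mem_range_fromSpecStalk_iff.mpr (hw.specializes hxW)
      have hμ : Z.fromSpecStalk x μ ⤳ w := by
        rw [← hq]
        exact ((genericPoint_spec _).specializes trivial).map (Z.fromSpecStalk x).continuous
      have hcw : closure ({w} : Set Z) ∈ irreducibleComponents (Z : Type u) := by rw [hw.def]; exact hW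
      rw [(Groth.PropsBasic2.closure_mem_irreducibleComponents_iff w).mp hcw _ hμ, hw.def]
    exact (key C hC hxC).trans (key C' hC' hxC').symm
  · rintro ⟨hr, h⟩
    obtain ⟨η, hη, hηx⟩ := Groth.PropsBasic2.exists_genericPoint_specializes (x : Z)
    obtain ⟨p, hp⟩ := Groth.PropsBasic2.mem_range_fromSpecStalk_iff.mpr hηx
    have : ∀ q : PrimeSpectrum (Z.presheaf.stalk x), p ⤳ q := fun q => by
      rw [← (Z.fromSpecStalk x).isEmbedding.specializes_iff, hp]
      obtain ⟨η', hη', h'⟩ := Groth.PropsBasic2.exists_genericPoint_specializes (Z.fromSpecStalk x q)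
      have hq : Z.fromSpecStalk x q ⤳ x := Groth.PropsBasic2.mem_range_fromSpecStalk_iff.mp ⟨q, rfl⟩
      exact (specializes_iff_closure_subset.mpr
        (h _ hη _ hη' hηx.mem_closure (h'.trans hq).mem_closure).ge).trans h'
    have huniv : Set.univ = closure ({p} : Set (PrimeSpectrum (Z.presheaf.stalk x))) :=
      Set.ext fun q => by simp only [Set.mem_univ, true_iff]; exact (this q).mem_closure
    haveI : IrreducibleSpace (PrimeSpectrum (Z.presheaf.stalk x)) := by
      rw [irreducibleSpace_def, Set.top_eq_univ, huniv]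
      exact isIrreducible_singleton.closure
    have hn := PrimeSpectrum.irreducibleSpace_iff_isPrime_nilradical.mp (inferInstance : IrreducibleSpace (PrimeSpectrum (Z.presheaf.stalk x)))
    rw [nilradical_eq_zero] at hn
    exact IsDomain.of_bot_isPrime _

theorem irreducibleComponents_of_isSplit {T : Type u} [TopologicalSpace T] {ι : Type} [Finite ι] {S : ι → Set T}
    (h : IsSplit S) : irreducibleComponents T = Set.range S ∧ Function.Injective S := by
  obtain ⟨hS, hcov, hirr⟩ := h
  have key : ∀ t : Set T, IsIrreducible t → ∃ i, t ⊆ S i := fun t ht => by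
    obtain ⟨z, hz, htz⟩ := isIrreducible_iff_sUnion_isClosed.mp ht (Set.finite_range S).toFinset
      (fun z hz => by obtain ⟨i, rfl⟩ := (Set.finite_range S).mem_toFinset.mp hz; exact (hS i).2)
      (fun x _ => by obtain ⟨i, hi⟩ := hcov x; exact ⟨S i, by simp, hi⟩)
    obtain ⟨i, rfl⟩ := (Set.finite_range S).mem_toFinset.mp hz
    exact ⟨i, htz⟩
  refine ⟨Set.ext fun t => ⟨fun ht => ?_, ?_⟩, fun i j e => ?_⟩
  · obtain ⟨i, hi⟩ := key t ht.1
    exact ⟨i, (Set.Subset.antisymm hi (ht.2 (hS i).1 hi)).symm⟩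
  · rintro ⟨i, rfl⟩
    refine ⟨(hS i).1, fun t ht hle => ?_⟩
    obtain ⟨j, hj⟩ := key t ht
    obtain ⟨x, hx, hxi⟩ := hirr i
    rwa [hxi j (hj (hle hx))] at hj
  · obtain ⟨x, hx, hxi⟩ := hirr i
    exact (hxi j (e ▸ hx)).symm

/-- The property in the split case. -/
theorem pif_iff_of_isSplit {X Y : Scheme.{u}} (f : X ⟶ Y) {ι : Type} [Finite ι] {Z : ι → Set X} {V : Y.Opens}
    (hV : ∀ (K : Type u) [Field K] (z : Spec (.of K) ⟶ Y), z.base (IsLocalRing.closedPoint K) ∈ V →
      IsSplit (fun i => (pullback.fst f z).base ⁻¹' Z i)) (x : X) (hx : f.base x ∈ V) :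
    PIF f x ↔ Groth.EGA43Topo.CompUnique.GRF f x ∧ ∀ i j, x ∈ Z i → x ∈ Z j → i = j := by
  obtain ⟨K, _, _, z, hz⟩ := exists_geometric_point (f.base x)
  obtain ⟨w, -, hw⟩ := exists_mem_fst_preimage f z (Set.mem_univ x) (t := IsLocalRing.closedPoint K) hz.symm
  obtain ⟨hcomp, hinj⟩ := irreducibleComponents_of_isSplit (hV K z (hz.symm ▸ hx))
  refine ⟨fun h => ⟨grf_of_pif f x h, fun i j hi hj => hinj ?_⟩, fun ⟨hg, huniq⟩ => ?_⟩
  · rw [← hw, pif_iff, isDomain_stalk_iff] at h
    refine h.2 _ (hcomp ▸ ⟨i, rfl⟩) _ (hcomp ▸ ⟨j, rfl⟩) ?_ ?_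
    · show _ ∈ Z i; rw [hw]; exact hi
    · show _ ∈ Z j; rw [hw]; exact hj
  · rw [← hw, pif_iff, isDomain_stalk_iff]
    refine ⟨isReduced_stalk_of_grf f z w (hw.symm ▸ hg), ?_⟩
    rw [hcomp]
    rintro _ ⟨i, rfl⟩ _ ⟨j, rfl⟩ hi hj
    change (pullback.fst f z).base w ∈ Z i at hi
    change (pullback.fst f z).base w ∈ Z j at hj
    rw [hw] at hi hj
    rw [huniq i j hi hj]

end Groth.GeomComp.PtIntegral
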