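import Groth.Agent.GeomComp.PtIntegralLocus
import Groth.Agent.GeomComp.Constructible
import Groth.Agent.Ega43Geom.ConsBase
import Mathlib

/-!
Constructibility of the locus of points where the fibre is geometrically pointwise integral.
-/

set_option autoImplicit false
universe u

open AlgebraicGeometry CategoryTheory Limits Topology TopologicalSpace Groth.SpectralTopology
open Groth.EGA43Topo.CompUnique (GRF)

namespace Groth.GeomComp.PtIntegral

theorem isLocallyConstructible_grf {X Y : Scheme.{u}} (f : X ⟶ Y) [LocallyOfFinitePresentation f] :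
    IsLocallyConstructible {x : X | GRF f x} := by
  convert (Groth.Ega43FP2.isLocallyConstructible_hasSk f 1).inter
    (Groth.Ega43Geom.isLocallyConstructible_fibSmoothUpTo f 0) using 1
  ext x
  exact Groth.Ega43Geom.geomReducedAt_fibre_iff f _ _

theorem isConstructible_of_isClosed {X : Scheme.{u}} [IsLocallyNoetherian X] [CompactSpace X] (s : Set X)
    (hs : IsClosed s) : IsConstructible s := by
  haveI : AlgebraicGeometry.IsNoetherian X := {}
  exact ((show IsRetrocompact sᶜ from fun t _ _ => TopologicalSpace.NoetherianSpace.isCompact _).isConstructible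
    hs.isOpen_compl).of_compl

theorem pif_comp_mono {X Y Z : Scheme.{u}} (f : X ⟶ Y) (m : Y ⟶ Z) [Mono m] (x : X) : PIF (f ≫ m) x ↔ PIF f x := by
  have h : IsPullback (𝟙 X) f (f ≫ m) m := ⟨⟨Category.id_comp _⟩, ⟨PullbackCone.IsLimit.mk _ (fun s => s.fst)
    (fun s => Category.comp_id _) (fun s => by rw [← cancel_mono m, Category.assoc]; exact s.condition)
    (fun s m' hm _ => by rw [← hm]; exact (Category.comp_id m').symm)⟩⟩
  exact (pif_baseChange h x).symm

/-- Over an integral Noetherian base the locus is constructible above a nonempty open set. -/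
theorem exists_open_isConstructible {X Y : Scheme.{u}} [AlgebraicGeometry.IsNoetherian Y] [IrreducibleSpace ↑Y]
    (f : X ⟶ Y) [LocallyOfFiniteType f] [QuasiCompact f] :
    ∃ V : Y.Opens, (V : Set Y).Nonempty ∧ IsConstructible ({x : X | PIF f x} ∩ f.base ⁻¹' V) := by
  obtain ⟨Y', t, _, _, _, n, Z, V', hZ, htη, hV'ne, hV'⟩ := exists_split_model f
  haveI : IsLocallyNoetherian Y' := LocallyOfFiniteType.isLocallyNoetherian t
  haveI : AlgebraicGeometry.IsNoetherian Y' := {}
  haveI : QuasiCompact t := inferInstance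
  let f' := pullback.snd f t
  let pr := pullback.fst f t
  haveI : IsLocallyNoetherian X := LocallyOfFiniteType.isLocallyNoetherian f
  haveI : CompactSpace X := QuasiCompact.compactSpace_of_compactSpace f
  haveI : AlgebraicGeometry.IsNoetherian X := {}
  haveI : IsLocallyNoetherian (pullback f t) := LocallyOfFiniteType.isLocallyNoetherian f'
  haveI : CompactSpace ↥(pullback f t) := QuasiCompact.compactSpace_of_compactSpace f'
  haveI : AlgebraicGeometry.IsNoetherian (pullback f t) := {}
  haveI : LocallyOfFinitePresentation f' := inferInstance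
  have hcl : ∀ s : Set ↥(pullback f t), IsClosed s → IsConstructible s := isConstructible_of_isClosed
  have hG' : IsConstructible ({x | PIF f' x} ∩ f'.base ⁻¹' V') := by
    have heq : {x | PIF f' x} ∩ f'.base ⁻¹' V' = ({x | GRF f' x} \
        ⋃ p ∈ {p : Fin n × Fin n | p.1 ≠ p.2}, (Z p.1 ∩ Z p.2)) ∩ f'.base ⁻¹' V' := by
      ext x
      simp only [Set.mem_inter_iff, Set.mem_preimage, SetLike.mem_coe, Set.mem_sdiff, Set.mem_ofPred_eq, Set.mem_iUnion,
        not_exists, and_congr_left_iff]
      intro hx
      rw [pif_iff_of_isSplit f' hV' x hx]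
      refine and_congr_right fun _ => ⟨fun h p hp hm => hp (h p.1 p.2 hm.1 hm.2), fun h i j hi hj => ?_⟩
      by_contra hne
      exact h (i, j) hne ⟨hi, hj⟩
    rw [heq]
    refine (((isLocallyConstructible_grf f').isConstructible).sdiff (hcl _ ?_)).inter ?_
    · exact (Set.toFinite _).isClosed_biUnion fun p _ => (hZ _).inter (hZ _)
    · exact (hcl _ (V'.isOpen.preimage f'.continuous).isClosed_compl).of_compl
  obtain ⟨V, hVne, hVt⟩ := Groth.FibreDim.exists_open_subset_range (V'.ι ≫ t) (by
    obtain ⟨w, hw⟩ : genericPoint ↑Y' ∈ Set.range V'.ι.base := by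
      rw [Scheme.Opens.range_ι]
      exact ((genericPoint_spec ↑Y').specializes trivial).mem_open V'.isOpen hV'ne.some_mem
    exact ⟨w, by rw [Scheme.Hom.comp_apply, hw, htη]⟩)
  refine ⟨V, hVne, ?_⟩
  haveI : QuasiCompact pr := inferInstance
  haveI : LocallyOfFinitePresentation pr := inferInstance
  have himg := (pr.isLocallyConstructible_image hG'.isLocallyConstructible).isConstructible
  convert himg.inter ((isConstructible_of_isClosed _ (V.isOpen.preimage f.continuous).isClosed_compl).of_compl)
    using 1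
  ext x
  simp only [Set.mem_inter_iff, Set.mem_preimage, SetLike.mem_coe, Set.mem_ofPred_eq, Set.mem_image]
  refine and_congr_left fun hxV => ⟨fun hx => ?_, ?_⟩
  · obtain ⟨v, hv⟩ := hVt hxV
    rw [Scheme.Hom.comp_apply] at hv
    obtain ⟨w, hw1, hw2⟩ := Scheme.Pullback.exists_preimage_pullback (f := f) (g := t) x (V'.ι.base v) hv.symm
    refine ⟨w, ⟨(pif_baseChange (IsPullback.of_hasPullback f t) w).mpr (hw1 ▸ hx), ?_⟩, hw1⟩
    show f'.base w ∈ V'
    rw [hw2]
    exact v.2
  · rintro ⟨w, ⟨hw, -⟩, rfl⟩
    exact (pif_baseChange (IsPullback.of_hasPullback f t) w).mp hw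

/-- Over a Noetherian base the locus is constructible. -/
theorem isConstructible_pif_of_isNoetherian {X S : Scheme.{u}} [AlgebraicGeometry.IsNoetherian S] (f : X ⟶ S)
    [LocallyOfFiniteType f] [QuasiCompact f] : IsConstructible {x : X | PIF f x} := by
  haveI : IsLocallyNoetherian X := LocallyOfFiniteType.isLocallyNoetherian f
  haveI : CompactSpace X := QuasiCompact.compactSpace_of_compactSpace f
  haveI : AlgebraicGeometry.IsNoetherian X := {}
  refine isConstructible_of_forall_integral fun W i _ _ _ => ?_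
  let y₀ := f.base (i.base (genericPoint ↑W))
  let I := Scheme.IdealSheafData.vanishingIdeal (X := S) ⟨closure {y₀}, isClosed_closure⟩
  let j := I.subschemeι
  have hr : Set.range j.base = closure {y₀} := by
    rw [Scheme.IdealSheafData.range_subschemeι, Scheme.IdealSheafData.coe_support_vanishingIdeal]
    rfl
  obtain ⟨η, hη⟩ : y₀ ∈ Set.range j.base := hr.symm ▸ subset_closure rfl
  have hgen : IsGenericPoint η (Set.univ : Set ↥I.subscheme) := by
    refine Set.eq_univ_of_forall fun w => specializes_iff_mem_closure.mp ?_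
    refine j.isEmbedding.isInducing.specializes_iff.mp ?_
    rw [hη]
    exact specializes_iff_mem_closure.mpr (hr ▸ ⟨w, rfl⟩)
  haveI : IrreducibleSpace ↥I.subscheme := by
    rw [irreducibleSpace_def, Set.top_eq_univ]
    exact hgen.isIrreducible
  haveI : IsLocallyNoetherian I.subscheme := LocallyOfFiniteType.isLocallyNoetherian j
  haveI : CompactSpace ↥I.subscheme := QuasiCompact.compactSpace_of_compactSpace j
  haveI : AlgebraicGeometry.IsNoetherian I.subscheme := {}
  obtain ⟨V, hVne, hV⟩ := exists_open_isConstructible (pullback.snd f j)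
  obtain ⟨O, hO, hOV⟩ := j.isEmbedding.isInducing.isOpen_iff.mp V.isOpen
  let pr := pullback.fst f j
  haveI : LocallyOfFinitePresentation pr := inferInstance
  have hC := (pr.isLocallyConstructible_image hV.isLocallyConstructible).isConstructible
  let N : W.Opens := ⟨(i ≫ f).base ⁻¹' O, hO.preimage (i ≫ f).continuous⟩
  have hNη : genericPoint ↑W ∈ N := by
    show (i ≫ f).base _ ∈ O
    rw [Scheme.Hom.comp_apply]
    show y₀ ∈ O
    rw [← hη]
    show η ∈ j.base ⁻¹' O
    rw [hOV]
    exact (hgen.specializes trivial).mem_open V.isOpen hVne.some_mem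
  have hmem : ∀ w ∈ N, (PIF f (i.base w) ↔ i.base w ∈ pr.base '' ({x | PIF (pullback.snd f j) x} ∩
      (pullback.snd f j).base ⁻¹' V)) := fun w hw => by
    refine ⟨fun h => ?_, ?_⟩
    · have hy : f.base (i.base w) ∈ closure {y₀} :=
        ((((genericPoint_spec ↑W).specializes trivial).map i.continuous).map f.continuous).mem_closure
      rw [← hr] at hy
      obtain ⟨v, hv⟩ := hy
      obtain ⟨p, hp1, hp2⟩ := Scheme.Pullback.exists_preimage_pullback (f := f) (g := j) (i.base w) v hv.symm
      refine ⟨p, ⟨(pif_baseChange (IsPullback.of_hasPullback f j) p).mpr (hp1 ▸ h), ?_⟩, hp1⟩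
      show (pullback.snd f j).base p ∈ V
      rw [hp2]
      show v ∈ (V : Set _)
      rw [← hOV]
      show j.base v ∈ O
      rw [hv]
      exact (Scheme.Hom.comp_apply i f w) ▸ hw
    · rintro ⟨p, ⟨hp, -⟩, hpw⟩
      exact hpw ▸ (pif_baseChange (IsPullback.of_hasPullback f j) p).mp hp
  have hD := i.isConstructible_preimage hC
  by_cases hg : genericPoint ↑W ∈ i.base ⁻¹' (pr.base '' ({x | PIF (pullback.snd f j) x} ∩
      (pullback.snd f j).base ⁻¹' V))
  · obtain ⟨U, hU, hUD⟩ := Groth.Ega43Geom.exists_opens_subset_of_genericPoint_mem hD.isLocallyConstructible hg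
    refine Or.inl ⟨genericPoint ↑W, interior_maximal (t := ((U : Set W) ∩ (N : Set W))) ?_ (U.isOpen.inter N.isOpen) (Set.mem_inter hU hNη)⟩
    exact fun w hw => (hmem w hw.2).mpr (hUD hw.1)
  · obtain ⟨U, hU, hUD⟩ := Groth.Ega43Geom.exists_opens_subset_of_genericPoint_mem hD.compl.isLocallyConstructible hg
    refine Or.inr ⟨genericPoint ↑W, interior_maximal (t := ((U : Set W) ∩ (N : Set W))) ?_ (U.isOpen.inter N.isOpen) (Set.mem_inter hU hNη)⟩
    exact fun w hw h => hUD hw.1 ((hmem w hw.2).mp h)

theorem isLocallyConstructible_pif {X Y : Scheme.{u}} (f : X ⟶ Y) [LocallyOfFinitePresentation f] :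
    IsLocallyConstructible {x : X | PIF f x} := by
  refine Groth.Ega43FP2.isLocallyConstructible_of_charts f _ fun {W} hW {O} hO hWO => ?_
  let A : CommRingCat.{u} := Γ(Y, O)
  let f₁ : Spec Γ(X, W) ⟶ (fgCone A).pt := Spec.map (f.appLE O W hWO)
  have hsq : f₁ ≫ hO.fromSpec = hW.fromSpec ≫ f := hO.SpecMap_appLE_fromSpec f hW hWO
  haveI : LocallyOfFinitePresentation f₁ :=
    (HasRingHomProperty.Spec_iff (P := @LocallyOfFinitePresentation)).mpr (f.finitePresentation_appLE hO hW hWO)
  haveI : QuasiCompact f₁ := inferInstanceAs (QuasiCompact (Spec.map (f.appLE O W hWO)))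
  haveI : QuasiSeparated f₁ := inferInstanceAs (QuasiSeparated (Spec.map (f.appLE O W hWO)))
  obtain ⟨k, ⟨M⟩⟩ := exists_stageModel (isLimitFgCone A) f₁
  haveI : LocallyOfFiniteType M.hom := inferInstance
  convert M.map.isConstructible_preimage (isConstructible_pif_of_isNoetherian M.hom) using 1
  ext w
  show PIF f (hW.fromSpec w) ↔ PIF M.hom (M.map w)
  rw [← pif_comp_openImmersion f hW.fromSpec w, ← hsq, ← pif_baseChange M.sq w]
  exact @pif_comp_mono _ _ _ f₁ hO.fromSpec (inferInstanceAs (Mono (hO.fromSpec : Spec Γ(Y, O) ⟶ Y))) w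

end Groth.GeomComp.PtIntegral
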