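import Groth.Agent.GeomComp.PtIntegralLocusCons
import Groth.Agent.GeomComp.SectionOpen
import Groth.Agent.Limits.DVRPoints
import Groth.Agent.NGeomPts.Lsc
import Groth.Agent.FlatMorOne.FlatLocusModelFlat
import Groth.Agent.S3410
import Groth.Agent.S9812
import Groth.Agent.S2549
import Groth.Agent.S2530
import Mathlib

/-!
Openness of the locus of points where the fibre of a flat morphism is geometrically pointwise integral.
-/

set_option autoImplicit false
universe u

open AlgebraicGeometry CategoryTheory Limits Topology TopologicalSpace IsLocalRing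
open Groth.EGA43Topo.CompUnique (GRF)

namespace Groth.GeomComp.PtIntegral

/-- A valuation ring of a subfield under a discrete valuation ring is discrete, unless it is a field. -/
theorem isDiscreteValuationRing_comap {L M : Type u} [Field L] [Field M] (ι : L →+* M) (W : ValuationSubring M)
    [IsDiscreteValuationRing W] (h : ∃ a : W.comap ι, a ≠ 0 ∧ ¬ IsUnit a) :
    IsDiscreteValuationRing (W.comap ι) := by
  let j : W.comap ι →+* W := (ι.comp (W.comap ι).subtype).codRestrict W.toSubring fun a => a.2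
  have hdvd : ∀ a b : W.comap ι, j a ∣ j b → a ∣ b := by
    rintro a b ⟨c, hc⟩
    have hc' : ι (b : L) = ι (a : L) * (c : M) := congrArg Subtype.val hc
    by_cases ha : (a : L) = 0
    · rw [ha, map_zero, zero_mul, map_eq_zero] at hc'
      exact ⟨0, Subtype.ext (by simp [hc'])⟩
    · have hm : (b : L) / (a : L) ∈ W.comap ι := by
        rw [ValuationSubring.mem_comap, map_div₀, hc', mul_div_cancel_left₀ _ (map_ne_zero ι |>.mpr ha)]
        exact c.2
      exact ⟨⟨_, hm⟩, Subtype.ext (mul_div_cancel₀ _ ha).symm⟩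
  haveI : IsPrincipalIdealRing (W.comap ι) := ⟨fun I => ⟨by
    classical
    obtain ⟨a, ha, hmin⟩ : ∃ a ∈ I, ∀ b ∈ I, IsDiscreteValuationRing.addVal W (j a) ≤ IsDiscreteValuationRing.addVal W (j b) := by
      obtain ⟨v, ⟨a, ha, rfl⟩, hmin⟩ := WellFounded.has_min (wellFounded_lt : WellFounded ((· < ·) : ℕ∞ → ℕ∞ → Prop))
        ((fun a => IsDiscreteValuationRing.addVal W (j a)) '' (I : Set (W.comap ι))) ⟨_, 0, I.zero_mem, rfl⟩
      exact ⟨a, ha, fun b hb => not_lt.mp (hmin _ ⟨b, hb, rfl⟩)⟩
    refine ⟨a, le_antisymm (fun b hb => Submodule.mem_span_singleton.mpr ?_)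
      ((Submodule.span_singleton_le_iff_mem _ _).mpr ha)⟩
    obtain ⟨c, hc⟩ := hdvd a b (IsDiscreteValuationRing.addVal_le_iff_dvd.mp (hmin b hb))
    exact ⟨c, by rw [hc, smul_eq_mul, mul_comm]⟩⟩⟩
  obtain ⟨a, ha0, hau⟩ := h
  exact { not_a_field' := fun hbot => ha0 (by
            have : a ∈ maximalIdeal (W.comap ι) := (mem_maximalIdeal a).mpr hau
            rwa [hbot, Ideal.mem_bot] at this) }

theorem isDomain_stalk_of_preimmersion {Y Z : Scheme.{u}} (g : Y ⟶ Z) [Flat g] [IsPreimmersion g] (y : Y)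
    (h : IsDomain (Z.presheaf.stalk (g y))) : IsDomain (Y.presheaf.stalk y) := by
  haveI := h
  exact (RingEquiv.ofBijective (g.stalkMap y).hom
    ⟨Groth.VarietyBC.injective_stalkMap_of_flat g y, g.stalkMap_surjective y⟩).symm.toMulEquiv.isDomain _

theorem isDomain_stalk_of_specializes {Z : Scheme.{u}} {z z' : Z} (h : z' ⤳ z) [IsDomain (Z.presheaf.stalk z)] :
    IsDomain (Z.presheaf.stalk z') := by
  obtain ⟨p, hp⟩ := Groth.PropsBasic2.mem_range_fromSpecStalk_iff.mpr h
  subst hp
  haveI : IsIntegral (Spec (Z.presheaf.stalk z)) := inferInstance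
  haveI : Flat (Z.fromSpecStalk z) := Groth.VarietyBC.flat_fromSpecStalk Z z
  exact Groth.FBaseGeom.isDomain_stalk_of_flat (Z.fromSpecStalk z) p rfl

/-- Over a discrete valuation ring, a flat morphism with geometrically pointwise integral fibre at a point of the
closed fibre has integral local ring there. -/
theorem isDomain_stalk_of_dvr {V : Type u} [CommRing V] [IsDomain V] [IsDiscreteValuationRing V] {Z : Scheme.{u}}
    (g : Z ⟶ Spec (CommRingCat.of V)) [LocallyOfFiniteType g] [Flat g] (v : Z) (h : PIF g v) :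
    IsDomain (Z.presheaf.stalk v) := by
  haveI : IsNoetherianRing (CommRingCat.of V) := inferInstanceAs (IsNoetherianRing V)
  haveI : LocallyOfFinitePresentation g := inferInstance
  haveI : UniversallyOpen g := inferInstance
  letI : Algebra V ((Spec (CommRingCat.of V)).presheaf.stalk (g.base v)) :=
    show Algebra V ((Spec.structureSheaf V).presheaf.stalk (g.base v)) from inferInstance
  haveI : IsLocalization.AtPrime ((Spec (CommRingCat.of V)).presheaf.stalk (g.base v)) (g.base v).asIdeal :=
    inferInstanceAs (IsLocalization.AtPrime ((Spec.structureSheaf V).presheaf.stalk (g.base v)) (g.base v).asIdeal)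
  haveI : IsDomain ((Spec (CommRingCat.of V)).presheaf.stalk (g.base v)) :=
    IsLocalization.isDomain_of_atPrime (A := V) _ (g.base v).asIdeal
  haveI : IsIntegrallyClosed ((Spec (CommRingCat.of V)).presheaf.stalk (g.base v)) :=
    isIntegrallyClosed_of_isLocalization _ (g.base v).asIdeal.primeCompl (Ideal.primeCompl_le_nonZeroDivisors _)
  exact ((Groth.Agent.S3410.result g v (fun z _ _ => Groth.NGeomPts.isUnivOpenAt_of_universallyOpen g _) h
    (Groth.Agent.S9812.result _)).2 inferInstance).1

theorem eq_of_fromSpecStalk_comp {S : Scheme.{u}} {y : S} {R : CommRingCat.{u}} {φ φ' : S.presheaf.stalk y ⟶ R}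
    (h : Spec.map φ ≫ S.fromSpecStalk y = Spec.map φ' ≫ S.fromSpecStalk y) : φ = φ' :=
  Spec.map_injective ((cancel_mono (S.fromSpecStalk y)).mp h)

/-- A generization of a point with geometrically pointwise integral fibre, seen in the fibre of a base change of
finite type over another point of the base, has integral local ring. -/
theorem isDomain_stalk_generic {X S S' X' : Scheme.{u}} [IsLocallyNoetherian S] {f : X ⟶ S} [Flat f]
    [LocallyOfFiniteType f] {t : S' ⟶ S} [LocallyOfFiniteType t] {pr : X' ⟶ X} {f' : X' ⟶ S'}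
    (sq : IsPullback pr f' f t) {x : X} (hx : PIF f x) (x₂ : X') (hsp : pr.base x₂ ⤳ x)
    (hne : f.base (pr.base x₂) ≠ f.base x) :
    ∃ w : ↥(pullback f' (S'.fromSpecResidueField (f'.base x₂))),
      (pullback.fst f' (S'.fromSpecResidueField (f'.base x₂))).base w = x₂ ∧
        IsDomain ((pullback f' (S'.fromSpecResidueField (f'.base x₂))).presheaf.stalk w) := by
  let η' := f'.base x₂
  haveI : IsLocallyNoetherian X := LocallyOfFiniteType.isLocallyNoetherian f
  haveI : LocallyOfFiniteType pr := MorphismProperty.of_isPullback sq.flip inferInstance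
  have hη : t.base η' = f.base (pr.base x₂) :=
    ((Scheme.Hom.comp_apply pr f x₂).symm.trans ((congrArg (fun m => m.base x₂) sq.w).trans
      (Scheme.Hom.comp_apply f' t x₂))).symm
  have hspt : t.base η' ⤳ f.base x := hη ▸ hsp.map f.continuous
  let φS := Groth.Limits.toResidue t η' (y' := f.base x) hspt
  let ψ := Groth.Limits.toResidue pr x₂ (y' := x) hsp
  let ι : S'.residueField η' ⟶ X'.residueField x₂ := f'.residueFieldMap x₂
  have hcomp : f.stalkMap x ≫ ψ = φS ≫ ι := eq_of_fromSpecStalk_comp (by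
    rw [Spec.map_comp, Category.assoc, Scheme.SpecMap_stalkMap_fromSpecStalk,
      ← Category.assoc, Groth.Limits.toResidue_fromSpecStalk, Category.assoc, sq.w,
      Spec.map_comp, Category.assoc, Groth.Limits.toResidue_fromSpecStalk]
    exact (Scheme.Hom.SpecMap_residueFieldMap_fromSpecResidueField_assoc f' x₂ t).symm)
  obtain ⟨r, hr, hr0⟩ : ∃ r ∈ maximalIdeal (S.presheaf.stalk (f.base x)), φS.hom r ≠ 0 := by
    by_contra hcon
    push Not at hcon
    refine hne (hη.symm.trans ?_)
    have hcl : (Spec.map φS ≫ S.fromSpecStalk (f.base x)) (closedPoint (S'.residueField η')) = f.base x := by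
      rw [Scheme.Hom.comp_apply]
      have : Spec.map φS (closedPoint (S'.residueField η')) = closedPoint (S.presheaf.stalk (f.base x)) := by
        refine PrimeSpectrum.ext ?_
        refine ((maximalIdeal.isMaximal _).eq_of_le (Spec.map φS _).isPrime.ne_top ?_).symm
        intro r hr
        show φS.hom r ∈ maximalIdeal (S'.residueField η')
        rw [hcon r hr]; exact zero_mem _
      rw [this, S.fromSpecStalk_closedPoint]
    rw [Groth.Limits.toResidue_fromSpecStalk, Scheme.Hom.comp_apply, Scheme.fromSpecResidueField_apply] at hcl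
    exact hcl
  have hι : ι.hom (φS.hom r) = ψ.hom ((f.stalkMap x).hom r) := congrArg (fun m => m.hom r) hcomp.symm
  have hrx : (f.stalkMap x).hom r ∈ maximalIdeal (X.presheaf.stalk x) := map_nonunit (f.stalkMap x).hom r hr
  obtain ⟨W, hW, hdvrW, hlocW⟩ := Groth.Limits.exists_dvr_valuationSubring ψ.hom
    (Groth.Limits.essFiniteType_toResidue pr x₂ hsp)
    ⟨_, hrx, fun h0 => hr0 ((map_eq_zero_iff _ ι.hom.injective).mp (hι.trans h0))⟩
  let V : ValuationSubring (S'.residueField η') := W.comap ι.hom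
  have hV : ∀ a, φS.hom a ∈ V := fun a => by
    show ι.hom (φS.hom a) ∈ W
    rw [show ι.hom (φS.hom a) = ψ.hom ((f.stalkMap x).hom a) from congrArg (fun m => m.hom a) hcomp.symm]
    exact hW _
  let θX : X.presheaf.stalk x ⟶ CommRingCat.of W := CommRingCat.ofHom (ψ.hom.codRestrict W.toSubring hW)
  let j : V →+* W := (ι.hom.comp V.subtype).codRestrict W.toSubring fun a => a.2
  haveI hjloc : IsLocalHom j := ⟨fun a ha => by
    obtain ⟨b, hb⟩ := ha.exists_right_inv
    have hb' : ι.hom (a : S'.residueField η') * (b : X'.residueField x₂) = 1 := congrArg Subtype.val hb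
    have hm : (a : S'.residueField η')⁻¹ ∈ V := by
      show ι.hom _ ∈ W
      rw [map_inv₀, ← eq_inv_of_mul_eq_one_right hb']
      exact b.2
    refine IsUnit.of_mul_eq_one ⟨_, hm⟩ (Subtype.ext (mul_inv_cancel₀ fun h0 => ?_))
    rw [h0, map_zero, zero_mul] at hb'
    exact zero_ne_one hb'⟩
  let a₀ : V := ⟨φS.hom r, hV r⟩
  haveI : IsDiscreteValuationRing V := by
    refine isDiscreteValuationRing_comap ι.hom W ⟨a₀, fun h0 => hr0 (congrArg Subtype.val h0), fun hu => ?_⟩
    have h1 := hu.map j
    have h2 : j a₀ = θX.hom ((f.stalkMap x).hom r) := Subtype.ext hι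
    rw [h2] at h1
    exact (mem_maximalIdeal _).mp hrx (IsUnit.of_map θX.hom _ h1)
  let θS : S.presheaf.stalk (f.base x) ⟶ CommRingCat.of V := CommRingCat.ofHom (φS.hom.codRestrict V.toSubring hV)
  have hθ : f.stalkMap x ≫ θX = θS ≫ CommRingCat.ofHom j := CommRingCat.hom_ext (RingHom.ext fun a =>
    Subtype.ext (congrArg (fun m => m.hom a) hcomp))
  let h : Spec (CommRingCat.of V) ⟶ S := Spec.map θS ≫ S.fromSpecStalk (f.base x)
  let g := pullback.snd f h
  let q : Spec (CommRingCat.of W) ⟶ pullback f h := pullback.lift (Spec.map θX ≫ X.fromSpecStalk x)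
    (Spec.map (CommRingCat.ofHom j)) (by
      rw [Category.assoc, ← Scheme.SpecMap_stalkMap_fromSpecStalk, ← Category.assoc, ← Spec.map_comp, hθ,
        Spec.map_comp, Category.assoc])
  let v := q.base (closedPoint W)
  have hv : (pullback.fst f h).base v = x := by
    rw [← Scheme.Hom.comp_apply, pullback.lift_fst, Scheme.Hom.comp_apply,
      show Spec.map θX (closedPoint W) = closedPoint (X.presheaf.stalk x) from comap_closedPoint θX.hom,
      X.fromSpecStalk_closedPoint]
  haveI : Flat g := MorphismProperty.pullback_snd _ _ inferInstance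
  haveI : LocallyOfFiniteType g := MorphismProperty.pullback_snd _ _ inferInstance
  haveI hdom : IsDomain ((pullback f h).presheaf.stalk v) :=
    isDomain_stalk_of_dvr g v ((pif_baseChange (IsPullback.of_hasPullback f h) v).mpr (hv.symm ▸ hx))
  -- the generic point
  let m : Spec (S'.residueField η') ⟶ Spec (CommRingCat.of V) :=
    Spec.map (CommRingCat.ofHom V.subtype)
  have hm : m ≫ h = S'.fromSpecResidueField η' ≫ t := by
    rw [← Spec.map_comp_assoc]
    exact Groth.Limits.toResidue_fromSpecStalk t η' hspt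
  let P₀ := pullback f' (S'.fromSpecResidueField η')
  let k : P₀ ⟶ pullback f h := pullback.lift (pullback.fst f' _ ≫ pr) (pullback.snd f' _ ≫ m) (by
    rw [Category.assoc, sq.w, Category.assoc, hm, pullback.condition_assoc])
  have hk : IsPullback k (pullback.snd f' (S'.fromSpecResidueField η')) g m := by
    refine IsPullback.of_right ?_ (pullback.lift_snd _ _ _) (IsPullback.of_hasPullback f h)
    rw [pullback.lift_fst, hm]
    exact (IsPullback.of_hasPullback f' (S'.fromSpecResidueField η')).paste_horiz sq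
  haveI : IsPreimmersion m := IsPreimmersion.of_isLocalization (nonZeroDivisors V)
  haveI : Flat m := by
    rw [HasRingHomProperty.Spec_iff (P := @Flat)]
    exact RingHom.flat_algebraMap_iff.mpr (IsLocalization.flat (S'.residueField η') (nonZeroDivisors V))
  haveI : IsPreimmersion k := MorphismProperty.of_isPullback hk.flip inferInstance
  haveI : Flat k := MorphismProperty.of_isPullback hk.flip inferInstance
  let qL : Spec (X'.residueField x₂) ⟶ P₀ := pullback.lift (X'.fromSpecResidueField x₂) (Spec.map ι)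
    (Scheme.Hom.SpecMap_residueFieldMap_fromSpecResidueField f' x₂).symm
  have hqk : qL ≫ k = Spec.map (CommRingCat.ofHom W.subtype) ≫ q := by
    refine pullback.hom_ext ?_ ?_
    · rw [Category.assoc, pullback.lift_fst, pullback.lift_fst_assoc, Category.assoc, pullback.lift_fst,
        ← Spec.map_comp_assoc, show θX ≫ CommRingCat.ofHom W.subtype = ψ from rfl,
        Groth.Limits.toResidue_fromSpecStalk]
    · rw [Category.assoc, pullback.lift_snd, pullback.lift_snd_assoc, Category.assoc, pullback.lift_snd,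
        ← Spec.map_comp, ← Spec.map_comp]
      rfl
  refine ⟨qL.base (closedPoint (X'.residueField x₂)), ?_, isDomain_stalk_of_preimmersion k _ ?_⟩
  · rw [← Scheme.Hom.comp_apply, pullback.lift_fst, Scheme.fromSpecResidueField_apply]
  · rw [← Scheme.Hom.comp_apply, hqk, Scheme.Hom.comp_apply]
    exact isDomain_stalk_of_specializes ((specializes_closedPoint (R := W) _).map q.continuous)

/-- In the fibre the property passes to generizations. -/
theorem pif_of_specializes_fiber {X S : Scheme.{u}} (f : X ⟶ S) [LocallyOfFiniteType f] {x x' : X} (hsp : x' ⤳ x)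
    (he : f.base x' = f.base x) (hx : PIF f x) : PIF f x' := by
  obtain ⟨a', ha'⟩ : x' ∈ Set.range (f.fiberι (f.base x)).base := (f.range_fiberι _).ge he
  let g : f.fiber (f.base x) ⟶ Spec (CommRingCat.of (IsLocalRing.ResidueField (S.presheaf.stalk (f.base x)))) :=
    f.fiberToSpecResidueField (f.base x)
  haveI : LocallyOfFiniteType g := MorphismProperty.pullback_snd _ _ inferInstance
  have hopen := Groth.Agent.S2530.result g
  have hs : a' ⤳ f.asFiber x :=
    (f.fiberι _).isEmbedding.isInducing.specializes_iff.mp (by rw [ha', f.fiberι_asFiber]; exact hsp)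
  rw [← ha', pif_fiberι_iff]
  exact hs.mem_open hopen hx

/-- Over a locally Noetherian base the property passes to generizations for a flat morphism. -/
theorem pif_of_specializes {X S : Scheme.{u}} [IsLocallyNoetherian S] (f : X ⟶ S) [Flat f] [LocallyOfFiniteType f]
    [QuasiCompact f] {x x' : X} (hsp : x' ⤳ x) (hx : PIF f x) : PIF f x' := by
  by_cases he : f.base x' = f.base x
  · exact pif_of_specializes_fiber f hsp he hx
  haveI : LocallyOfFinitePresentation f := inferInstance
  have hgrf : GRF f x' := hsp.mem_open (Groth.Agent.S2549.result f) (grf_of_pif f x hx)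
  let y₀ := f.base x'
  let I := Scheme.IdealSheafData.vanishingIdeal (X := S) ⟨closure {y₀}, isClosed_closure⟩
  let j := I.subschemeι
  have hr : Set.range j.base = closure {y₀} := by
    rw [Scheme.IdealSheafData.range_subschemeι, Scheme.IdealSheafData.coe_support_vanishingIdeal]
    rfl
  obtain ⟨ζ, hζ⟩ : y₀ ∈ Set.range j.base := hr.symm ▸ subset_closure rfl
  have hgen : IsGenericPoint ζ (Set.univ : Set ↥I.subscheme) := by
    refine Set.eq_univ_of_forall fun w => specializes_iff_mem_closure.mp ?_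
    refine j.isEmbedding.isInducing.specializes_iff.mp ?_
    rw [hζ]
    exact specializes_iff_mem_closure.mpr (hr ▸ ⟨w, rfl⟩)
  haveI : IrreducibleSpace ↥I.subscheme := by
    rw [irreducibleSpace_def, Set.top_eq_univ]
    exact hgen.isIrreducible
  let f₁ := pullback.snd f j
  obtain ⟨Y', t, _, _, _, n, Z, V', hZ, htη, hV'ne, hV'⟩ := exists_split_model f₁
  let f₂ := pullback.snd f₁ t
  let pr := pullback.fst f₁ t ≫ pullback.fst f j
  have sq : IsPullback pr f₂ f (t ≫ j) :=
    (IsPullback.of_hasPullback f₁ t).paste_horiz (IsPullback.of_hasPullback f j)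
  let η' := genericPoint ↑Y'
  have hη' : (t ≫ j).base η' = f.base x' := by
    rw [Scheme.Hom.comp_apply, htη, (genericPoint_spec ↥I.subscheme).eq hgen, hζ]
  obtain ⟨x₂, hx₂, hfx₂⟩ : ∃ x₂, pr.base x₂ = x' ∧ f₂.base x₂ = η' := by
    obtain ⟨p, hp1, hp2⟩ := Scheme.Pullback.exists_preimage_pullback (f := f) (g := t ≫ j) x' η' hη'.symm
    refine ⟨(IsPullback.of_hasPullback f (t ≫ j)).isoIsPullback _ _ sq |>.hom.base p, ?_, ?_⟩
    · rw [← Scheme.Hom.comp_apply, IsPullback.isoIsPullback_hom_fst]; exact hp1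
    · rw [← Scheme.Hom.comp_apply, IsPullback.isoIsPullback_hom_snd]; exact hp2
  have hmem : η' ∈ V' := ((genericPoint_spec ↑Y').specializes trivial).mem_open V'.isOpen hV'ne.some_mem
  have huniq : ∀ a b, x₂ ∈ Z a → x₂ ∈ Z b → a = b := by
    haveI : LocallyOfFiniteType (t ≫ j) := inferInstance
    obtain ⟨w, hw, hdom⟩ := isDomain_stalk_generic sq hx x₂ (hx₂.symm ▸ hsp) (hx₂.symm ▸ he)
    obtain ⟨hcomp, hinj⟩ := irreducibleComponents_of_isSplit (hV' _ (Y'.fromSpecResidueField (f₂.base x₂))
      (Set.mem_of_eq_of_mem ((Y'.fromSpecResidueField_apply _ _).trans hfx₂) hmem))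
    intro a b ha hb
    refine hinj ((isDomain_stalk_iff _ w).mp hdom |>.2 _ (hcomp ▸ ⟨a, rfl⟩) _ (hcomp ▸ ⟨b, rfl⟩) ?_ ?_)
    · exact Set.mem_of_eq_of_mem (s := Z a) hw ha
    · exact Set.mem_of_eq_of_mem (s := Z b) hw hb
  obtain ⟨K, _, _, z, hz⟩ := exists_geometric_point η'
  obtain ⟨w, -, hw⟩ := exists_mem_fst_preimage f₂ z (Set.mem_univ x₂) (t := closedPoint K) (hfx₂.trans hz.symm)
  rw [← hx₂, ← pif_baseChange sq x₂, ← hw, pif_iff, isDomain_stalk_iff]
  refine ⟨?_, ?_⟩
  · have hsq : IsPullback (pullback.fst f₂ z ≫ pr) (pullback.snd f₂ z) f (z ≫ t ≫ j) :=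
      (IsPullback.of_hasPullback f₂ z).paste_horiz sq
    let e := hsq.isoPullback
    haveI := isReduced_stalk_of_grf f (z ≫ t ≫ j) (e.hom.base w) (by
      rw [← Scheme.Hom.comp_apply, hsq.isoPullback_hom_fst, Scheme.Hom.comp_apply, hw, hx₂]
      exact hgrf)
    let eS := (asIso (e.hom.stalkMap w)).commRingCatIsoToRingEquiv
    exact isReduced_of_injective eS.symm.toRingHom eS.symm.injective
  · obtain ⟨hcomp, -⟩ := irreducibleComponents_of_isSplit (hV' K z (hz.symm ▸ hmem))
    rw [hcomp]
    rintro _ ⟨a, rfl⟩ _ ⟨b, rfl⟩ ha hb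
    change (pullback.fst f₂ z).base w ∈ Z a at ha
    change (pullback.fst f₂ z).base w ∈ Z b at hb
    rw [hw] at ha hb
    rw [huniq a b ha hb]

theorem isOpen_pif_of_isNoetherian {X S : Scheme.{u}} [AlgebraicGeometry.IsNoetherian S] (f : X ⟶ S) [Flat f]
    [LocallyOfFiniteType f] [QuasiCompact f] : IsOpen {x : X | PIF f x} := by
  haveI : IsLocallyNoetherian X := LocallyOfFiniteType.isLocallyNoetherian f
  haveI : CompactSpace X := QuasiCompact.compactSpace_of_compactSpace f
  haveI : AlgebraicGeometry.IsNoetherian X := {}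
  exact isOpen_iff_mem_nhds.mpr fun x hx => mem_nhds_of_generalizing (isConstructible_pif_of_isNoetherian f)
    fun x' hx' => pif_of_specializes f hx' hx

theorem isOpen_pif {X Y : Scheme.{u}} (f : X ⟶ Y) [Flat f] [LocallyOfFinitePresentation f] :
    IsOpen {x : X | PIF f x} := by
  rw [isOpen_iff_mem_nhds]
  intro x hx
  obtain ⟨O, hO, hxO, -⟩ := exists_isAffineOpen_mem_and_subset (U := (⊤ : Y.Opens)) (x := f x) trivial
  obtain ⟨W, hW, hxW, hWO⟩ := exists_isAffineOpen_mem_and_subset (U := f ⁻¹ᵁ O) (x := x) hxO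
  letI : Algebra Γ(Y, O) Γ(X, W) := (f.appLE O W hWO).hom.toAlgebra
  haveI : Algebra.FinitePresentation Γ(Y, O) Γ(X, W) := f.finitePresentation_appLE hO hW hWO
  haveI : Module.Flat Γ(Y, O) Γ(X, W) := f.flat_appLE hO hW hWO
  obtain ⟨R₁, _, _, S₁, _, _, _, _, _, _, hR₁, hS₁, hfl, hp⟩ :=
    Groth.FlatMorOne.exists_flat_model_algebra Γ(Y, O) Γ(X, W)
  haveI : IsNoetherianRing R₁ := Algebra.FiniteType.isNoetherianRing ℤ R₁
  let f₀ := Spec.map (CommRingCat.ofHom (algebraMap R₁ S₁))
  haveI : IsNoetherianRing (CommRingCat.of R₁) := inferInstanceAs (IsNoetherianRing R₁)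
  haveI : LocallyOfFiniteType f₀ := by
    rw [HasRingHomProperty.Spec_iff (P := @LocallyOfFiniteType)]
    exact RingHom.finiteType_algebraMap.mpr hS₁
  haveI : Flat f₀ := by
    rw [HasRingHomProperty.Spec_iff (P := @Flat)]
    exact RingHom.flat_algebraMap_iff.mpr hfl
  have hpb := isPullback_SpecMap_of_isPushout _ _ _ _
    ((CommRingCat.isPushout_iff_isPushout (R' := Γ(Y, O)) (S := S₁) (S' := Γ(X, W))).mpr hp)
  let f₁ := Spec.map (f.appLE O W hWO)
  have hsq : f₁ ≫ hO.fromSpec = hW.fromSpec ≫ f := hO.SpecMap_appLE_fromSpec f hW hWO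
  have key : ∀ w, PIF f (hW.fromSpec w) ↔ PIF f₀ ((Spec.map (CommRingCat.ofHom (algebraMap S₁ Γ(X, W)))) w) :=
    fun w => by
      rw [← pif_comp_openImmersion f hW.fromSpec w, ← hsq, ← pif_baseChange hpb.flip w]
      exact pif_comp_mono f₁ hO.fromSpec w
  obtain ⟨w, rfl⟩ : x ∈ Set.range hW.fromSpec.base := hW.range_fromSpec.ge hxW
  have hop : IsOpen (hW.fromSpec.base ⁻¹' {x | PIF f x}) := by
    rw [show hW.fromSpec.base ⁻¹' {x | PIF f x} =
      (Spec.map (CommRingCat.ofHom (algebraMap S₁ Γ(X, W)))).base ⁻¹' {x | PIF f₀ x} from Set.ext key]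
    exact (isOpen_pif_of_isNoetherian f₀).preimage
      (Spec.map (CommRingCat.ofHom (algebraMap S₁ Γ(X, W)))).continuous
  exact Filter.mem_of_superset (hW.fromSpec.isOpenEmbedding.isOpenMap.image_mem_nhds (hop.mem_nhds hx))
    (Set.image_preimage_subset _ _)

/-- For a proper morphism the good fibres form an open set. -/
theorem isOpen_forall_fiber {X Y : Scheme.{u}} (f : X ⟶ Y) [IsProper f] [Flat f] [LocallyOfFinitePresentation f] :
    IsOpen {y : Y | ∀ x : ↥(f.fiber y), FBase.IsGeomPtIntegralAt (f.fiberToSpecResidueField y) x} := by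
  suffices heq : {y : Y | ∀ x : ↥(f.fiber y), FBase.IsGeomPtIntegralAt (f.fiberToSpecResidueField y) x} =
      (f.base '' {x : X | PIF f x}ᶜ)ᶜ from
    heq ▸ (f.isClosedMap _ (isOpen_pif f).isClosed_compl).isOpen_compl
  ext y
  simp only [Set.mem_ofPred_eq, Set.mem_compl_iff, Set.mem_image, not_exists, not_and]
  refine ⟨fun h x hx he => hx ?_, fun h a => ?_⟩
  · obtain ⟨a, ha⟩ : x ∈ Set.range (f.fiberι y).base := (f.range_fiberι y).ge he
    rw [← ha]
    exact (pif_fiberι_iff f y a).mpr (h a)
  · by_contra hn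
    exact h ((f.fiberι y).base a) (fun hp => hn ((pif_fiberι_iff f y a).mp hp)) (Groth.FibreDim.apply_fiberι f y a)

end Groth.GeomComp.PtIntegral
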