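import Groth.Agent.GeomComp.Constructible
import Groth.Agent.GeomComp.LowerBound
import Groth.Agent.GrpschAbsch.SectionComp
import Mathlib

/-!
Section components near the generic point of the base.
-/

set_option autoImplicit false
universe u

open AlgebraicGeometry CategoryTheory Limits Topology TopologicalSpace

namespace Groth.GeomComp

theorem connectedSpace_pullback_of_isConnected {X Y : Scheme.{u}} (f : X ⟶ Y) {T : Scheme.{u}} (z : T ⟶ Y)
    {Z : Scheme.{u}} (i : Z ⟶ X) [IsClosedImmersion i]
    (h : _root_.IsConnected ((pullback.fst f z).base ⁻¹' Set.range i.base)) : ConnectedSpace ↥(pullback (i ≫ f) z) := by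
  let m : pullback (i ≫ f) z ⟶ pullback f z := pullback.map _ _ _ _ i (𝟙 _) (𝟙 _) (by simp) (by simp)
  have hsq : IsPullback (pullback.fst (i ≫ f) z) m i (pullback.fst f z) := by
    refine IsPullback.of_bot (v₂₁ := pullback.snd f z) (v₂₂ := f) (h₃₁ := z) ?_ (pullback.lift_fst _ _ _).symm
      (IsPullback.of_hasPullback f z)
    rw [show m ≫ pullback.snd f z = pullback.snd (i ≫ f) z from (pullback.lift_snd _ _ _).trans (Category.comp_id _)]
    exact IsPullback.of_hasPullback (i ≫ f) z
  have hm : IsClosedImmersion m := MorphismProperty.of_isPullback (P := @IsClosedImmersion) hsq inferInstance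
  have hr : Set.range m.base = (pullback.fst f z).base ⁻¹' Set.range i.base := by
    rw [Scheme.Pullback.range_map]
    ext w
    simp
  haveI : ConnectedSpace ↥(Set.range m.base) := isConnected_iff_connectedSpace.mp (hr ▸ h)
  let e := m.isClosedEmbedding.isEmbedding.toHomeomorph
  exact e.symm.surjective.connectedSpace e.symm.continuous

/-- Over an irreducible base the section components are, near the generic point, one of two disjoint closed pieces. -/
theorem exists_open_sectionComponents {X Y : Scheme.{u}} (f : X ⟶ Y) (s : Y ⟶ X) (hs : s ≫ f = 𝟙 Y)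
    [IrreducibleSpace ↑Y] [LocallyOfFiniteType f] [QuasiCompact f] :
    ∃ V : Y.Opens, genericPoint ↑Y ∈ V ∧ ∃ Z Z' : Set X, IsClosed Z ∧ IsClosed Z' ∧
      ∀ x : X, f.base x ∈ V → ((x ∈ Z ↔ x ∈ MoreMor.sectionComponents f s) ∧ (x ∈ Z' ↔ x ∉ Z)) := by
  let η := genericPoint ↑Y
  let p₀ : f.fiber η := Groth.GrpschAbsch.SectionComp.secFib hs η (IsLocalRing.closedPoint _)
  haveI : LocallyOfFiniteType (f.fiberToSpecResidueField η) :=
    inferInstanceAs (LocallyOfFiniteType (pullback.snd f (Y.fromSpecResidueField η)))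
  haveI : IsLocallyNoetherian (f.fiber η) :=
    haveI : IsNoetherianRing ((Y.residueField η : CommRingCat.{u}) : Type u) := inferInstance
    LocallyOfFiniteType.isLocallyNoetherian (f.fiberToSpecResidueField η)
  haveI := Groth.SGA7.IdComponent.locallyConnectedSpace (X := f.fiber η)
  let C : Set ↑(f.fiber η) := connectedComponent p₀
  let Z : Set X := closure ((f.fiberι η).base '' C)
  let Z' : Set X := closure ((f.fiberι η).base '' Cᶜ)
  have hpre : (f.fiberι η).base ⁻¹' Z = C :=
    ((f.fiberι η).isEmbedding.isInducing.closure_eq_preimage_closure_image C).symm.trans isClosed_connectedComponent.closure_eq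
  have hpre' : (f.fiberι η).base ⁻¹' Z' = Cᶜ :=
    ((f.fiberι η).isEmbedding.isInducing.closure_eq_preimage_closure_image Cᶜ).symm.trans
      isOpen_connectedComponent.isClosed_compl.closure_eq
  have hmemη : ∀ x : X, f.base x = η → (x ∈ Z ↔ x ∈ MoreMor.sectionComponents f s) := fun x hx => by
    obtain ⟨w, rfl⟩ : x ∈ Set.range (f.fiberι η).base := by rw [Scheme.Hom.range_fiberι]; exact hx
    rw [Groth.GrpschAbsch.SectionComp.fiberι_mem_iff hs η w]
    exact Set.ext_iff.mp hpre w
  obtain ⟨V₀, ⟨v, hv⟩, hV₀⟩ := Groth.RaynaudGruson.exists_open_generalizing f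
  have hη₀ : η ∈ V₀ := ((genericPoint_spec ↑Y).specializes trivial).mem_open V₀.isOpen hv
  obtain ⟨V₁, hη₁, hV₁⟩ := exists_open_forall_notMem f (Z ∩ Z') (isClosed_closure.inter isClosed_closure)
    (fun x hx hxη => by
      obtain ⟨w, rfl⟩ : x ∈ Set.range (f.fiberι η).base := by rw [Scheme.Hom.range_fiberι]; exact hxη
      exact (Set.ext_iff.mp hpre' w).mp hx.2 ((Set.ext_iff.mp hpre w).mp hx.1))
  let I := Scheme.IdealSheafData.vanishingIdeal (X := X) ⟨Z, isClosed_closure⟩
  have hr : Set.range I.subschemeι.base = Z := by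
    rw [Scheme.IdealSheafData.range_subschemeι, Scheme.IdealSheafData.coe_support_vanishingIdeal]
    rfl
  let g := I.subschemeι ≫ f
  have hg : GeometricallyConnected (g.fiberToSpecResidueField η) := by
    refine ⟨geometrically_iff_of_isClosedUnderIsomorphisms.mpr fun L _ x => ?_⟩
    let z : Spec (.of L) ⟶ Y := x ≫ Y.fromSpecResidueField η
    have hz : ∀ p, z.base p = η := fun p => by
      rw [Scheme.Hom.comp_apply, Y.fromSpecResidueField_apply]
    let sL : Spec (.of L) ⟶ pullback f z :=
      pullback.lift (z ≫ s) (𝟙 _) (by rw [Category.assoc, hs, Category.comp_id, Category.id_comp])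
    have hsL : sL ≫ pullback.snd f z = 𝟙 _ := pullback.lift_snd _ _ _
    have hSC := Groth.GrpschAbsch.SectionComp.preimage_sectionComponents hs (IsPullback.of_hasPullback f z) hsL
      (pullback.lift_fst _ _ _)
    have hS : (pullback.fst f z).base ⁻¹' Z = connectedComponent (sL.base (IsLocalRing.closedPoint L)) := by
      ext w
      have hw : f.base ((pullback.fst f z).base w) = η := by
        rw [← Scheme.Hom.comp_apply, pullback.condition, Scheme.Hom.comp_apply, hz]
      rw [Set.mem_preimage, hmemη _ hw]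
      refine (Set.ext_iff.mp hSC w).symm.trans ?_
      show w ∈ connectedComponentIn _ _ ↔ _
      rw [show (pullback.snd f z).base ⁻¹' {(pullback.snd f z).base w} = Set.univ from
        Set.eq_univ_of_forall fun v => Subsingleton.elim (α := PrimeSpectrum L) _ _, connectedComponentIn_univ,
        Subsingleton.elim (α := PrimeSpectrum L) ((pullback.snd f z).base w) (IsLocalRing.closedPoint L)]
    haveI : ConnectedSpace ↥(pullback g z) := connectedSpace_pullback_of_isConnected f z I.subschemeι (by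
      rw [hr, hS]; exact isConnected_connectedComponent)
    let e := pullbackLeftPullbackSndIso g (Y.fromSpecResidueField η) x
    exact e.inv.homeomorph.surjective.connectedSpace e.inv.homeomorph.continuous
  obtain ⟨V₂, ⟨v₂, hv₂⟩, hV₂⟩ := exists_open_geometricallyConnected g hg
  have hη₂ : η ∈ V₂ := ((genericPoint_spec ↑Y).specializes trivial).mem_open V₂.isOpen hv₂
  refine ⟨V₀ ⊓ V₁ ⊓ V₂, ⟨⟨hη₀, hη₁⟩, hη₂⟩, Z, Z', isClosed_closure, isClosed_closure, fun x hx => ?_⟩
  have hcov : ∀ w : X, f.base w ∈ V₀ → w ∈ Z ∨ w ∈ Z' := fun w hw => by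
    obtain ⟨u, huw, huη⟩ := hV₀ w hw
    obtain ⟨u, rfl⟩ : u ∈ Set.range (f.fiberι η).base := by rw [Scheme.Hom.range_fiberι]; exact huη
    by_cases hu : u ∈ C
    · exact Or.inl (huw.mem_closed isClosed_closure (subset_closure ⟨u, hu, rfl⟩))
    · exact Or.inr (huw.mem_closed isClosed_closure (subset_closure ⟨u, hu, rfl⟩))
  have hiff : ∀ w : X, f.base w ∈ V₀ ⊓ V₁ ⊓ V₂ → (w ∈ Z' ↔ w ∉ Z) := fun w hw =>
    ⟨fun h h' => hV₁ w ⟨h', h⟩ hw.1.2, fun h => (hcov w hw.1.1).resolve_left h⟩
  refine ⟨?_, hiff x hx⟩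
  let y := f.base x
  have hsy : s.base y ∈ Z := by
    have h1 : s.base η ⤳ s.base y := ((genericPoint_spec ↑Y).specializes trivial).map s.continuous
    refine h1.mem_closed isClosed_closure ((hmemη _ ?_).mpr ?_)
    · rw [← Scheme.Hom.comp_apply, hs]; rfl
    · show s.base η ∈ connectedComponentIn _ _
      have h2 : f.base (s.base η) = η := by rw [← Scheme.Hom.comp_apply, hs]; rfl
      rw [h2]
      exact mem_connectedComponentIn h2
  have hfs : f.base (s.base y) = y := by rw [← Scheme.Hom.comp_apply, hs]; rfl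
  constructor
  · intro hxZ
    have hconn : _root_.IsConnected (f.base ⁻¹' {y} ∩ Z) := by
      obtain ⟨w, rfl⟩ : x ∈ Set.range I.subschemeι.base := hr.symm ▸ hxZ
      have h1 := (g ∣_ V₂).isConnected_preimage_singleton ⟨y, hx.2⟩
      have h2 := h1.image ((g ⁻¹ᵁ V₂).ι ≫ I.subschemeι).base (Scheme.Hom.continuous _).continuousOn
      convert h2 using 1
      ext v
      constructor
      · rintro ⟨hvy, hvZ⟩
        obtain ⟨v', rfl⟩ : v ∈ Set.range I.subschemeι.base := hr.symm ▸ hvZ
        have hv' : v' ∈ g ⁻¹ᵁ V₂ := by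
          show g.base v' ∈ V₂
          rw [Scheme.Hom.comp_apply, show f.base (I.subschemeι.base v') = y from hvy]
          exact hx.2
        refine ⟨⟨v', hv'⟩, ?_, by rw [Scheme.Hom.comp_apply]; rfl⟩
        apply V₂.ι.isOpenEmbedding.injective
        rw [← Scheme.Hom.comp_apply, morphismRestrict_ι, Scheme.Hom.comp_apply, Scheme.Hom.comp_apply]
        exact hvy
      · rintro ⟨v', hv', rfl⟩
        refine ⟨?_, hr ▸ ⟨_, (Scheme.Hom.comp_apply _ _ _).symm⟩⟩
        show f.base _ = y
        rw [← Scheme.Hom.comp_apply, Category.assoc, ← morphismRestrict_ι g V₂, Scheme.Hom.comp_apply, hv']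
        rfl
    exact hconn.isPreconnected.subset_connectedComponentIn (x := s.base y) ⟨hfs, hsy⟩
      Set.inter_subset_left ⟨rfl, hxZ⟩
  · intro hxSC
    by_contra hxZ
    have hP : _root_.IsPreconnected (connectedComponentIn (f.base ⁻¹' {y}) (s.base y)) := isPreconnected_connectedComponentIn
    have hsub := connectedComponentIn_subset (f.base ⁻¹' {y}) (s.base y)
    have hV : ∀ w ∈ f.base ⁻¹' {y}, f.base w ∈ V₀ ⊓ V₁ ⊓ V₂ := fun w hw => by
      rw [show f.base w = y from hw]; exact hx
    obtain ⟨w, hw, hwZ, hwZ'⟩ := isPreconnected_closed_iff.mp hP Z Z' isClosed_closure isClosed_closure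
      (fun w hw => hcov w (hV w (hsub hw)).1.1) ⟨s.base y, mem_connectedComponentIn hfs, hsy⟩
      ⟨x, hxSC, (hiff x hx).mpr hxZ⟩
    exact (hiff w (hV w (hsub hw))).mp hwZ' hwZ

/-- Section components are clopen over a nonempty open of the closure of any point. -/
theorem exists_clopen_in_closure {X Y : Scheme.{u}} (f : X ⟶ Y) (s : Y ⟶ X) (hs : s ≫ f = 𝟙 Y)
    [LocallyOfFiniteType f] [QuasiCompact f] (y : Y) :
    ∃ V : Set ↑Y, V ⊆ closure {y} ∧ y ∈ V ∧ IsOpen (Subtype.val ⁻¹' V : Set ↑(closure ({y} : Set ↑Y))) ∧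
      IsClopen (Subtype.val ⁻¹' MoreMor.sectionComponents f s : Set ↑(f ⁻¹' V)) := by
  let I := Scheme.IdealSheafData.vanishingIdeal (X := Y) ⟨closure {y}, isClosed_closure⟩
  let ι := I.subschemeι
  have hr : Set.range ι.base = closure {y} := by
    rw [Scheme.IdealSheafData.range_subschemeι, Scheme.IdealSheafData.coe_support_vanishingIdeal]
    rfl
  obtain ⟨η, hη⟩ : y ∈ Set.range ι.base := hr.symm ▸ subset_closure rfl
  have hgen : IsGenericPoint η (Set.univ : Set ↥I.subscheme) := by
    refine Set.eq_univ_of_forall fun w => specializes_iff_mem_closure.mp ?_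
    refine ι.isEmbedding.isInducing.specializes_iff.mp ?_
    rw [hη]
    exact specializes_iff_mem_closure.mpr (hr ▸ ⟨w, rfl⟩)
  haveI : IrreducibleSpace ↥I.subscheme := by
    rw [irreducibleSpace_def, Set.top_eq_univ]
    exact hgen.isIrreducible
  have heq : genericPoint ↥I.subscheme = η := (genericPoint_spec ↥I.subscheme).eq hgen
  let s' : I.subscheme ⟶ pullback f ι :=
    pullback.lift (ι ≫ s) (𝟙 _) (by rw [Category.assoc, hs, Category.comp_id, Category.id_comp])
  have hs' : s' ≫ pullback.snd f ι = 𝟙 _ := pullback.lift_snd _ _ _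
  have hSC := Groth.GrpschAbsch.SectionComp.preimage_sectionComponents hs (IsPullback.of_hasPullback f ι) hs'
    (pullback.lift_fst _ _ _)
  obtain ⟨V, hV, Z, Z', hZ, hZ', hmem⟩ := exists_open_sectionComponents (pullback.snd f ι) s' hs'
  rw [heq] at hV
  refine ⟨ι.base '' V, (Set.image_subset_range _ _).trans hr.le, ⟨η, hV, hη⟩, ?_, ?_⟩
  · obtain ⟨O, hO, hOV⟩ := ι.isEmbedding.isInducing.isOpen_iff.mp V.isOpen
    have : (Subtype.val ⁻¹' (ι.base '' V) : Set ↑(closure ({y} : Set ↑Y))) = Subtype.val ⁻¹' O := by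
      ext ⟨x, hx⟩
      constructor
      · rintro ⟨w, hw, rfl : ι.base w = x⟩
        rw [← hOV] at hw; exact hw
      · intro hxO
        obtain ⟨w, rfl⟩ : x ∈ Set.range ι.base := hr.symm ▸ hx
        exact ⟨w, hOV ▸ hxO, rfl⟩
    rw [this]
    exact hO.preimage continuous_subtype_val
  let q := pullback.fst f ι
  have hlift : ∀ x : ↑(f ⁻¹' (ι.base '' V)), ∃ w, q.base w = x.1 ∧ (pullback.snd f ι).base w ∈ V := by
    rintro ⟨x, v, hv, hvx⟩
    obtain ⟨w, hw1, hw2⟩ := Scheme.Pullback.exists_preimage_pullback (f := f) (g := ι) x v hvx.symm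
    exact ⟨w, hw1, by rw [hw2]; exact hv⟩
  have hqinj : Function.Injective q.base := q.isClosedEmbedding.injective
  have himg : ∀ (T : Set ↥(pullback f ι)) (x : ↑(f ⁻¹' (ι.base '' V))) (w : ↥(pullback f ι)),
      q.base w = x.1 → (x.1 ∈ q.base '' T ↔ w ∈ T) := fun T x w hw => by
    rw [← hw]; exact hqinj.mem_set_image
  constructor
  · have : (Subtype.val ⁻¹' MoreMor.sectionComponents f s : Set ↑(f ⁻¹' (ι.base '' V))) =
        Subtype.val ⁻¹' (q.base '' Z) := by
      ext x
      obtain ⟨w, hw, hwV⟩ := hlift x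
      refine Iff.trans ?_ (himg Z x w hw).symm
      rw [(hmem w hwV).1, hSC]
      show x.1 ∈ MoreMor.sectionComponents f s ↔ q.base w ∈ MoreMor.sectionComponents f s
      rw [hw]
    rw [this]
    exact (q.isClosedEmbedding.isClosedMap Z hZ).preimage continuous_subtype_val
  · have : ((Subtype.val ⁻¹' MoreMor.sectionComponents f s : Set ↑(f ⁻¹' (ι.base '' V))))ᶜ =
        Subtype.val ⁻¹' (q.base '' Z') := by
      ext x
      obtain ⟨w, hw, hwV⟩ := hlift x
      refine Iff.trans ?_ (himg Z' x w hw).symm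
      rw [(hmem w hwV).2, (hmem w hwV).1, hSC]
      show ¬ x.1 ∈ MoreMor.sectionComponents f s ↔ ¬ q.base w ∈ MoreMor.sectionComponents f s
      rw [hw]
    rw [← isClosed_compl_iff, this]
    exact (q.isClosedEmbedding.isClosedMap Z' hZ').preimage continuous_subtype_val

end Groth.GeomComp
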