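import Groth.Agent.GeomComp.GenericConstancy
import Mathlib

/-!
Models over which the components of the geometric fibres are defined.
-/

set_option autoImplicit false
universe u

open AlgebraicGeometry CategoryTheory Limits Topology TopologicalSpace TensorProduct

namespace Groth.GeomComp

/-- Closed irreducible sets covering the space without redundancy. -/
def IsSplit {T : Type*} [TopologicalSpace T] {ι : Type*} (S : ι → Set T) : Prop :=
  (∀ i, IsIrreducible (S i) ∧ IsClosed (S i)) ∧ (∀ x, ∃ i, x ∈ S i) ∧ ∀ i, ∃ x ∈ S i, ∀ j, x ∈ S j → j = i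

/-- In the split case the components of the fibres over an open set are the given closed sets. -/
theorem exists_open_isSplit_of_split {X Y : Scheme.{u}} (f : X ⟶ Y) [IrreducibleSpace ↑Y] [LocallyOfFiniteType f]
    [QuasiCompact f] {ι : Type} [Finite ι] (Z : ι → Set X) (hZ : ∀ i, IsClosed (Z i)) {Ω : Type u} [Field Ω]
    [IsAlgClosed Ω] (z₀ : Spec (.of Ω) ⟶ Y) (hz₀ : z₀.base (IsLocalRing.closedPoint Ω) = genericPoint ↑Y)
    (hirr : ∀ i, IsIrreducible ((pullback.fst f z₀).base ⁻¹' Z i))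
    (hcov : ∀ w, ∃ i, (pullback.fst f z₀).base w ∈ Z i)
    (hirred : ∀ i, ∃ w, (pullback.fst f z₀).base w ∈ Z i ∧ ∀ j, (pullback.fst f z₀).base w ∈ Z j → j = i) :
    ∃ V : Y.Opens, (V : Set ↑Y).Nonempty ∧ ∀ (K : Type u) [Field K] (z : Spec (.of K) ⟶ Y),
      z.base (IsLocalRing.closedPoint K) ∈ V → IsSplit (fun i => (pullback.fst f z).base ⁻¹' Z i) := by
  classical
  let η := genericPoint ↑Y
  have hηmem : ∀ {O : Y.Opens}, (O : Set ↑Y).Nonempty → η ∈ O := fun {O} ⟨v, hv⟩ =>
    ((genericPoint_spec ↑Y).specializes trivial).mem_open O.isOpen hv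
  -- irreducibility
  have hIrr : ∀ i, ∃ V : Y.Opens, η ∈ V ∧ ∀ (K : Type u) [Field K] (z : Spec (.of K) ⟶ Y),
      z.base (IsLocalRing.closedPoint K) ∈ V → IsIrreducible ((pullback.fst f z).base ⁻¹' Z i) := fun i => by
    let I := Scheme.IdealSheafData.vanishingIdeal (X := X) ⟨Z i, hZ i⟩
    have hr : Set.range I.subschemeι.base = Z i := by
      rw [Scheme.IdealSheafData.range_subschemeι, Scheme.IdealSheafData.coe_support_vanishingIdeal]
      rfl
    let g := I.subschemeι ≫ f
    haveI hW : IrreducibleSpace ↥(pullback g z₀) := by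
      rw [irreducibleSpace_pullback_iff f z₀ I.subschemeι, hr]; exact hirr i
    have hg : GeometricallyIrreducible (g.fiberToSpecResidueField η) := by
      refine ⟨geometrically_iff_of_isClosedUnderIsomorphisms.mpr fun L _ x => ?_⟩
      let z : Spec (.of L) ⟶ Y := x ≫ Y.fromSpecResidueField η
      have hz : z.base (IsLocalRing.closedPoint L) = η :=
        (Scheme.Hom.comp_apply _ _ _).trans (Y.fromSpecResidueField_apply η _)
      let M := AlgebraicClosure L
      let zM : Spec (.of M) ⟶ Y := Spec.map (CommRingCat.ofHom (algebraMap L M)) ≫ z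
      have hzM : zM.base (IsLocalRing.closedPoint M) = η := by
        rw [Scheme.Hom.comp_apply, ← hz]
        exact congrArg z.base (Subsingleton.elim _ _)
      have hM : IrreducibleSpace ↥(pullback g zM) := by
        have h1 := (nGeomComp_eq g η z₀ hz₀).1.symm.trans (nGeomComp_eq g η zM hzM).1
        obtain ⟨C, hC⟩ : ∃ C, irreducibleComponents ↥(pullback g zM) = {C} := by
          rw [← Set.encard_eq_one, ← h1, Set.encard_eq_one]
          exact ⟨Set.univ, irreducibleComponents_eq_singleton⟩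
        have huniv : C = Set.univ := Set.eq_univ_of_forall fun w => by
          have := irreducibleComponent_mem_irreducibleComponents w
          rw [hC, Set.mem_singleton_iff] at this
          rw [← this]; exact mem_irreducibleComponent
        rw [irreducibleSpace_def, Set.top_eq_univ]
        have hCm : C ∈ irreducibleComponents ↥(pullback g zM) := by rw [hC]; rfl
        exact huniv ▸ hCm.1
      let e : pullback g zM ≅ pullback (pullback.snd g z) (Spec.map (CommRingCat.ofHom (algebraMap L M))) :=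
        (pullbackLeftPullbackSndIso g z _).symm
      haveI : Surjective (Spec.map (CommRingCat.ofHom (algebraMap L M))) :=
        ⟨fun p => ⟨IsLocalRing.closedPoint _, Subsingleton.elim _ _⟩⟩
      haveI := hM
      have hL : IrreducibleSpace ↥(pullback g z) :=
        ((pullback.fst (pullback.snd g z) (Spec.map (CommRingCat.ofHom (algebraMap L M)))).surjective.comp
          e.hom.homeomorph.surjective).irreducibleSpace
          (Scheme.Hom.continuous _ |>.comp e.hom.homeomorph.continuous)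
      exact (pullbackLeftPullbackSndIso g (Y.fromSpecResidueField η) x).hom.homeomorph.irreducibleSpace_iff.mpr hL
    obtain ⟨V, hVne, hV⟩ := Groth.RaynaudGruson.exists_open_geometricallyIrreducible g hg
    refine ⟨V, hηmem hVne, fun K _ z hz => ?_⟩
    rw [← hr, ← irreducibleSpace_pullback_iff f z I.subschemeι]
    have hzr : Set.range z.base ⊆ Set.range V.ι.base := by
      rintro _ ⟨p, rfl⟩
      rw [Scheme.Opens.range_ι, Subsingleton.elim p (IsLocalRing.closedPoint K)]
      exact hz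
    let z' := IsOpenImmersion.lift V.ι z hzr
    have hz' : z' ≫ V.ι = z := IsOpenImmersion.lift_fac _ _ _
    have h1 := pullback_of_geometrically hV.geometrically_irreducibleSpace K z'
    have e : pullback (g ∣_ V) z' ≅ pullback g (z' ≫ V.ι) :=
      ((IsPullback.of_hasPullback (g ∣_ V) z').paste_horiz (isPullback_morphismRestrict g V).flip).isoPullback
    rw [hz'] at e
    exact e.hom.homeomorph.irreducibleSpace_iff.mp h1
  choose V₁ hV₁η hV₁ using hIrr
  -- images of locally closed pieces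
  have himg : ∀ s : Set X, IsClosed s → ∀ O : X.Opens, (∃ x ∈ s, x ∈ O ∧ f.base x = η) →
      ∃ V : Y.Opens, η ∈ V ∧ ∀ y ∈ V, ∃ x ∈ s, x ∈ O ∧ f.base x = y := fun s hs O ⟨x, hxs, hxO, hxη⟩ => by
    let I := Scheme.IdealSheafData.vanishingIdeal (X := X) ⟨s, hs⟩
    have hr : Set.range I.subschemeι.base = s := by
      rw [Scheme.IdealSheafData.range_subschemeι, Scheme.IdealSheafData.coe_support_vanishingIdeal]
      rfl
    obtain ⟨w, hw⟩ : x ∈ Set.range I.subschemeι.base := hr.symm ▸ hxs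
    let O' := I.subschemeι ⁻¹ᵁ O
    obtain ⟨V, hVne, hV⟩ := Groth.FibreDim.exists_open_subset_range (O'.ι ≫ I.subschemeι ≫ f) (by
      obtain ⟨w', hw'⟩ : w ∈ Set.range O'.ι.base := by
        rw [Scheme.Opens.range_ι]; show I.subschemeι.base w ∈ O; rw [hw]; exact hxO
      exact ⟨w', by rw [Scheme.Hom.comp_apply, hw', Scheme.Hom.comp_apply, hw, hxη]⟩)
    refine ⟨V, hηmem hVne, fun y hy => ?_⟩
    obtain ⟨w', hw'⟩ := hV hy
    refine ⟨I.subschemeι.base (O'.ι.base w'), hr ▸ ⟨_, rfl⟩, ?_, by rw [← hw']; simp⟩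
    have : O'.ι.base w' ∈ Set.range O'.ι.base := ⟨w', rfl⟩
    rw [Scheme.Opens.range_ι] at this
    exact this
  -- irredundancy
  have hUi : ∀ i, ∃ V : Y.Opens, η ∈ V ∧ ∀ y ∈ V, ∃ x ∈ Z i, (∀ j, x ∈ Z j → j = i) ∧ f.base x = y := fun i => by
    obtain ⟨w, hw, hwi⟩ := hirred i
    let O : X.Opens := ⟨(⋃ j ∈ ({i}ᶜ : Set ι), Z j)ᶜ,
      ((Set.toFinite _).isClosed_biUnion fun j _ => hZ j).isOpen_compl⟩
    have hO : ∀ x : X, x ∈ O ↔ ∀ j, x ∈ Z j → j = i := fun x => by
      show x ∈ (⋃ j ∈ ({i}ᶜ : Set ι), Z j)ᶜ ↔ _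
      simp only [Set.mem_compl_iff, Set.mem_iUnion, Set.mem_singleton_iff, not_exists]
      exact forall_congr' fun j => ⟨fun h hx => by by_contra hne; exact h hne hx, fun h hne hx => hne (h hx)⟩
    obtain ⟨V, hVη, hV⟩ := himg (Z i) (hZ i) O ⟨_, hw, (hO _).mpr hwi, (base_fst f z₀ w).trans hz₀⟩
    refine ⟨V, hVη, fun y hy => ?_⟩
    obtain ⟨x, hx1, hx2, hx3⟩ := hV y hy
    exact ⟨x, hx1, (hO x).mp hx2, hx3⟩
  choose V₂ hV₂η hV₂ using hUi
  obtain ⟨V₃, hV₃ne, hV₃⟩ := Groth.RaynaudGruson.exists_open_generalizing f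
  haveI := Fintype.ofFinite ι
  refine ⟨Finset.univ.inf V₁ ⊓ Finset.univ.inf V₂ ⊓ V₃, ⟨η, ?_⟩, fun K _ z hz => ?_⟩
  · exact ⟨⟨mem_finset_inf_iff.mpr fun i _ => hV₁η i, mem_finset_inf_iff.mpr fun i _ => hV₂η i⟩, hηmem hV₃ne⟩
  obtain ⟨⟨h1, h2⟩, h3⟩ := hz
  replace h1 := mem_finset_inf_iff.mp h1
  replace h2 := mem_finset_inf_iff.mp h2
  let y := z.base (IsLocalRing.closedPoint K)
  let S : ι → Set ↥(pullback f z) := fun i => (pullback.fst f z).base ⁻¹' Z i
  have hcov' : ∀ w, ∃ i, w ∈ S i := fun w => by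
    obtain ⟨x', hx's, hx'η⟩ := hV₃ ((pullback.fst f z).base w) (by rw [base_fst]; exact h3)
    obtain ⟨w', -, hw'⟩ := exists_mem_fst_preimage f z₀ (Set.mem_univ x') (hx'η.trans hz₀.symm)
    obtain ⟨i, hi⟩ := hcov w'
    rw [hw'] at hi
    exact ⟨i, hx's.mem_closed (hZ i) hi⟩
  have hirred' : ∀ i, ∃ w ∈ S i, ∀ j, w ∈ S j → j = i := fun i => by
    obtain ⟨x, hxi, hxj, hxy⟩ := hV₂ i y (h2 i (Finset.mem_univ i))
    obtain ⟨w, hw1, hw2⟩ := exists_mem_fst_preimage f z hxi hxy
    exact ⟨w, hw1, fun j hj => hxj j (by rw [← hw2]; exact hj)⟩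
  have hS : ∀ i, IsIrreducible (S i) ∧ IsClosed (S i) := fun i =>
    ⟨hV₁ i K z (h1 i (Finset.mem_univ i)), (hZ i).preimage (Scheme.Hom.continuous _)⟩
  exact ⟨hS, hcov', hirred'⟩

/-- After a dominant base change of finite type the components of the geometric fibres over an open set are
the traces of finitely many closed sets. -/
theorem exists_split_model {X Y : Scheme.{u}} (f : X ⟶ Y) [IrreducibleSpace ↑Y] [LocallyOfFiniteType f]
    [QuasiCompact f] :
    ∃ (Y' : Scheme.{u}) (t : Y' ⟶ Y) (_ : IrreducibleSpace ↑Y') (_ : LocallyOfFiniteType t) (_ : CompactSpace ↑Y')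
      (n : ℕ) (Z : Fin n → Set ↥(pullback f t)) (V : Y'.Opens), (∀ i, IsClosed (Z i)) ∧
      t.base (genericPoint ↑Y') = genericPoint ↑Y ∧ (V : Set ↑Y').Nonempty ∧
      ∀ (K : Type u) [Field K] (z : Spec (.of K) ⟶ Y'), z.base (IsLocalRing.closedPoint K) ∈ V →
        IsSplit (fun i => (pullback.fst (pullback.snd f t) z).base ⁻¹' Z i) := by
  classical
  let η := genericPoint ↑Y
  obtain ⟨U, hU, hη⟩ : ∃ U : Y.Opens, IsAffineOpen U ∧ η ∈ U := by
    obtain ⟨U, hU', hη, -⟩ := TopologicalSpace.Opens.isBasis_iff_nbhd.1 Y.isBasis_affineOpens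
      (TopologicalSpace.Opens.mem_top η)
    exact ⟨U, hU', hη⟩
  let A : Type u := Γ(Y, U)
  let i : Spec (.of A) ⟶ Y := hU.fromSpec
  let Ω := AlgebraicClosure (Y.residueField η)
  let zη : Spec (.of Ω) ⟶ Y :=
    Spec.map (CommRingCat.ofHom (algebraMap (Y.residueField η) Ω)) ≫ Y.fromSpecResidueField η
  have hzη : zη.base (IsLocalRing.closedPoint Ω) = η :=
    (Scheme.Hom.comp_apply _ _ _).trans (Y.fromSpecResidueField_apply η _)
  obtain ⟨φ, hφ⟩ : ∃ φ : CommRingCat.of A ⟶ .of Ω, Spec.map φ ≫ i = zη := by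
    have hr : Set.range zη.base ⊆ Set.range i.base := by
      rintro _ ⟨p, rfl⟩
      rw [hU.range_fromSpec, Subsingleton.elim p (IsLocalRing.closedPoint Ω), hzη]
      exact hη
    obtain ⟨φ, hφ⟩ := Spec.map_surjective (IsOpenImmersion.lift i zη hr)
    exact ⟨φ, by rw [hφ, IsOpenImmersion.lift_fac]⟩
  letI : Algebra A Ω := φ.hom.toAlgebra
  let z₀ : Spec (.of Ω) ⟶ Y := Spec.map (CommRingCat.ofHom (algebraMap A Ω)) ≫ i
  have hz₀ : z₀.base (IsLocalRing.closedPoint Ω) = η := by
    show (Spec.map φ ≫ i).base _ = η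
    rw [hφ]; exact hzη
  obtain ⟨S, hS, hcover⟩ := isCompact_iff_finite_and_eq_biUnion_affineOpens.mp (f.isCompact_preimage hU.isCompact)
  haveI := hS.to_subtype
  have hle : ∀ W : S, W.1.1 ≤ f ⁻¹ᵁ U := fun W x hx => by
    rw [hcover]
    exact TopologicalSpace.Opens.mem_iSup.mpr ⟨W.1, TopologicalSpace.Opens.mem_iSup.mpr ⟨W.2, hx⟩⟩
  letI : ∀ W : S, Algebra A Γ(X, W.1.1) := fun W => (f.appLE U W.1.1 (hle W)).hom.toAlgebra
  have hW2 : ∀ W : S, IsAffineOpen W.1.1 := fun W => W.1.2
  let j : ∀ W : S, Spec (.of Γ(X, W.1.1)) ⟶ X := fun W => (hW2 W).fromSpec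
  have hij : ∀ W : S, j W ≫ f = Spec.map (CommRingCat.ofHom (algebraMap A Γ(X, W.1.1))) ≫ i := fun W =>
    (hU.SpecMap_appLE_fromSpec f (hW2 W) (hle W)).symm
  haveI : ∀ W : S, Algebra.FiniteType A Γ(X, W.1.1) := fun W => f.finiteType_appLE hU (hW2 W) (hle W)
  haveI : LocallyOfFiniteType (pullback.snd f z₀) := inferInstance
  haveI : QuasiCompact (pullback.snd f z₀) := inferInstance
  haveI : IsNoetherianRing (CommRingCat.of Ω) := inferInstanceAs (IsNoetherianRing Ω)
  haveI : IsLocallyNoetherian (pullback f z₀) :=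
    LocallyOfFiniteType.isLocallyNoetherian (pullback.snd f z₀)
  haveI : CompactSpace ↥(pullback f z₀) := QuasiCompact.compactSpace_of_compactSpace (pullback.snd f z₀)
  haveI : AlgebraicGeometry.IsNoetherian (pullback f z₀) := { }
  have hfin : (irreducibleComponents ↥(pullback f z₀)).Finite := NoetherianSpace.finite_irreducibleComponents
  haveI := hfin.to_subtype
  obtain ⟨n, ⟨eI⟩⟩ := Finite.exists_equiv_fin (irreducibleComponents ↥(pullback f z₀))
  let W : Fin n → Set ↥(pullback f z₀) := fun c => (eI.symm c).1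
  have hWc : ∀ c, IsClosed (W c) := fun c => isClosed_of_mem_irreducibleComponents _ (eI.symm c).2
  have hI : ∀ (k : S) (c : Fin n), ∃ G : Finset (Γ(X, k.1.1) ⊗[A] Ω),
      (chart f i (j k) (hij k) Ω).base ⁻¹' W c = PrimeSpectrum.zeroLocus (G : Set (Γ(X, k.1.1) ⊗[A] Ω)) := fun k c => by
    obtain ⟨I, hI⟩ := (PrimeSpectrum.isClosed_iff_zeroLocus_ideal _).mp
      ((hWc c).preimage (chart f i (j k) (hij k) Ω).continuous)
    haveI : IsNoetherianRing (Γ(X, k.1.1) ⊗[A] Ω) :=
      haveI : Algebra.FiniteType Ω (Ω ⊗[A] Γ(X, k.1.1)) := inferInstance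
      haveI : IsNoetherianRing (Ω ⊗[A] Γ(X, k.1.1)) := Algebra.FiniteType.isNoetherianRing Ω _
      isNoetherianRing_of_ringEquiv _ (Algebra.TensorProduct.comm A Ω Γ(X, k.1.1)).toRingEquiv
    obtain ⟨G, hG⟩ := IsNoetherian.noetherian I
    refine ⟨G, hI.trans ?_⟩
    rw [← hG, Ideal.submodule_span_eq, PrimeSpectrum.zeroLocus_span]
  choose G hG using hI
  choose T hT using fun (p : S × Fin n) (g : G p.1 p.2) => exists_fg_lift g.1
  haveI := Fintype.ofFinite S
  let c₀ : Finset Ω := Finset.univ.biUnion fun p => Finset.univ.biUnion (T p)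
  let A₁ := A ⧸ RingHom.ker (algebraMap A Ω)
  haveI : IsDomain A₁ := Ideal.Quotient.isDomain _ (hI := RingHom.ker_isPrime _)
  letI : Algebra A₁ Ω := (RingHom.kerLift (algebraMap A Ω)).toAlgebra
  haveI : IsScalarTower A A₁ Ω := .of_algebraMap_eq fun a => rfl
  let A' := Algebra.adjoin A₁ (c₀ : Set Ω)
  haveI hA'ft : Algebra.FiniteType A₁ A' := (Subalgebra.fg_iff_finiteType _).mp ⟨c₀, rfl⟩
  haveI : Algebra.FiniteType A A₁ := Algebra.FiniteType.of_surjective (Ideal.Quotient.mkₐ A _) (Ideal.Quotient.mkₐ_surjective A _)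
  haveI : Algebra.FiniteType A A' := Algebra.FiniteType.trans (R := A) (S := A₁) (A := A') inferInstance hA'ft
  let g : A' →ₐ[A] Ω := A'.val.restrictScalars A
  have hginj : Function.Injective g := Subtype.val_injective
  let t : Spec (.of A') ⟶ Y := Spec.map (CommRingCat.ofHom (algebraMap A A')) ≫ i
  haveI : IrreducibleSpace ↥(Spec (CommRingCat.of A')) := inferInstanceAs (IrreducibleSpace (PrimeSpectrum A'))
  let z₀' : Spec (.of Ω) ⟶ Spec (.of A') := Spec.map (CommRingCat.ofHom g.toRingHom)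
  have hz₀t : z₀' ≫ t = z₀ := by
    rw [← Category.assoc, ← Spec.map_comp, ← CommRingCat.ofHom_comp,
      show g.toRingHom.comp (algebraMap A A') = algebraMap A Ω from g.comp_algebraMap]
  let q : pullback f z₀ ⟶ pullback f t :=
    pullback.lift (pullback.fst f z₀) (pullback.snd f z₀ ≫ z₀') (by rw [Category.assoc, hz₀t, pullback.condition])
  have hsq : IsPullback q (pullback.snd f z₀) (pullback.snd f t) z₀' := by
    refine IsPullback.of_right ?_ (pullback.lift_snd _ _ _) (IsPullback.of_hasPullback f t)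
    rw [pullback.lift_fst, hz₀t]
    exact IsPullback.of_hasPullback f z₀
  let Z : Fin n → Set ↥(pullback f t) := fun c => closure (q.base '' W c)
  have hpre : ∀ c, q.base ⁻¹' Z c = W c := fun c => by
    refine Set.Subset.antisymm (fun w hw => ?_) (fun w hw => subset_closure ⟨w, hw, rfl⟩)
    have hwU : (pullback.fst f z₀).base w ∈ f ⁻¹ᵁ U := by
      show f.base _ ∈ U
      rw [base_fst f z₀ w, hz₀]; exact hη
    rw [hcover] at hwU
    obtain ⟨k, hk⟩ := TopologicalSpace.Opens.mem_iSup.mp hwU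
    obtain ⟨hkS, hwk⟩ := TopologicalSpace.Opens.mem_iSup.mp hk
    let k' : S := ⟨k, hkS⟩
    haveI := isOpenImmersion_chart (R := A') f i (j k') (hij k')
    haveI := isOpenImmersion_chart (R := Ω) f i (j k') (hij k')
    have hwr : w ∈ Set.range (chart f i (j k') (hij k') Ω).base := by
      rw [range_chart f i (j k') (hij k'), (hW2 k').range_fromSpec]; exact hwk
    obtain ⟨P, rfl⟩ := hwr
    have hnat := map_chart f i (j k') (hij k') g q (pullback.lift_fst _ _ _) (pullback.lift_snd _ _ _)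
    show P ∈ (chart f i (j k') (hij k') Ω).base ⁻¹' W c
    rw [hG k' c]
    intro y hy
    obtain ⟨y', hy'⟩ := hT (k', c) ⟨y, hy⟩ A' g (fun x hx =>
      ⟨⟨x, Algebra.subset_adjoin (Finset.mem_biUnion.mpr ⟨(k', c), Finset.mem_univ _,
        Finset.mem_biUnion.mpr ⟨⟨y, hy⟩, Finset.mem_univ _, hx⟩⟩)⟩, rfl⟩)
    let O : Set ↥(pullback f t) := (chart f i (j k') (hij k') A').base '' ((PrimeSpectrum.basicOpen y' : Opens (PrimeSpectrum (Γ(X, k'.1.1) ⊗[A] A'))) : Set (PrimeSpectrum (Γ(X, k'.1.1) ⊗[A] A')))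
    have hO : IsOpen O := (chart f i (j k') (hij k') A').isOpenEmbedding.isOpenMap _ (PrimeSpectrum.basicOpen y').isOpen
    have hsub : q.base '' W c ⊆ Oᶜ := by
      rintro _ ⟨w2, hw2, rfl⟩ ⟨Q, hQ, hQw⟩
      have hw2r : w2 ∈ Set.range (chart f i (j k') (hij k') Ω).base := by
        rw [range_chart f i (j k') (hij k')]
        show (pullback.fst f z₀).base w2 ∈ Set.range (j k').base
        rw [show pullback.fst f z₀ = q ≫ pullback.fst f t from (pullback.lift_fst _ _ _).symm,
          Scheme.Hom.comp_apply, ← hQw, ← Scheme.Hom.comp_apply, chart_fst, Scheme.Hom.comp_apply]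
        exact ⟨_, rfl⟩
      obtain ⟨P2, rfl⟩ := hw2r
      have h1 := congrArg (fun m => m.base P2) hnat
      simp only [Scheme.Hom.comp_apply] at h1
      rw [h1] at hQw
      have h2 := (chart f i (j k') (hij k') A').isOpenEmbedding.injective hQw
      subst h2
      have h3 : P2 ∈ (chart f i (j k') (hij k') Ω).base ⁻¹' W c := hw2
      rw [hG k' c] at h3
      refine hQ ?_
      show Algebra.TensorProduct.map (AlgHom.id A Γ(X, k'.1.1)) g y' ∈ P2.asIdeal
      rw [hy']
      exact h3 hy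
    have h4 := closure_minimal hsub hO.isClosed_compl hw
    by_contra hyP
    refine h4 ⟨(Spec.map (CommRingCat.ofHom (Algebra.TensorProduct.map (AlgHom.id A Γ(X, k'.1.1)) g).toRingHom)).base P,
      fun h => hyP ?_, ?_⟩
    · exact Eq.mp (congrArg (fun v => v ∈ P.asIdeal) hy') h
    · rw [← Scheme.Hom.comp_apply, ← hnat, Scheme.Hom.comp_apply]
  let e : pullback f z₀ ≅ pullback (pullback.snd f t) z₀' := hsq.isoPullback
  have heq : ∀ w, (pullback.fst (pullback.snd f t) z₀').base w = q.base (e.inv.base w) := fun w => by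
    rw [← Scheme.Hom.comp_apply, hsq.isoPullback_inv_fst]
  have hz₀'η : z₀'.base (IsLocalRing.closedPoint Ω) = genericPoint ↥(Spec (CommRingCat.of A')) := by
    rw [AlgebraicGeometry.genericPoint_eq_bot_of_affine]
    refine PrimeSpectrum.ext ?_
    show (IsLocalRing.maximalIdeal Ω).comap g.toRingHom = ⊥
    rw [IsLocalRing.maximalIdeal_eq_bot]
    exact (RingHom.injective_iff_ker_eq_bot _).mp hginj
  obtain ⟨V', hV'ne, hV'⟩ := exists_open_isSplit_of_split (pullback.snd f t) Z (fun c => isClosed_closure) z₀' hz₀'η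
    (fun c => by
      have : (pullback.fst (pullback.snd f t) z₀').base ⁻¹' Z c = e.inv.homeomorph ⁻¹' W c := by
        ext w; rw [Set.mem_preimage, Set.mem_preimage, heq, ← hpre c]; rfl
      rw [this, ← e.inv.homeomorph.image_symm]
      exact (eI.symm c).2.1.image _ e.inv.homeomorph.symm.continuous.continuousOn)
    (fun w => by
      refine ⟨eI ⟨_, irreducibleComponent_mem_irreducibleComponents (e.inv.base w)⟩, ?_⟩
      rw [heq]
      show e.inv.base w ∈ q.base ⁻¹' Z (eI ⟨_, irreducibleComponent_mem_irreducibleComponents (e.inv.base w)⟩)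
      rw [hpre]
      simp only [W, Equiv.symm_apply_apply]
      exact mem_irreducibleComponent)
    (fun c => by
      obtain ⟨x, hx⟩ := QuasiSober.sober (eI.symm c).2.1 (hWc c)
      refine ⟨e.hom.base x, ?_, fun c' hc' => ?_⟩
      · show _ ∈ Z c
        rw [heq]
        have : e.inv.base (e.hom.base x) = x := by rw [← Scheme.Hom.comp_apply, e.hom_inv_id]; rfl
        show e.inv.base (e.hom.base x) ∈ q.base ⁻¹' Z c
        rw [hpre, this]
        exact hx.mem
      · rw [heq] at hc'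
        have : e.inv.base (e.hom.base x) = x := by rw [← Scheme.Hom.comp_apply, e.hom_inv_id]; rfl
        change e.inv.base (e.hom.base x) ∈ q.base ⁻¹' Z c' at hc'
        rw [hpre, this] at hc'
        have hle : W c ⊆ W c' := by
          rw [show W c = closure {x} from hx.def.symm]
          exact closure_minimal (Set.singleton_subset_iff.mpr hc') (hWc c')
        have hle' : W c' ⊆ W c := (eI.symm c).2.2 (eI.symm c').2.1 hle
        exact (eI.symm.injective (Subtype.ext (Set.Subset.antisymm hle' hle) : eI.symm c' = eI.symm c)))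
  refine ⟨Spec (.of A'), t, inferInstance, ?_, ?_, n, Z, V', fun i => isClosed_closure, ?_, hV'ne, hV'⟩
  · haveI : LocallyOfFiniteType i := inferInstance
    haveI : LocallyOfFiniteType (Spec.map (CommRingCat.ofHom (algebraMap A A'))) := by
      rw [HasRingHomProperty.Spec_iff (P := @LocallyOfFiniteType)]
      exact RingHom.finiteType_algebraMap.mpr inferInstance
    exact inferInstanceAs (LocallyOfFiniteType (_ ≫ _))
  · exact inferInstance
  · rw [← hz₀'η, ← Scheme.Hom.comp_apply, hz₀t]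
    exact hz₀

end Groth.GeomComp
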