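import Groth.Agent.GeomComp.Invariance
import Groth.Agent.HensPair.SteinNormalization
import Groth.Agent.CohFin.ProjFinite
import Groth.Agent.Calg1.InjModMaximal
import Groth.Agent.S3418
import Groth.Agent.S7838
import Mathlib

/-!
Counting geometric components of proper flat schemes over discrete valuation rings by global functions.
-/

set_option autoImplicit false
universe u

open AlgebraicGeometry CategoryTheory Limits Topology TopologicalSpace TensorProduct

namespace Groth.GeomComp

theorem card_primeSpectrum_le {L : Type u} [Field L] [IsAlgClosed L] (C : Type u) [CommRing C] [Algebra L C]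
    [Module.Finite L C] :
    ENat.card (PrimeSpectrum C) ≤ Module.finrank L C ∧
      (_root_.IsReduced C → ENat.card (PrimeSpectrum C) = Module.finrank L C) := by
  haveI : IsArtinianRing C := IsArtinianRing.of_finite L C
  have key : ∀ (D : Type u) [CommRing D] [Algebra L D] [Module.Finite L D] [_root_.IsReduced D],
      ENat.card (PrimeSpectrum D) = Module.finrank L D := by
    intro D _ _ _ _
    haveI : IsArtinianRing D := IsArtinianRing.of_finite L D
    haveI : Fintype (MaximalSpectrum D) := Fintype.ofFinite _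
    have h1 : ∀ m : MaximalSpectrum D, Module.finrank L (D ⧸ m.asIdeal) = 1 := fun m => by
      haveI := m.isMaximal
      letI := Ideal.Quotient.field m.asIdeal
      exact (Module.finrank_eq_of_rank_eq ((LinearEquiv.ofBijective (Algebra.linearMap L (D ⧸ m.asIdeal))
        (IsAlgClosed.algebraMap_bijective_of_isIntegral (k := L))).rank_eq.symm.trans (by simp)))
    rw [((IsArtinianRing.equivPi D).restrictScalars L).toLinearEquiv.finrank_eq, Module.finrank_pi_fintype]
    simp only [h1, Finset.sum_const, Finset.card_univ, smul_eq_mul, mul_one]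
    rw [ENat.card_congr IsArtinianRing.primeSpectrumEquivMaximalSpectrum, ENat.card_eq_coe_fintype_card]
  refine ⟨?_, fun h => key C⟩
  let D := C ⧸ nilradical C
  haveI : _root_.IsReduced D := (Ideal.isRadical_iff_quotient_reduced _).mp (Ideal.radical_isRadical _)
  have e : ENat.card (PrimeSpectrum D) = ENat.card (PrimeSpectrum C) := by
    refine ENat.card_congr (Equiv.ofBijective (PrimeSpectrum.comap (Ideal.Quotient.mk (nilradical C)))
      ⟨PrimeSpectrum.comap_injective_of_surjective _ Ideal.Quotient.mk_surjective, fun p => ?_⟩)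
    have : p ∈ Set.range (PrimeSpectrum.comap (Ideal.Quotient.mk (nilradical C))) := by
      rw [range_comap_of_surjective _ _ Ideal.Quotient.mk_surjective, Ideal.mk_ker]
      exact nilradical_le_prime p.asIdeal
    exact this
  rw [← e, key D]
  exact_mod_cast LinearMap.finrank_le_finrank_of_surjective
    (f := (Ideal.Quotient.mkₐ L (nilradical C)).toLinearMap) Ideal.Quotient.mk_surjective

/-- Geometric count of a finite free algebra at a geometric point. -/
theorem nGeomConnComp_le_finrank {A : Type u} [CommRing A] [Nontrivial A] (B : Type u) [CommRing B] [Algebra A B]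
    [Module.Finite A B] [Module.Free A B] (L : Type u) [Field L] [IsAlgClosed L] [Algebra A L]
    (y : Spec (CommRingCat.of A)) (hy : (Spec.map (CommRingCat.ofHom (algebraMap A L))).base (IsLocalRing.closedPoint L) = y) :
    MoreMor.nGeomConnComp (Spec.map (CommRingCat.ofHom (algebraMap A B))) y ≤ Module.finrank A B ∧
      (_root_.IsReduced (L ⊗[A] B) →
        MoreMor.nGeomConnComp (Spec.map (CommRingCat.ofHom (algebraMap A B))) y = Module.finrank A B) := by
  haveI : IsSepClosed L := inferInstance
  rw [(nGeomComp_eq _ y (Spec.map (CommRingCat.ofHom (algebraMap A L))) hy).2,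
    connectedComponents_card_of_homeomorph (pullbackSymmetry _ _ ≪≫ pullbackSpecIso A L B).hom.homeomorph]
  haveI : IsArtinianRing (L ⊗[A] B) := IsArtinianRing.of_finite L _
  have e : ENat.card (_root_.ConnectedComponents ↥(Spec (CommRingCat.of (L ⊗[A] B)))) =
      ENat.card (PrimeSpectrum (L ⊗[A] B)) := by
    haveI : TotallyDisconnectedSpace (PrimeSpectrum (L ⊗[A] B)) := inferInstance
    exact (ENat.card_congr (Equiv.ofBijective ConnectedComponents.mk
      ⟨fun a b h => by simpa [connectedComponent_eq_singleton] using ConnectedComponents.coe_eq_coe.mp h,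
        ConnectedComponents.surjective_coe⟩)).symm
  rw [e, ← Module.finrank_baseChange (R := L) (S := A) (M' := B)]
  exact card_primeSpectrum_le (L ⊗[A] B)

theorem eq_zero_of_mul_eq_zero {A : Type u} [CommRing A] {X : Scheme.{u}} (f : X ⟶ Spec (CommRingCat.of A)) [Flat f]
    (U : X.Opens) {a : A} (ha : a ∈ nonZeroDivisors A) (b : Γ(X, U))
    (h : X.presheaf.map (homOfLE le_top).op (Groth.HensPair.toΓ f a) * b = 0) : b = 0 := by
  refine TopCat.Sheaf.eq_of_locally_eq' X.sheaf (fun W : {W : X.affineOpens // W.1 ≤ U} => W.1.1) U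
    (fun W => homOfLE W.2) ?_ b 0 fun W => ?_
  · intro x hx
    obtain ⟨W, hW, hxW, hWU⟩ := exists_isAffineOpen_mem_and_subset (U := U) hx
    exact TopologicalSpace.Opens.mem_iSup.mpr ⟨⟨⟨W, hW⟩, hWU⟩, hxW⟩
  · obtain ⟨⟨W, hW⟩, hWU⟩ := W
    show (X.presheaf.map (homOfLE hWU).op) b = (X.presheaf.map (homOfLE hWU).op) 0
    rw [map_zero]
    let ψ : A →+* Γ(X, W) := (X.presheaf.map (homOfLE (le_top (a := W))).op).hom.comp (Groth.HensPair.toΓ f)
    have hψ : ψ.Flat := by
      have h1 := f.flat_appLE (isAffineOpen_top (Spec (CommRingCat.of A))) hW (V := W) le_top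
      have h2 : (Scheme.ΓSpecIso (CommRingCat.of A)).inv.hom.Flat :=
        RingHom.Flat.of_bijective (ConcreteCategory.bijective_of_isIso _)
      have h3 := h2.comp h1
      exact h3
    letI := ψ.toAlgebra
    haveI : Module.Flat A Γ(X, W) := RingHom.flat_algebraMap_iff.1 hψ
    refine Module.Flat.isSMulRegular_of_nonZeroDivisors (R := A) (M := Γ(X, W)) ha ?_
    show a • (X.presheaf.map (homOfLE hWU).op) b = a • (0 : Γ(X, W))
    rw [smul_zero, Algebra.smul_def]
    have h4 := congrArg (X.presheaf.map (homOfLE hWU).op) h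
    rw [map_mul, map_zero, ← CommRingCat.comp_apply, ← Functor.map_comp] at h4
    exact h4

/-- Divisibility of global functions by a nonzerodivisor of the base is local. -/
theorem exists_eq_mul_of_locally {A : Type u} [CommRing A] {X : Scheme.{u}} (f : X ⟶ Spec (CommRingCat.of A)) [Flat f]
    {a : A} (ha : a ∈ nonZeroDivisors A) {ι : Type u} (U : ι → X.Opens) (hU : ⊤ ≤ ⨆ i, U i) (b : Γ(X, ⊤))
    (c : ∀ i, Γ(X, U i))
    (h : ∀ i, X.presheaf.map (homOfLE le_top).op b = X.presheaf.map (homOfLE le_top).op (Groth.HensPair.toΓ f a) * c i) :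
    ∃ b' : Γ(X, ⊤), b = Groth.HensPair.toΓ f a * b' := by
  obtain ⟨b', hb', -⟩ := TopCat.Sheaf.existsUnique_gluing' X.sheaf U ⊤ (fun i => homOfLE le_top) hU c (by
    intro i j
    refine sub_eq_zero.mp (eq_zero_of_mul_eq_zero f (U i ⊓ U j) ha _ ?_)
    show X.presheaf.map (homOfLE le_top).op (Groth.HensPair.toΓ f a) *
      (X.presheaf.map (homOfLE inf_le_left).op (c i) - X.presheaf.map (homOfLE inf_le_right).op (c j)) = 0
    have hi := congrArg (X.presheaf.map (homOfLE (inf_le_left (a := U i) (b := U j))).op) (h i)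
    have hj := congrArg (X.presheaf.map (homOfLE (inf_le_right (a := U i) (b := U j))).op) (h j)
    simp only [map_mul, ← CommRingCat.comp_apply, ← Functor.map_comp, ← op_comp] at hi hj
    exact (mul_sub _ _ _).trans (sub_eq_zero.mpr (hi.symm.trans hj)))
  refine ⟨b', TopCat.Sheaf.eq_of_locally_eq' X.sheaf U ⊤ (fun i => homOfLE le_top) hU b _ fun i => ?_⟩
  exact (h i).trans ((congrArg (X.presheaf.map (homOfLE le_top).op (Groth.HensPair.toΓ f a) * ·) (hb' i)).symm.trans
    (map_mul (X.presheaf.map (homOfLE le_top).op).hom _ _).symm)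

/-- The geometric counts of a proper scheme over a Noetherian ring are those of its algebra of global functions. -/
theorem nGeomConnComp_eq_toΓ {A : Type u} [CommRing A] [IsNoetherianRing A] {X : Scheme.{u}}
    (f : X ⟶ Spec (CommRingCat.of A)) [IsProper f] (y : Spec (CommRingCat.of A)) :
    MoreMor.nGeomConnComp f y = MoreMor.nGeomConnComp (Spec.map (CommRingCat.ofHom (Groth.HensPair.toΓ f))) y := by
  rw [(Groth.Agent.S7838.result f y).2]
  haveI : IsAffine f.normalization := isAffine_of_isAffineHom f.fromNormalization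
  haveI : IsIso f.toNormalization.appTop := Groth.Agent.S1340.result f ⊤
  let e : f.normalization ⟶ Spec Γ(X, ⊤) := f.normalization.isoSpec.hom ≫ Spec.map (inv f.toNormalization.appTop)
  have he : e ≫ Spec.map (CommRingCat.ofHom (Groth.HensPair.toΓ f)) = f.fromNormalization := by
    have h1 : CommRingCat.ofHom (Groth.HensPair.toΓ f) =
        CommRingCat.ofHom (Groth.HensPair.toΓ f.fromNormalization) ≫ f.toNormalization.appTop := by
      show (Scheme.ΓSpecIso _).inv ≫ f.appTop = ((Scheme.ΓSpecIso _).inv ≫ f.fromNormalization.appTop) ≫ _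
      rw [Category.assoc]
      congr 1
      conv_lhs => rw [← f.toNormalization_fromNormalization]
      exact Scheme.Hom.comp_appTop _ _
    rw [Category.assoc, ← Spec.map_comp]
    have h2 : CommRingCat.ofHom (Groth.HensPair.toΓ f) ≫ inv f.toNormalization.appTop =
        CommRingCat.ofHom (Groth.HensPair.toΓ f.fromNormalization) := by
      rw [h1, Category.assoc, IsIso.hom_inv_id, Category.comp_id]
    refine Eq.trans ?_ (Groth.HensPair.toSpecΓ_toGlobal f.fromNormalization)
    exact congrArg (fun m => f.normalization.toSpecΓ ≫ Spec.map m) h2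
  have hsq : IsPullback e f.fromNormalization (Spec.map (CommRingCat.ofHom (Groth.HensPair.toΓ f))) (𝟙 _) :=
    IsPullback.of_horiz_isIso ⟨by rw [Category.comp_id]; exact he⟩
  exact (nGeomComp_baseChange _ f.fromNormalization e (𝟙 _) hsq y).2

section DVR

variable {R : Type u} [CommRing R] [IsDomain R] [IsDiscreteValuationRing R] {X : Scheme.{u}}
  (f : X ⟶ Spec (CommRingCat.of R)) [IsProper f] [Flat f]

/-- The algebra of global functions is finite free. -/
theorem finite_free_globalSections :
    letI := (Groth.HensPair.toΓ f).toAlgebra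
    Module.Finite R Γ(X, ⊤) ∧ Module.Free R Γ(X, ⊤) := by
  letI := (Groth.HensPair.toΓ f).toAlgebra
  haveI hfin : Module.Finite R Γ(X, ⊤) := Groth.HensPair.finite_globalSections_of_proper Groth.CohFin.projFinite f
  haveI : Module.IsTorsionFree R Γ(X, ⊤) := by
    refine ⟨fun r hr b b' hb => sub_eq_zero.mp (eq_zero_of_mul_eq_zero f ⊤ (a := r) ?_ _ ?_)⟩
    · exact mem_nonZeroDivisors_of_ne_zero hr.ne_zero
    · rw [show (homOfLE (le_top : (⊤ : X.Opens) ≤ ⊤)).op = 𝟙 _ from rfl, X.presheaf.map_id, CommRingCat.id_apply,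
        mul_sub, sub_eq_zero]
      exact (Algebra.smul_def r b).symm.trans (hb.trans (Algebra.smul_def r b'))
  exact ⟨hfin, Module.free_of_finite_type_torsion_free'⟩

/-- The global functions have reduced geometric closed fibre. -/
theorem isReduced_tensor_globalSections (hred : GeometricallyReduced (f.fiberToSpecResidueField (IsLocalRing.closedPoint R)))
    (L : Type u) [Field L] [Algebra R L]
    (hL : (Spec.map (CommRingCat.ofHom (algebraMap R L))).base (IsLocalRing.closedPoint L) = IsLocalRing.closedPoint R) :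
    letI := (Groth.HensPair.toΓ f).toAlgebra
    _root_.IsReduced (L ⊗[R] Γ(X, ⊤)) := by
  letI := (Groth.HensPair.toΓ f).toAlgebra
  haveI := CohFin.compactSpace_of_proper f
  obtain ⟨ι, _, U, hU, hUaff⟩ : ∃ (ι : Type u) (_ : Fintype ι) (U : ι → X.Opens), ⊤ ≤ ⨆ i, U i ∧ ∀ i, IsAffineOpen (U i) :=
    ⟨_, inferInstanceAs (Fintype X.affineCover.finiteSubcover.I₀), fun i => (X.affineCover.finiteSubcover.f i).opensRange,
      X.affineCover.finiteSubcover.iSup_opensRange.ge, fun i => isAffineOpen_opensRange _⟩
  let ψ : ∀ i, R →+* Γ(X, U i) := fun i => (X.presheaf.map (homOfLE (le_top (a := U i))).op).hom.comp (Groth.HensPair.toΓ f)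
  letI := fun i => (ψ i).toAlgebra
  let ρ : Γ(X, ⊤) →ₐ[R] (∀ i, Γ(X, U i)) :=
    Pi.algHom R _ fun i => { (X.presheaf.map (homOfLE (le_top (a := U i))).op).hom with commutes' := fun r => rfl }
  have hρ : Function.Injective ρ := fun b b' h => TopCat.Sheaf.eq_of_locally_eq' X.sheaf U ⊤
    (fun i => homOfLE le_top) hU b b' fun i => congrFun h i
  let Q := (∀ i, Γ(X, U i)) ⧸ LinearMap.range ρ.toLinearMap
  haveI : Module.IsTorsionFree R Q := by
    refine ⟨fun r hr q q' hq => ?_⟩
    obtain ⟨c, rfl⟩ := Submodule.Quotient.mk_surjective _ q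
    obtain ⟨c', rfl⟩ := Submodule.Quotient.mk_surjective _ q'
    change r • Submodule.Quotient.mk c = r • Submodule.Quotient.mk c' at hq
    rw [← Submodule.Quotient.mk_smul, ← Submodule.Quotient.mk_smul, Submodule.Quotient.eq, ← smul_sub] at hq
    obtain ⟨b, hb⟩ := hq
    have hr' : r ∈ nonZeroDivisors R := mem_nonZeroDivisors_of_ne_zero hr.ne_zero
    obtain ⟨b', rfl⟩ := exists_eq_mul_of_locally f hr' U hU b (c - c') fun i => by
      refine (congrFun hb i).trans ?_
      rw [Pi.smul_apply, Algebra.smul_def]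
      rfl
    rw [Submodule.Quotient.eq]
    refine ⟨b', ?_⟩
    funext i
    refine sub_eq_zero.mp (eq_zero_of_mul_eq_zero f (U i) hr' _ ?_)
    rw [mul_sub, sub_eq_zero]
    have h5 := congrFun hb i
    rw [Pi.smul_apply, Algebra.smul_def] at h5
    refine Eq.trans ?_ h5
    exact (map_mul (X.presheaf.map (homOfLE (le_top (a := U i))).op).hom _ _).symm
  have hinj : Function.Injective (ρ.toLinearMap.lTensor L) :=
    (LinearMap.lTensor_inj_iff_rTensor_inj _ _).mpr
      (Groth.Calg1.rTensor_injective_of_flat_coker (π := (LinearMap.range ρ.toLinearMap).mkQ) hρ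
        (LinearMap.exact_map_mkQ_range _) (Submodule.mkQ_surjective _) L)
  haveI : ∀ i, _root_.IsReduced (L ⊗[R] Γ(X, U i)) := fun i => by
    let z : Spec (CommRingCat.of L) ⟶ Spec (CommRingCat.of R) := Spec.map (CommRingCat.ofHom (algebraMap R L))
    have hz : z.base (IsLocalRing.closedPoint L) = IsLocalRing.closedPoint R := hL
    obtain ⟨φ, hφ⟩ : ∃ φ : (Spec (CommRingCat.of R)).residueField (IsLocalRing.closedPoint R) ⟶ CommRingCat.of L,
        Spec.map φ ≫ (Spec (CommRingCat.of R)).fromSpecResidueField _ = z := by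
      obtain ⟨⟨p, φ⟩, e⟩ := (Scheme.SpecToEquivOfField L (Spec (CommRingCat.of R))).symm.surjective z
      obtain rfl : p = IsLocalRing.closedPoint R := by
        rw [← hz, ← e]
        exact ((Scheme.Hom.comp_apply _ _ _).trans ((Spec (CommRingCat.of R)).fromSpecResidueField_apply p _)).symm
      exact ⟨φ, e⟩
    haveI : IsReduced (pullback f z) := by
      haveI : IsReduced (pullback (pullback.snd f ((Spec (CommRingCat.of R)).fromSpecResidueField (IsLocalRing.closedPoint R)))
          (Spec.map φ)) :=
        hred.geometrically_isReduced (Spec.map φ) _ _ (IsPullback.of_hasPullback (f.fiberToSpecResidueField (IsLocalRing.closedPoint R)) (Spec.map φ))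
      exact isReduced_of_isOpenImmersion ((pullback.congrHom rfl hφ.symm).hom ≫ (pullbackLeftPullbackSndIso f _ (Spec.map φ)).inv)
    have hUf : (hUaff i).fromSpec ≫ f = Spec.map (CommRingCat.ofHom (algebraMap R Γ(X, U i))) := by
      rw [← IsAffineOpen.SpecMap_appLE_fromSpec f (isAffineOpen_top _) (hUaff i) le_top, IsAffineOpen.fromSpec_top,
        Scheme.isoSpec_Spec_inv, ← Spec.map_comp]
      rfl
    haveI : IsReduced (pullback ((hUaff i).fromSpec ≫ f) z) := isReduced_of_isOpenImmersion
      ((pullbackRightPullbackFstIso f z (hUaff i).fromSpec).inv ≫ pullback.snd _ _)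
    haveI : IsReduced (Spec (CommRingCat.of (L ⊗[R] Γ(X, U i)))) := isReduced_of_isOpenImmersion
      ((pullbackSymmetry _ _ ≪≫ pullbackSpecIso R L Γ(X, U i)).inv ≫ (pullback.congrHom hUf.symm rfl).hom)
    exact isReduced_of_injective (Scheme.ΓSpecIso (CommRingCat.of (L ⊗[R] Γ(X, U i)))).commRingCatIsoToRingEquiv.symm
      (RingEquiv.injective _)
  haveI : _root_.IsReduced (L ⊗[R] (∀ i, Γ(X, U i))) := by
    classical
    exact isReduced_of_injective (Algebra.TensorProduct.piRight R R L (fun i => Γ(X, U i))) (AlgEquiv.injective _)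
  exact isReduced_of_injective (Algebra.TensorProduct.map (AlgHom.id R L) ρ) hinj

/-- **Semicontinuity over a discrete valuation ring.** -/
theorem nGeomConnComp_closed_le :
    MoreMor.nGeomConnComp f (IsLocalRing.closedPoint R) ≤
      MoreMor.nGeomConnComp f (⟨⊥, Ideal.isPrime_bot⟩ : PrimeSpectrum R) := by
  rw [nGeomConnComp_eq_toΓ f, nGeomConnComp_eq_toΓ f]
  obtain ⟨hfin, hfree⟩ := finite_free_globalSections f
  letI : Algebra R Γ(X, ⊤) := (Groth.HensPair.toΓ f).toAlgebra
  haveI : Module.Free R Γ(X, ⊤) := hfree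
  let g := Spec.map (CommRingCat.ofHom (Groth.HensPair.toΓ f))
  haveI : IsFinite g := (HasAffineProperty.iff_of_isAffine (P := @IsFinite)).mpr ⟨inferInstance, by
    have h1 : g.appTop = (Scheme.ΓSpecIso (CommRingCat.of R)).hom ≫ CommRingCat.ofHom (Groth.HensPair.toΓ f) ≫
        (Scheme.ΓSpecIso (CommRingCat.of Γ(X, ⊤))).inv := by
      rw [← Category.assoc, Iso.eq_comp_inv]
      exact Scheme.ΓSpecIso_naturality _
    rw [h1, CommRingCat.hom_comp, CommRingCat.hom_comp]
    exact ((RingHom.Finite.of_surjective _ (ConcreteCategory.bijective_of_isIso _).2).comp hfin).comp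
      (RingHom.Finite.of_surjective _ (ConcreteCategory.bijective_of_isIso _).2)⟩
  haveI : Flat g := by
    rw [HasRingHomProperty.Spec_iff (P := @Flat)]
    show (algebraMap R Γ(X, ⊤)).Flat
    exact RingHom.flat_algebraMap_iff.2 inferInstance
  haveI : LocallyOfFinitePresentation g := by
    rw [HasRingHomProperty.Spec_iff (P := @LocallyOfFinitePresentation)]
    exact RingHom.FinitePresentation.of_finiteType.mp hfin.finiteType
  have hlsc := (Groth.Agent.S3418.result g).1
  by_contra hlt
  rw [not_le] at hlt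
  have hopen : IsOpen {z | MoreMor.nGeomConnComp g (⟨⊥, Ideal.isPrime_bot⟩ : PrimeSpectrum R) < MoreMor.nGeomConnComp g z} :=
    hlsc.isOpen_preimage _
  have hmem : IsLocalRing.closedPoint R ∈ {z : ↥(Spec (CommRingCat.of R)) |
      MoreMor.nGeomConnComp g (⟨⊥, Ideal.isPrime_bot⟩ : PrimeSpectrum R) < MoreMor.nGeomConnComp g z} := hlt
  exact lt_irrefl (MoreMor.nGeomConnComp g (⟨⊥, Ideal.isPrime_bot⟩ : PrimeSpectrum R))
    (((PrimeSpectrum.le_iff_specializes (⟨⊥, Ideal.isPrime_bot⟩ : PrimeSpectrum R)
      (IsLocalRing.closedPoint R)).mp bot_le).mem_open hopen hmem)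

/-- **Constancy over a discrete valuation ring with geometrically reduced closed fibre.** -/
theorem nGeomConnComp_le_closed (hred : GeometricallyReduced (f.fiberToSpecResidueField (IsLocalRing.closedPoint R))) :
    MoreMor.nGeomConnComp f (⟨⊥, Ideal.isPrime_bot⟩ : PrimeSpectrum R) ≤
      MoreMor.nGeomConnComp f (IsLocalRing.closedPoint R) := by
  rw [nGeomConnComp_eq_toΓ f, nGeomConnComp_eq_toΓ f]
  obtain ⟨hfin, hfree⟩ := finite_free_globalSections f
  letI := (Groth.HensPair.toΓ f).toAlgebra
  haveI : Module.Finite R Γ(X, ⊤) := hfin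
  haveI : Module.Free R Γ(X, ⊤) := hfree
  let K := AlgebraicClosure (FractionRing R)
  let k := AlgebraicClosure (IsLocalRing.ResidueField R)
  have hK : (Spec.map (CommRingCat.ofHom (algebraMap R K))).base (IsLocalRing.closedPoint K) =
      (⟨⊥, Ideal.isPrime_bot⟩ : PrimeSpectrum R) := by
    refine PrimeSpectrum.ext ?_
    show (IsLocalRing.maximalIdeal K).comap (algebraMap R K) = ⊥
    rw [IsLocalRing.maximalIdeal_eq_bot, ← RingHom.ker_eq_comap_bot, ← RingHom.injective_iff_ker_eq_bot,
      IsScalarTower.algebraMap_eq R (FractionRing R) K]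
    exact (algebraMap (FractionRing R) K).injective.comp (IsFractionRing.injective R (FractionRing R))
  have hk : (Spec.map (CommRingCat.ofHom (algebraMap R k))).base (IsLocalRing.closedPoint k) =
      IsLocalRing.closedPoint R := by
    refine PrimeSpectrum.ext ?_
    show (IsLocalRing.maximalIdeal k).comap (algebraMap R k) = IsLocalRing.maximalIdeal R
    rw [IsLocalRing.maximalIdeal_eq_bot, ← RingHom.ker_eq_comap_bot,
      IsScalarTower.algebraMap_eq R (IsLocalRing.ResidueField R) k, RingHom.ker_comp_of_injective _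
        (algebraMap (IsLocalRing.ResidueField R) k).injective]
    exact IsLocalRing.ker_residue
  have h2 : _root_.IsReduced (k ⊗[R] Γ(X, ⊤)) := isReduced_tensor_globalSections f hred k hk
  exact (nGeomConnComp_le_finrank Γ(X, ⊤) K _ hK).1.trans_eq ((nGeomConnComp_le_finrank Γ(X, ⊤) k _ hk).2 h2).symm

end DVR

end Groth.GeomComp
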